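import Mathlib.Algebra.CharP.Two
import Mathlib.Algebra.BigOperators.Fin
import Mathlib.Tactic

/-!
# Weights of the natural module of `G₂` in characteristic two that are stable under a Frobenius power

Triples of product one whose eight weights `1, a, b, c, a⁻¹, b⁻¹, c⁻¹, 1` are permuted by `x ↦ x ^ q`.
-/

set_option autoImplicit false

namespace CfsgLib.Lie.G2Weights

variable {K : Type*} [Field K]

/-- the eight weights -/
def dd (a b c : K) : Fin 8 → K := ![1, a, b, c, a⁻¹, b⁻¹, c⁻¹, 1]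

open Classical in
/-- the multiplicity of a weight -/
noncomputable def cnt (a b c x : K) : ℕ := (Finset.univ.filter fun i => dd a b c i = x).card

open Classical in
theorem cnt_eq (a b c x : K) : cnt a b c x = (if 1 = x then 2 else 0) +
    (if a = x then 1 else 0) + (if b = x then 1 else 0) + (if c = x then 1 else 0) +
    (if a⁻¹ = x then 1 else 0) + (if b⁻¹ = x then 1 else 0) + (if c⁻¹ = x then 1 else 0) := by
  let g : K → ℕ := fun y => if y = x then 1 else 0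
  have e : cnt a b c x = ∑ i, g (dd a b c i) := by
    rw [cnt, Finset.card_filter]
  rw [e, Fin.sum_univ_eight]
  simp only [g, dd, Matrix.cons_val]
  rcases Classical.em (1 = x) with h | h <;> simp [h] <;> omega

theorem cnt_swap₁ (a b c x : K) : cnt b a c x = cnt a b c x := by
  classical
  rw [cnt_eq, cnt_eq]; omega

theorem cnt_swap₂ (a b c x : K) : cnt a c b x = cnt a b c x := by
  classical
  rw [cnt_eq, cnt_eq]; omega

theorem cnt_inv (a b c x : K) : cnt a b c x⁻¹ = cnt a b c x := by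
  classical
  rw [cnt_eq, cnt_eq]
  simp only [← inv_eq_iff_eq_inv, inv_inv, inv_one, inv_inj]
  omega

/-- the standing hypotheses -/
structure Stable (q : ℕ) (a b c : K) : Prop where
  prod : a * b * c = 1
  stab : ∀ x, cnt a b c (x ^ q) = cnt a b c x
  inj : ∀ x : K, x ^ q = 1 → x = 1
  pos : 0 < q

theorem Stable.ne_zero {q : ℕ} {a b c : K} (h : Stable q a b c) : a ≠ 0 ∧ b ≠ 0 ∧ c ≠ 0 := by
  have := h.prod
  refine ⟨?_, ?_, ?_⟩ <;> rintro rfl <;> simp at this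

theorem Stable.swap₁ {q : ℕ} {a b c : K} (h : Stable q a b c) : Stable q b a c :=
  ⟨by rw [mul_comm b a]; exact h.prod, fun x => by rw [cnt_swap₁ a b c (x ^ q), cnt_swap₁ a b c x]; exact h.stab x, h.inj,
    h.pos⟩

theorem Stable.swap₂ {q : ℕ} {a b c : K} (h : Stable q a b c) : Stable q a c b :=
  ⟨by rw [mul_right_comm]; exact h.prod, fun x => by rw [cnt_swap₂ a b c (x ^ q), cnt_swap₂ a b c x]; exact h.stab x,
    h.inj, h.pos⟩

theorem pow_sub_one {x : K} (hx : x ≠ 0) {q : ℕ} (hq : 0 < q) (h : x ^ q = x) : x ^ (q - 1) = 1 := by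
  refine mul_right_cancel₀ hx ?_
  rw [← pow_succ, Nat.sub_add_cancel hq, h, one_mul]

theorem pow_add_one {x : K} (hx : x ≠ 0) {q : ℕ} (h : x ^ q = x⁻¹) : x ^ (q + 1) = 1 := by
  rw [pow_succ, h, inv_mul_cancel₀ hx]

variable [CharP K 2]

theorem eq_one_of_sq {x : K} (h : x * x = 1) : x = 1 := by
  rcases mul_self_eq_one_iff.1 h with h | h
  · exact h
  · rw [h, CharTwo.neg_eq]

theorem ne_inv {x : K} (hx : x ≠ 1) (h0 : x ≠ 0) : x ≠ x⁻¹ := fun h =>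
  hx (eq_one_of_sq (by nth_rw 2 [h]; exact mul_inv_cancel₀ h0))

variable {q : ℕ} {a b c : K}

/-- two equal weights in the triple -/
theorem Stable.of_eq (h : Stable q a b c) (hab : a = b) :
    (∃ N, (N = q - 1 ∨ N = q + 1) ∧ a ^ N = 1 ∧ b ^ N = 1) ∧
      ((∃ x ≠ 1, 3 ≤ cnt a b c x) → a ^ 3 = 1 ∧ b ^ 3 = 1) := by
  classical
  subst hab
  obtain ⟨ha0, -, -⟩ := h.ne_zero
  rcases eq_or_ne a 1 with rfl | ha1
  · exact ⟨⟨q + 1, Or.inr rfl, one_pow _, one_pow _⟩, fun _ => ⟨one_pow _, one_pow _⟩⟩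
  have hc : c = (a ^ 2)⁻¹ := eq_inv_of_mul_eq_one_right (by rw [pow_two]; exact h.prod)
  have hne : a ≠ a⁻¹ := ne_inv ha1 ha0
  have h2ne : a ^ 2 ≠ 1 := fun e => ha1 (eq_one_of_sq (by rwa [pow_two] at e))
  have h2a : a ^ 2 ≠ a := fun e => ha1 (mul_right_cancel₀ ha0 (by rw [one_mul, ← pow_two, e]))
  have h22 : a ^ 2 ≠ (a ^ 2)⁻¹ := ne_inv h2ne (pow_ne_zero _ ha0)
  have hcnt : ∀ x : K, x ≠ 1 → cnt a a c x = (if a = x then 2 else 0) + (if a⁻¹ = x then 2 else 0) +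
      (if a ^ 2 = x then 1 else 0) + (if (a ^ 2)⁻¹ = x then 1 else 0) := fun x hx => by
    rw [cnt_eq, hc, inv_inv, if_neg (Ne.symm hx)]
    split_ifs <;> rfl
  refine ⟨?_, ?_⟩
  · have hx1 : a ^ q ≠ 1 := fun e => ha1 (h.inj a e)
    have h2 : 2 ≤ cnt a a c (a ^ q) := by
      rw [h.stab, hcnt a ha1, if_pos rfl]; omega
    rw [hcnt _ hx1] at h2
    have hcase : a ^ q = a ∨ a ^ q = a⁻¹ := by
      by_contra hno
      push Not at hno
      rw [if_neg (Ne.symm hno.1), if_neg (Ne.symm hno.2)] at h2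
      split_ifs at h2 with h3 h4
      all_goals first
        | omega
        | exact absurd (h3.trans h4.symm) h22
    rcases hcase with e | e
    · exact ⟨q - 1, Or.inl rfl, pow_sub_one ha0 h.pos e, pow_sub_one ha0 h.pos e⟩
    · exact ⟨q + 1, Or.inr rfl, pow_add_one ha0 e, pow_add_one ha0 e⟩
  · rintro ⟨x, hx1, h3⟩
    rw [hcnt x hx1] at h3
    have key : a ^ 2 = a⁻¹ := by
      by_contra hno
      have hno' : a ≠ (a ^ 2)⁻¹ := fun e => hno (by rw [← inv_inv (a ^ 2), ← e])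
      have h2a' : a⁻¹ ≠ (a ^ 2)⁻¹ := fun e => h2a (inv_injective e).symm
      split_ifs at h3 with e1 e2 e3 e4
      all_goals first
        | omega
        | exact absurd (e1.trans e2.symm) hne
        | (subst_vars; simp_all)
    have : a ^ 3 = 1 := by rw [pow_succ, key, inv_mul_cancel₀ ha0]
    exact ⟨this, this⟩

/-- a weight equal to one -/
theorem Stable.of_one (h : Stable q a b c) (hc : c = 1) :
    (∃ N, (N = q - 1 ∨ N = q + 1) ∧ a ^ N = 1 ∧ b ^ N = 1) ∧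
      ((∃ x ≠ 1, 3 ≤ cnt a b c x) → a ^ 3 = 1 ∧ b ^ 3 = 1) := by
  classical
  obtain ⟨ha0, -, -⟩ := h.ne_zero
  have hb : b = a⁻¹ := eq_inv_of_mul_eq_one_right (by simpa [hc] using h.prod)
  rcases eq_or_ne a 1 with rfl | ha1
  · subst hb
    exact ⟨⟨q + 1, Or.inr rfl, one_pow _, by simp⟩, fun _ => ⟨one_pow _, by simp⟩⟩
  have hne : a ≠ a⁻¹ := ne_inv ha1 ha0
  have hcnt : ∀ x : K, x ≠ 1 → cnt a b c x = (if a = x then 2 else 0) + (if a⁻¹ = x then 2 else 0) :=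
    fun x hx => by
      rw [cnt_eq, hc, hb, inv_inv, inv_one, if_neg (Ne.symm hx), if_neg (Ne.symm hx)]
      split_ifs <;> rfl
  refine ⟨?_, ?_⟩
  · have hx1 : a ^ q ≠ 1 := fun e => ha1 (h.inj a e)
    have h2 : 2 ≤ cnt a b c (a ^ q) := by
      rw [h.stab, hcnt a ha1, if_pos rfl]; omega
    rw [hcnt _ hx1] at h2
    have hcase : a ^ q = a ∨ a ^ q = a⁻¹ := by
      by_contra hno
      push Not at hno
      rw [if_neg (Ne.symm hno.1), if_neg (Ne.symm hno.2)] at h2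
      omega
    rw [hb]
    rcases hcase with e | e
    · exact ⟨q - 1, Or.inl rfl, pow_sub_one ha0 h.pos e,
        by rw [inv_pow, pow_sub_one ha0 h.pos e, inv_one]⟩
    · exact ⟨q + 1, Or.inr rfl, pow_add_one ha0 e, by rw [inv_pow, pow_add_one ha0 e, inv_one]⟩
  · rintro ⟨x, hx1, h3⟩
    rw [hcnt x hx1] at h3
    split_ifs at h3 with e1 e2
    all_goals first
      | omega
      | exact absurd (e1.trans e2.symm) hne

/-- a repeated nontrivial weight -/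
theorem Stable.of_repeat (h : Stable q a b c) {x : K} (hx : x ≠ 1) (h2 : 2 ≤ cnt a b c x) :
    (∃ N, (N = q - 1 ∨ N = q + 1) ∧ a ^ N = 1 ∧ b ^ N = 1) ∧
      ((∃ x ≠ 1, 3 ≤ cnt a b c x) → a ^ 3 = 1 ∧ b ^ 3 = 1) := by
  classical
  obtain ⟨ha0, hb0, hc0⟩ := h.ne_zero
  have hP := h.prod
  have hcpow : ∀ {N : ℕ}, a ^ N = 1 → c ^ N = 1 → b ^ N = 1 := fun {N} e e' => by
    have := congrArg (· ^ N) hP
    simp only [mul_pow, e, e', one_mul, mul_one, one_pow] at this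
    exact this
  have fin1 : a = c → _ := fun e => h.swap₂.of_eq e
  have fin2 : b = c → _ := fun e => h.swap₁.swap₂.of_eq e
  have done1 : a = c → (∃ N, (N = q - 1 ∨ N = q + 1) ∧ a ^ N = 1 ∧ b ^ N = 1) ∧
      ((∃ x ≠ 1, 3 ≤ cnt a b c x) → a ^ 3 = 1 ∧ b ^ 3 = 1) := fun e => by
    obtain ⟨⟨N, hN, e1, e2⟩, h3⟩ := fin1 e
    refine ⟨⟨N, hN, e1, hcpow e1 e2⟩, fun ⟨y, hy, hy3⟩ => ?_⟩
    obtain ⟨e1, e2⟩ := h3 ⟨y, hy, by rwa [cnt_swap₂]⟩
    exact ⟨e1, hcpow e1 e2⟩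
  have done2 : b = c → (∃ N, (N = q - 1 ∨ N = q + 1) ∧ a ^ N = 1 ∧ b ^ N = 1) ∧
      ((∃ x ≠ 1, 3 ≤ cnt a b c x) → a ^ 3 = 1 ∧ b ^ 3 = 1) := fun e => by
    obtain ⟨⟨N, hN, e1, e2⟩, h3⟩ := fin2 e
    have key : ∀ {M : ℕ}, b ^ M = 1 → c ^ M = 1 → a ^ M = 1 := fun {M} u v => by
      have := congrArg (· ^ M) hP
      simp only [mul_pow, u, v, mul_one, one_pow] at this
      exact this
    refine ⟨⟨N, hN, key e1 e2, e1⟩, fun ⟨y, hy, hy3⟩ => ?_⟩
    obtain ⟨e1, e2⟩ := h3 ⟨y, hy, by rwa [cnt_swap₂, cnt_swap₁]⟩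
    exact ⟨key e1 e2, e1⟩
  have done3 : a = 1 → (∃ N, (N = q - 1 ∨ N = q + 1) ∧ a ^ N = 1 ∧ b ^ N = 1) ∧
      ((∃ x ≠ 1, 3 ≤ cnt a b c x) → a ^ 3 = 1 ∧ b ^ 3 = 1) := fun e => by
    obtain ⟨⟨N, hN, e2, -⟩, h3⟩ := h.swap₁.swap₂.of_one e
    refine ⟨⟨N, hN, by rw [e, one_pow], e2⟩, fun ⟨y, hy, hy3⟩ => ⟨by rw [e, one_pow], ?_⟩⟩
    exact (h3 ⟨y, hy, by rwa [cnt_swap₂, cnt_swap₁]⟩).1
  have done4 : b = 1 → (∃ N, (N = q - 1 ∨ N = q + 1) ∧ a ^ N = 1 ∧ b ^ N = 1) ∧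
      ((∃ x ≠ 1, 3 ≤ cnt a b c x) → a ^ 3 = 1 ∧ b ^ 3 = 1) := fun e => by
    obtain ⟨⟨N, hN, e1, -⟩, h3⟩ := h.swap₂.of_one e
    refine ⟨⟨N, hN, e1, by rw [e, one_pow]⟩, fun ⟨y, hy, hy3⟩ => ⟨?_, by rw [e, one_pow]⟩⟩
    exact (h3 ⟨y, hy, by rwa [cnt_swap₂]⟩).1
  by_cases hc1 : c = 1
  · exact h.of_one hc1
  by_cases hab : a = b
  · exact h.of_eq hab
  by_cases hac : a = c
  · exact done1 hac
  by_cases hbc : b = c
  · exact done2 hbc
  by_cases ha1 : a = 1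
  · exact done3 ha1
  by_cases hb1 : b = 1
  · exact done4 hb1
  exfalso
  -- all six weights are distinct
  have na := ne_inv ha1 ha0
  have nb := ne_inv hb1 hb0
  have nc := ne_inv hc1 hc0
  have nab : a ≠ b⁻¹ := fun e => hc1 (by rw [e, inv_mul_cancel₀ hb0, one_mul] at hP; exact hP)
  have nac : a ≠ c⁻¹ := fun e => hb1 (by
    rw [e, mul_comm (c⁻¹) b, mul_assoc, inv_mul_cancel₀ hc0, mul_one] at hP; exact hP)
  have nbc : b ≠ c⁻¹ := fun e => ha1 (by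
    rw [e, mul_assoc, inv_mul_cancel₀ hc0, mul_one] at hP; exact hP)
  rw [cnt_eq, if_neg (Ne.symm hx)] at h2
  split_ifs at h2 with e1 e2 e3 e4 e5 e6
  all_goals first
    | omega
    | (subst_vars; simp_all [← inv_eq_iff_eq_inv])

/-- three weights from distinct pairs with product one have equal signs -/
theorem signs {A B C X Y Z : K} (hA : A ≠ 1) (hB : B ≠ 1) (hC : C ≠ 1) (h : A * B * C = 1)
    (hX : X = A ∨ X = A⁻¹) (hY : Y = B ∨ Y = B⁻¹) (hZ : Z = C ∨ Z = C⁻¹) (hP : X * Y * Z = 1) :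
    (X = A ∧ Y = B ∧ Z = C) ∨ (X = A⁻¹ ∧ Y = B⁻¹ ∧ Z = C⁻¹) := by
  have hA0 : A ≠ 0 := by rintro rfl; simp at h
  have hB0 : B ≠ 0 := by rintro rfl; simp at h
  have hC0 : C ≠ 0 := by rintro rfl; simp at h
  rcases hX with hX | hX <;> rcases hY with hY | hY <;> rcases hZ with hZ | hZ <;>
    rw [hX, hY, hZ] at hP
  · exact Or.inl ⟨hX, hY, hZ⟩
  · refine absurd (eq_one_of_sq ?_) hC
    field_simp at hP
    linear_combination h - C * hP
  · refine absurd (eq_one_of_sq ?_) hB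
    field_simp at hP
    linear_combination h - B * hP
  · refine absurd (eq_one_of_sq ?_) hA
    field_simp at hP
    linear_combination h + A * hP
  · refine absurd (eq_one_of_sq ?_) hA
    field_simp at hP
    linear_combination h - A * hP
  · refine absurd (eq_one_of_sq ?_) hB
    field_simp at hP
    linear_combination h + B * hP
  · refine absurd (eq_one_of_sq ?_) hC
    field_simp at hP
    linear_combination h + C * hP
  · exact Or.inr ⟨hX, hY, hZ⟩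

/-- the exponent of the triple -/
theorem Stable.exponent (h : Stable q a b c) :
    ∃ N, (N = q ^ 2 - 1 ∨ N = q ^ 2 + q + 1 ∨ N = q ^ 2 - q + 1) ∧ a ^ N = 1 ∧ b ^ N = 1 := by
  classical
  have hd1 : q - 1 ∣ q ^ 2 - 1 := ⟨q + 1, by rw [mul_comm, ← Nat.sq_sub_sq, one_pow]⟩
  have hd2 : q + 1 ∣ q ^ 2 - 1 := ⟨q - 1, by rw [← Nat.sq_sub_sq, one_pow]⟩
  by_cases hrep : ∃ x ≠ 1, 2 ≤ cnt a b c x
  · obtain ⟨x, hx, h2⟩ := hrep
    obtain ⟨⟨N, hN, e1, e2⟩, -⟩ := h.of_repeat hx h2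
    have hd : N ∣ q ^ 2 - 1 := by rcases hN with rfl | rfl <;> assumption
    obtain ⟨k, hk⟩ := hd
    exact ⟨_, Or.inl rfl, by rw [hk, pow_mul, e1, one_pow], by rw [hk, pow_mul, e2, one_pow]⟩
  push Not at hrep
  obtain ⟨ha0, hb0, hc0⟩ := h.ne_zero
  have hP := h.prod
  by_cases hall : a = 1 ∧ b = 1
  · exact ⟨_, Or.inl rfl, by rw [hall.1, one_pow], by rw [hall.2, one_pow]⟩
  -- no weight is one
  have key : ∀ {u v w : K}, u * v * w = 1 → u = 1 → (v ≠ 1 → 2 ≤ cnt u v w v) := fun {u v w} hp hu hv => by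
    have hw : w = v⁻¹ := eq_inv_of_mul_eq_one_right (by rwa [hu, one_mul] at hp)
    rw [cnt_eq, hw, inv_inv, if_pos rfl]; omega
  have ha1 : a ≠ 1 := fun e => by
    have hb : b ≠ 1 := fun e' => hall ⟨e, e'⟩
    have := hrep b hb
    have := key hP e hb
    omega
  have hb1 : b ≠ 1 := fun e => by
    have := hrep a ha1
    have h' := key (show b * a * c = 1 by rw [mul_comm b a]; exact hP) e ha1
    rw [cnt_swap₁] at h'
    omega
  have hc1 : c ≠ 1 := fun e => by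
    have := hrep a ha1
    have h' := key (show c * a * b = 1 by rw [mul_assoc, mul_comm c]; exact hP) e ha1
    rw [cnt_swap₁, cnt_swap₂] at h'
    omega
  -- the distinct weights
  have hex : ∀ x, x ≠ 1 → 0 < cnt a b c x →
      ((x = a ∨ x = a⁻¹) ∨ (x = b ∨ x = b⁻¹) ∨ (x = c ∨ x = c⁻¹)) := fun x hx hpos => by
    by_contra hno
    push Not at hno
    obtain ⟨⟨n1, n2⟩, ⟨n3, n4⟩, n5, n6⟩ := hno
    rw [cnt_eq, if_neg (Ne.symm hx), if_neg n1.symm, if_neg n2.symm, if_neg n3.symm, if_neg n4.symm,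
      if_neg n5.symm, if_neg n6.symm] at hpos
    omega
  have hdist : ∀ {u v : K}, u ≠ 1 → (∀ y, cnt a b c y ≥ (if u = y then 1 else 0) + (if v = y then 1 else 0)) →
      u ≠ v := fun {u v} hu hge e => by
    have := hrep u hu
    have := hge u
    rw [if_pos rfl, if_pos e.symm] at this
    omega
  have dab : a ≠ b ∧ a ≠ b⁻¹ := ⟨hdist ha1 fun y => by rw [cnt_eq]; omega,
    hdist ha1 fun y => by rw [cnt_eq]; omega⟩
  have dac : a ≠ c ∧ a ≠ c⁻¹ := ⟨hdist ha1 fun y => by rw [cnt_eq]; omega,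
    hdist ha1 fun y => by rw [cnt_eq]; omega⟩
  have dbc : b ≠ c ∧ b ≠ c⁻¹ := ⟨hdist hb1 fun y => by rw [cnt_eq]; omega,
    hdist hb1 fun y => by rw [cnt_eq]; omega⟩
  have him : ∀ x, x ≠ 1 → 0 < cnt a b c x →
      ((x ^ q = a ∨ x ^ q = a⁻¹) ∨ (x ^ q = b ∨ x ^ q = b⁻¹) ∨ (x ^ q = c ∨ x ^ q = c⁻¹)) :=
    fun x hx hpos => hex _ (fun e => hx (h.inj x e)) (by rw [h.stab]; exact hpos)
  have hinj : ∀ {x y : K}, y ≠ 0 → x ^ q = y ^ q → x = y := fun {x y} hy e => by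
    have := h.inj (x / y) (by rw [div_pow, e, div_self (pow_ne_zero _ hy)])
    rwa [div_eq_one_iff_eq hy] at this
  -- images of distinct pairs lie in distinct pairs
  have hsep : ∀ {x y : K}, y ≠ 0 → x ≠ y → x ≠ y⁻¹ → ∀ p : K,
      (x ^ q = p ∨ x ^ q = p⁻¹) → (y ^ q = p ∨ y ^ q = p⁻¹) → False := fun {x y} hy n1 n2 p hx' hy' => by
    rcases hx' with e | e <;> rcases hy' with e' | e'
    · exact n1 (hinj hy (e.trans e'.symm))
    · exact n2 (hinj (inv_ne_zero hy) (by rw [inv_pow, e', inv_inv, e]))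
    · exact n2 (hinj (inv_ne_zero hy) (by rw [inv_pow, e', e]))
    · exact n1 (hinj hy (e.trans e'.symm))
  have hPq : a ^ q * b ^ q * c ^ q = 1 := by rw [← mul_pow, ← mul_pow, hP, one_pow]
  have him_a := him a ha1 (by rw [cnt_eq, if_pos rfl]; omega)
  have him_b := him b hb1 (by rw [cnt_eq, if_pos rfl]; omega)
  have him_c := him c hc1 (by rw [cnt_eq, if_pos rfl]; omega)
  have q2 : ∀ {x y : K}, x ^ q = y → x ^ (q ^ 2) = y ^ q := fun {x y} e => by rw [pow_two, pow_mul, e]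
  have fix2 : ∀ {x : K}, x ≠ 0 → x ^ (q ^ 2) = x → x ^ (q ^ 2 - 1) = 1 := fun {x} hx e =>
    pow_sub_one hx (pow_pos h.pos 2) e
  have split : ∀ {x : K}, x ^ q = x ∨ x ^ q = x⁻¹ → x ^ (q ^ 2) = x := fun {x} e => by
    rcases e with e | e
    · rw [q2 e, e]
    · rw [q2 e, inv_pow, e, inv_inv]
  have two : ∀ {x y : K}, (x ^ q = y ∧ y ^ q = x) ∨ (x ^ q = y⁻¹ ∧ y ^ q = x⁻¹) → x ^ (q ^ 2) = x :=
    fun {x y} e => by
      rcases e with ⟨e, e'⟩ | ⟨e, e'⟩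
      · rw [q2 e, e']
      · rw [q2 e, inv_pow, e', inv_inv]
  have cyc_pos : ∀ {x y z : K}, x ^ q = y → y ^ q = z → x * y * z = 1 → x ^ (q ^ 2 + q + 1) = 1 :=
    fun {x y z} e e' hp => by
      rw [pow_succ, pow_add, q2 e, e', e, ← hp]; ring
  have cyc_neg : ∀ {x y z : K}, x ^ q = y⁻¹ → y ^ q = z⁻¹ → x * y * z = 1 → y ≠ 0 →
      x ^ (q ^ 2 - q + 1) = 1 := fun {x y z} e e' hp hy => by
      refine mul_right_cancel₀ (pow_ne_zero q (show x ≠ 0 by rintro rfl; simp at hp)) ?_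
      rw [← pow_add, one_mul, show q ^ 2 - q + 1 + q = q ^ 2 + 1 by
        have : q ≤ q ^ 2 := Nat.le_self_pow (by norm_num) q
        omega, pow_succ, q2 e, inv_pow, e', inv_inv, e]
      refine eq_inv_of_mul_eq_one_left ?_
      rw [← hp]; ring
  rcases him_a with ea | ea | ea <;> rcases him_b with eb | eb | eb
  all_goals first
    | exact (hsep hb0 dab.1 dab.2 _ ea eb).elim
    | skip
  all_goals rcases him_c with ec | ec | ec
  all_goals first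
    | exact (hsep hc0 dac.1 dac.2 _ ea ec).elim
    | exact (hsep hc0 dbc.1 dbc.2 _ eb ec).elim
    | skip
  · -- identity
    exact ⟨_, Or.inl rfl, fix2 ha0 (split ea), fix2 hb0 (split eb)⟩
  · -- a fixed
    rcases signs ha1 hc1 hb1 (by rw [mul_right_comm]; exact hP) ea eb ec hPq with ⟨-, e, e'⟩ | ⟨-, e, e'⟩
    · exact ⟨_, Or.inl rfl, fix2 ha0 (split ea), fix2 hb0 (two (Or.inl ⟨e, e'⟩))⟩
    · exact ⟨_, Or.inl rfl, fix2 ha0 (split ea), fix2 hb0 (two (Or.inr ⟨e, e'⟩))⟩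
  · -- c fixed
    rcases signs hb1 ha1 hc1 (by rw [mul_comm b a]; exact hP) ea eb ec hPq with ⟨e, e', -⟩ | ⟨e, e', -⟩
    · exact ⟨_, Or.inl rfl, fix2 ha0 (two (Or.inl ⟨e, e'⟩)), fix2 hb0 (two (Or.inl ⟨e', e⟩))⟩
    · exact ⟨_, Or.inl rfl, fix2 ha0 (two (Or.inr ⟨e, e'⟩)), fix2 hb0 (two (Or.inr ⟨e', e⟩))⟩
  · -- a to b to c
    have hP' : b * c * a = 1 := by rw [← hP]; ring
    rcases signs hb1 hc1 ha1 hP' ea eb ec hPq with ⟨e, e', e''⟩ | ⟨e, e', e''⟩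
    · exact ⟨_, Or.inr (Or.inl rfl), cyc_pos e e' hP, cyc_pos e' e'' hP'⟩
    · exact ⟨_, Or.inr (Or.inr rfl), cyc_neg e e' hP hb0, cyc_neg e' e'' hP' hc0⟩
  · -- a to c to b
    have hP' : c * a * b = 1 := by rw [← hP]; ring
    rcases signs hc1 ha1 hb1 hP' ea eb ec hPq with ⟨e, e', e''⟩ | ⟨e, e', e''⟩
    · exact ⟨_, Or.inr (Or.inl rfl), cyc_pos e e'' (by rw [← hP]; ring), cyc_pos e' e (by rw [← hP]; ring)⟩
    · exact ⟨_, Or.inr (Or.inr rfl), cyc_neg e e'' (by rw [← hP]; ring) hc0,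
        cyc_neg e' e (by rw [← hP]; ring) ha0⟩
  · -- b fixed
    rcases signs hc1 hb1 ha1 (by rw [← hP]; ring) ea eb ec hPq with ⟨e, -, e'⟩ | ⟨e, -, e'⟩
    · exact ⟨_, Or.inl rfl, fix2 ha0 (two (Or.inl ⟨e, e'⟩)), fix2 hb0 (split eb)⟩
    · exact ⟨_, Or.inl rfl, fix2 ha0 (two (Or.inr ⟨e, e'⟩)), fix2 hb0 (split eb)⟩

/-- a nontrivial weight has multiplicity at most three -/
theorem Stable.cnt_le_three (h : Stable q a b c) {x : K} (hx : x ≠ 1) : cnt a b c x ≤ 3 := by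
  classical
  have h1 := cnt_inv a b c x
  rcases eq_or_ne x 0 with rfl | h0
  · obtain ⟨ha0, hb0, hc0⟩ := h.ne_zero
    simp [cnt_eq, ha0, hb0, hc0]
  have hn := ne_inv hx h0
  have hxi : x⁻¹ ≠ 1 := fun e => hx (inv_eq_one.1 e)
  rw [cnt_eq, cnt_eq, if_neg (Ne.symm hx), if_neg (Ne.symm hxi)] at h1
  rw [cnt_eq, if_neg (Ne.symm hx)]
  have ex : ∀ w : K, (if w = x then 1 else 0) + (if w = x⁻¹ then 1 else 0) ≤ 1 := fun w => by
    split_ifs with e e' <;> simp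
    exact hn (e.symm.trans e')
  have := ex a; have := ex b; have := ex c; have := ex a⁻¹; have := ex b⁻¹; have := ex c⁻¹
  omega

end CfsgLib.Lie.G2Weights
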