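import Cfsg.Agent.Lib.Lie.Chev.FullAll
import Cfsg.Agent.Lib.Lie.Chev.SylowU
import Cfsg.Agent.Lib.Lie.Chev.WCl
import Cfsg.Agent.Lib.Lie.Chev.Bruhat

/-!
# Involutions of `G₂(q)`, `q` even
-/

set_option autoImplicit false
set_option linter.style.haveILetI false
set_option linter.unusedSectionVars false

namespace CfsgLib.Lie.G2Invol

open Cfsg.Lie CfsgLib.Lie.Chev
open scoped MatrixGroups

abbrev r6 : Fin chevG2.nroots := ⟨6, by decide⟩
abbrev r7 : Fin chevG2.nroots := ⟨7, by decide⟩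
abbrev r8 : Fin chevG2.nroots := ⟨8, by decide⟩
abbrev r9 : Fin chevG2.nroots := ⟨9, by decide⟩
abbrev r10 : Fin chevG2.nroots := ⟨10, by decide⟩
abbrev r11 : Fin chevG2.nroots := ⟨11, by decide⟩

variable (C : Full chevG2) {F : Type*} [Field F] [CharP F 2]

/-- `xu` at a root -/
noncomputable abbrev X (r : Fin chevG2.nroots) (t : F) : GL chevG2.Idx F := C.G.xu r t

theorem comm_word {r s : Fin chevG2.nroots} (h1 : s.val ≠ r.val) (h2 : s.val ≠ chevG2.neg r.val) (t u : F)
    {w : GL chevG2.Idx F}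
    (hw : (w : Matrix chevG2.Idx chevG2.Idx F) = wordR F chevG2 (cwR chevG2 r.val s.val t u)) :
    X C s u * X C r t = X C r t * X C s u * w := by
  have h := C.commAt (R := F) r s (fun e => h1 (congrArg Fin.val e))
    (fun e => h2 ((congrArg Fin.val e).trans (C.G.negr_val r))) t u
  apply Units.ext
  simp only [Units.val_mul, X, Good.coe_xu, hw]
  exact h

theorem three_eq_one : (3 : F) = 1 := by
  linear_combination (CharTwo.two_eq_zero : (2 : F) = 0)

theorem c67 (t u : F) : X C r6 u * X C r7 t =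
    X C r7 t * X C r6 u * (X C r8 (t * u) * X C r9 (t ^ 2 * u) * X C r10 (t ^ 3 * u) * X C r11 (t ^ 3 * u ^ 2)) := by
  refine comm_word C (by decide) (by decide) t u ?_
  rw [cwR, show chevG2.commTerms (7 : ℕ) (6 : ℕ) =
    [(8, -1, 1, 1), (9, 1, 2, 1), (10, 1, 3, 1), (11, 1, 3, 2)] by decide +kernel]
  simp [wordR, xN, Good.coe_xu, three_eq_one, CharTwo.neg_eq, mul_assoc, show chevG2.nroots = 12 by decide]

theorem c87 (t u : F) : X C r8 u * X C r7 t =
    X C r7 t * X C r8 u * (X C r10 (t ^ 2 * u) * X C r11 (t * u ^ 2)) := by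
  refine comm_word C (by decide) (by decide) t u ?_
  rw [cwR, show chevG2.commTerms (7 : ℕ) (8 : ℕ) =
    [(9, -2, 1, 1), (10, -3, 2, 1), (11, 3, 1, 2)] by decide +kernel]
  simp [wordR, xN, Good.coe_xu, three_eq_one, CharTwo.neg_eq, mul_assoc, CharTwo.two_eq_zero, xg_zero, show chevG2.nroots = 12 by decide]

theorem c97 (t u : F) : X C r9 u * X C r7 t = X C r7 t * X C r9 u * X C r10 (t * u) := by
  refine comm_word C (by decide) (by decide) t u ?_
  rw [cwR, show chevG2.commTerms (7 : ℕ) (9 : ℕ) = [(10, 3, 1, 1)] by decide +kernel]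
  simp [wordR, xN, Good.coe_xu, three_eq_one, CharTwo.neg_eq, show chevG2.nroots = 12 by decide]

theorem c98 (t u : F) : X C r9 u * X C r8 t = X C r8 t * X C r9 u * X C r11 (t * u) := by
  refine comm_word C (by decide) (by decide) t u ?_
  rw [cwR, show chevG2.commTerms (8 : ℕ) (9 : ℕ) = [(11, 3, 1, 1)] by decide +kernel]
  simp [wordR, xN, Good.coe_xu, three_eq_one, CharTwo.neg_eq, show chevG2.nroots = 12 by decide]

theorem c106 (t u : F) : X C r10 u * X C r6 t = X C r6 t * X C r10 u * X C r11 (t * u) := by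
  refine comm_word C (by decide) (by decide) t u ?_
  rw [cwR, show chevG2.commTerms (6 : ℕ) (10 : ℕ) = [(11, 1, 1, 1)] by decide +kernel]
  simp [wordR, xN, Good.coe_xu, three_eq_one, CharTwo.neg_eq, show chevG2.nroots = 12 by decide]

theorem c0 {r s : Fin chevG2.nroots} (h1 : s.val ≠ r.val) (h2 : s.val ≠ chevG2.neg r.val)
    (h : chevG2.commTerms r.val s.val = []) (t u : F) : X C s u * X C r t = X C r t * X C s u := by
  have := comm_word C h1 h2 t u (w := 1) (by rw [cwR, h]; simp [wordR])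
  rwa [mul_one] at this

theorem xx (r : Fin chevG2.nroots) (t u : F) : X C r t * X C r u = X C r (t + u) := (C.G.xu_add r t u).symm

/-- elements in normal form -/
noncomputable def P (a b c d e f : F) : GL chevG2.Idx F :=
  X C r6 a * (X C r7 b * (X C r8 c * (X C r9 d * (X C r10 e * X C r11 f))))

theorem mul_r11 (a b c d e f t : F) : P C a b c d e f * X C r11 t = P C a b c d e (f + t) := by
  simp only [P, mul_assoc, xx]

theorem mul_r10 (a b c d e f t : F) : P C a b c d e f * X C r10 t = P C a b c d (e + t) f := by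
  have h := c0 C (r := r10) (s := r11) (by decide) (by decide) (by decide +kernel) t f
  simp only [P, mul_assoc, h]
  simp only [← mul_assoc (X C r10 e), xx]

theorem mul_r9 (a b c d e f t : F) : P C a b c d e f * X C r9 t = P C a b c (d + t) e f := by
  have h := c0 C (r := r9) (s := r11) (by decide) (by decide) (by decide +kernel) t f
  have h' := c0 C (r := r9) (s := r10) (by decide) (by decide) (by decide +kernel) t e
  simp only [P, mul_assoc, h]
  simp only [← mul_assoc (X C r10 e), h']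
  simp only [mul_assoc, ← mul_assoc (X C r9 d), xx]

theorem mul_r8 (a b c d e f t : F) : P C a b c d e f * X C r8 t = P C a b (c + t) d e (f + t * d) := by
  have h := c0 C (r := r8) (s := r11) (by decide) (by decide) (by decide +kernel) t f
  have h' := c0 C (r := r8) (s := r10) (by decide) (by decide) (by decide +kernel) t e
  have h2 := c0 C (r := r10) (s := r11) (by decide) (by decide) (by decide +kernel) e (t * d)
  simp only [P, mul_assoc]
  rw [h, ← mul_assoc (X C r10 e), h', mul_assoc, ← mul_assoc (X C r9 d), c98, mul_assoc, mul_assoc,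
    ← mul_assoc (X C r8 c), xx, ← mul_assoc (X C r11 (t * d)), h2, mul_assoc, xx, add_comm (t * d)]

theorem mul_r7 (a b c d e f t : F) :
    P C a b c d e f * X C r7 t = P C a (b + t) c d (e + t * d + t ^ 2 * c) (f + t * c ^ 2) := by
  have h := c0 C (r := r7) (s := r11) (by decide) (by decide) (by decide +kernel) t f
  have h' := c0 C (r := r7) (s := r10) (by decide) (by decide) (by decide +kernel) t e
  have h2 := fun x y => c0 C (r := r9) (s := r11) (by decide) (by decide) (by decide +kernel) (F := F) x y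
  have h3 := fun x y => c0 C (r := r9) (s := r10) (by decide) (by decide) (by decide +kernel) (F := F) x y
  have h4 := fun x y => c0 C (r := r10) (s := r11) (by decide) (by decide) (by decide +kernel) (F := F) x y
  simp only [P, mul_assoc]
  rw [h, ← mul_assoc (X C r10 e), h', mul_assoc, ← mul_assoc (X C r9 d), c97, mul_assoc, mul_assoc,
    ← mul_assoc (X C r8 c), c87, mul_assoc, mul_assoc, mul_assoc, ← mul_assoc (X C r7 b), xx,
    ← mul_assoc (X C r11 (t * c ^ 2)), h2, mul_assoc, ← mul_assoc (X C r10 (t ^ 2 * c)), h3, mul_assoc,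
    ← mul_assoc (X C r10 (t * d)), xx, ← mul_assoc (X C r11 (t * c ^ 2)), h4, mul_assoc,
    ← mul_assoc (X C r10 (t ^ 2 * c)), xx, xx]
  rw [show t ^ 2 * c + (t * d + e) = e + t * d + t ^ 2 * c by ring, add_comm (t * c ^ 2) f]

theorem c76 (b t : F) : X C r7 b * X C r6 t =
    X C r6 t * (X C r7 b * (X C r8 (b * t) * (X C r9 (b ^ 2 * t) * X C r10 (b ^ 3 * t)))) := by
  set w := X C r8 (b * t) * X C r9 (b ^ 2 * t) * X C r10 (b ^ 3 * t) * X C r11 (b ^ 3 * t ^ 2) with hw
  have h := c67 C b t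
  rw [← hw] at h
  have e : P C (0 : F) 0 (b * t) (b ^ 2 * t) (b ^ 3 * t) (b ^ 3 * t ^ 2) = w := by
    simp [P, hw, mul_assoc, X, C.G.xu_zero]
  have e' : w * (X C r8 (b * t) * (X C r9 (b ^ 2 * t) * X C r10 (b ^ 3 * t))) = 1 := by
    rw [← e, ← mul_assoc, ← mul_assoc, mul_r8, mul_r9, mul_r10]
    simp only [CharTwo.add_self_eq_zero]
    rw [show b ^ 3 * t ^ 2 + b * t * (b ^ 2 * t) = 0 by
      linear_combination (b ^ 3 * t ^ 2) * (CharTwo.two_eq_zero : (2 : F) = 0)]
    simp [P, X, C.G.xu_zero]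
  calc X C r7 b * X C r6 t = X C r7 b * X C r6 t * (w * (X C r8 (b * t) * (X C r9 (b ^ 2 * t) * X C r10 (b ^ 3 * t)))) := by
        rw [e', mul_one]
    _ = (X C r7 b * X C r6 t * w) * (X C r8 (b * t) * (X C r9 (b ^ 2 * t) * X C r10 (b ^ 3 * t))) := by
        simp only [mul_assoc]
    _ = _ := by rw [← h]; simp only [mul_assoc]

theorem mul_r6 (a b c d e f t : F) :
    P C a b c d e f * X C r6 t =
      P C (a + t) b (c + b * t) (d + b ^ 2 * t) (e + b ^ 3 * t) (f + t * e + c * (b ^ 2 * t)) := by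
  have h := c0 C (r := r6) (s := r11) (by decide) (by decide) (by decide +kernel) t f
  have h9 := c0 C (r := r6) (s := r9) (by decide) (by decide) (by decide +kernel) t d
  have h8 := c0 C (r := r6) (s := r8) (by decide) (by decide) (by decide +kernel) t c
  have e1 : P C a b c d e f * X C r6 t =
      P C (a + t) b (b * t) (b ^ 2 * t) (b ^ 3 * t) 0 * X C r8 c * X C r9 d * X C r10 e * X C r11 (t * e) * X C r11 f := by
    simp only [P, mul_assoc, show X C r11 (0 : F) = 1 from C.G.xu_zero r11, one_mul]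
    rw [h, ← mul_assoc (X C r10 e), c106, mul_assoc, mul_assoc, ← mul_assoc (X C r9 d), h9, mul_assoc,
      ← mul_assoc (X C r8 c), h8, mul_assoc, ← mul_assoc (X C r7 b) (X C r6 t), c76]
    simp only [mul_assoc]
    rw [← mul_assoc (X C r6 a), xx]
  rw [e1, mul_r8, mul_r9, mul_r10, mul_r11, mul_r11]
  congr 1 <;> ring

theorem pos_iff {r : Fin chevG2.nroots} : chevG2.IsPosRoot r.val ↔ 6 ≤ r.val := by
  revert r
  decide +kernel

theorem not_pos {m : ℕ} (hm : m < 6) : ¬ chevG2.IsPosRoot m := by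
  intro h
  have := (pos_iff (r := ⟨m, h.1⟩)).1 h
  simp only at this
  omega

theorem exists_P {g : GL chevG2.Idx F} (hg : g ∈ chevG2.posUnipotent F) :
    ∃ a b c d e f, g = P C a b c d e f := by
  rw [C.G.posUnipotent_eq] at hg
  simp only [C.Uge_skip (K := F) (not_pos (m := 0) (by norm_num)), C.Uge_skip (K := F) (not_pos (m := 1) (by norm_num)),
    C.Uge_skip (K := F) (not_pos (m := 2) (by norm_num)), C.Uge_skip (K := F) (not_pos (m := 3) (by norm_num)),
    C.Uge_skip (K := F) (not_pos (m := 4) (by norm_num)), C.Uge_skip (K := F) (not_pos (m := 5) (by norm_num))] at hg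
  obtain ⟨a, g1, hg1, rfl⟩ := C.Uge_step (r := r6) (pos_iff.2 (by decide)) hg
  obtain ⟨b, g2, hg2, rfl⟩ := C.Uge_step (r := r7) (pos_iff.2 (by decide)) hg1
  obtain ⟨c, g3, hg3, rfl⟩ := C.Uge_step (r := r8) (pos_iff.2 (by decide)) hg2
  obtain ⟨d, g4, hg4, rfl⟩ := C.Uge_step (r := r9) (pos_iff.2 (by decide)) hg3
  obtain ⟨e, g5, hg5, rfl⟩ := C.Uge_step (r := r10) (pos_iff.2 (by decide)) hg4
  obtain ⟨f, g6, hg6, rfl⟩ := C.Uge_step (r := r11) (pos_iff.2 (by decide)) hg5
  rw [C.G.Uge_top (by decide), Subgroup.mem_bot] at hg6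
  exact ⟨a, b, c, d, e, f, by rw [hg6, mul_one]; rfl⟩

theorem Uge_chain {r s : Fin chevG2.nroots} (hrs : r.val < s.val) (hs : chevG2.IsPosRoot s.val) (t : F) :
    X C s t ∈ C.G.Uge (K := F) (r.val + 1) := C.G.xu_mem_Uge hrs hs t

theorem P_eq_one {a b c d e f : F} (h : P C a b c d e f = 1) :
    a = 0 ∧ b = 0 ∧ c = 0 ∧ d = 0 ∧ e = 0 ∧ f = 0 := by
  have key : ∀ (r : Fin chevG2.nroots) (t : F) (v : GL chevG2.Idx F), chevG2.IsPosRoot r.val →
      v ∈ C.G.Uge (K := F) (r.val + 1) → X C r t * v = 1 → t = 0 ∧ v = 1 := by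
    intro r t v hr hv h
    exact C.G.lowest_unique hr hv (one_mem _) (h.trans (by rw [C.G.xu_zero, one_mul]))
  obtain ⟨ha, h⟩ := key r6 a _ (pos_iff.2 (by decide))
    (mul_mem (Uge_chain C (by decide) (pos_iff.2 (by decide)) _) (mul_mem (Uge_chain C (by decide) (pos_iff.2 (by decide)) _)
      (mul_mem (Uge_chain C (by decide) (pos_iff.2 (by decide)) _) (mul_mem (Uge_chain C (by decide) (pos_iff.2 (by decide)) _)
        (Uge_chain C (by decide) (pos_iff.2 (by decide)) _))))) h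
  obtain ⟨hb, h⟩ := key r7 b _ (pos_iff.2 (by decide))
    (mul_mem (Uge_chain C (by decide) (pos_iff.2 (by decide)) _) (mul_mem (Uge_chain C (by decide) (pos_iff.2 (by decide)) _)
      (mul_mem (Uge_chain C (by decide) (pos_iff.2 (by decide)) _) (Uge_chain C (by decide) (pos_iff.2 (by decide)) _)))) h
  obtain ⟨hc, h⟩ := key r8 c _ (pos_iff.2 (by decide))
    (mul_mem (Uge_chain C (by decide) (pos_iff.2 (by decide)) _) (mul_mem (Uge_chain C (by decide) (pos_iff.2 (by decide)) _)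
      (Uge_chain C (by decide) (pos_iff.2 (by decide)) _))) h
  obtain ⟨hd, h⟩ := key r9 d _ (pos_iff.2 (by decide))
    (mul_mem (Uge_chain C (by decide) (pos_iff.2 (by decide)) _) (Uge_chain C (by decide) (pos_iff.2 (by decide)) _)) h
  obtain ⟨he, h⟩ := key r10 e _ (pos_iff.2 (by decide)) (Uge_chain C (by decide) (pos_iff.2 (by decide)) _) h
  exact ⟨ha, hb, hc, hd, he, (C.G.xu_eq_one_iff r11 f).1 h⟩

theorem P_r6 (k : F) : X C r6 k = P C k 0 0 0 0 0 := by simp [P, X, C.G.xu_zero]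
theorem P_r7 (k : F) : X C r7 k = P C 0 k 0 0 0 0 := by simp [P, X, C.G.xu_zero]
theorem P_r8 (k : F) : X C r8 k = P C 0 0 k 0 0 0 := by simp [P, X, C.G.xu_zero]
theorem P_r9 (k : F) : X C r9 k = P C 0 0 0 k 0 0 := by simp [P, X, C.G.xu_zero]
theorem P_r10 (k : F) : X C r10 k = P C 0 0 0 0 k 0 := by simp [P, X, C.G.xu_zero]
theorem P_r11 (k : F) : X C r11 k = P C 0 0 0 0 0 k := by simp [P, X, C.G.xu_zero]

theorem P_mul (a b c d e f a' b' c' d' e' f' : F) :
    P C a b c d e f * P C a' b' c' d' e' f' =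
      P C a b c d e f * X C r6 a' * X C r7 b' * X C r8 c' * X C r9 d' * X C r10 e' * X C r11 f' := by
  simp only [P, mul_assoc]

theorem P_sq {a b c d e f : F} (h : P C a b c d e f * P C a b c d e f = 1) :
    a * b = 0 ∧ b * d + b ^ 2 * c = 0 ∧ a * e + b * c ^ 2 + c * d = 0 := by
  have h2 : (2 : F) = 0 := CharTwo.two_eq_zero
  rw [P_mul, mul_r6, mul_r7, mul_r8, mul_r9, mul_r10, mul_r11] at h
  obtain ⟨-, -, hc, -, he, hf⟩ := P_eq_one C h
  have hab : a * b = 0 := by linear_combination hc - c * h2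
  refine ⟨hab, ?_, ?_⟩
  · linear_combination he - e * h2 - (3 * b ^ 2) * hab
  · linear_combination hf - f * h2 - (2 * b * c + a * b ^ 2 + b * c + b * c) * hab

/-- conjugacy in the group -/
def Cj (g h : GL chevG2.Idx F) : Prop := ∃ x ∈ chevG2.group F, x * g * x⁻¹ = h

theorem Cj.trans {g h k : GL chevG2.Idx F} (h1 : Cj g h) (h2 : Cj h k) : Cj g k := by
  obtain ⟨x, hx, rfl⟩ := h1
  obtain ⟨y, hy, rfl⟩ := h2
  exact ⟨y * x, mul_mem hy hx, by group⟩

theorem cj_x (r : Fin chevG2.nroots) (k : F) (g : GL chevG2.Idx F) : Cj g (X C r k * g * X C r k) := by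
  refine ⟨X C r k, C.G.xu_mem r k, ?_⟩
  rw [C.G.xu_inv, CharTwo.neg_eq]

theorem eta_one (i : Fin chevG2.rank) (r : Fin chevG2.nroots) : (C.G.eta i r : F) = 1 := by
  rcases C.G.eta_unit i r with h | h <;> simp [h, CharTwo.neg_eq]

theorem nU_conj {i : Fin chevG2.rank} {r s : Fin chevG2.nroots} (h : chevG2.reflectRoot i.val r.val = s.val) (t : F) :
    C.G.nU i * X C r t * (C.G.nU i)⁻¹ = X C s t := by
  rw [C.G.nU_xu, eta_one, one_mul, mul_assoc, mul_inv_cancel, mul_one,
    show C.G.w i r = s from Fin.ext ((C.G.w_reflect i r).trans h)]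

theorem cj_w {i : Fin chevG2.rank} {r s : Fin chevG2.nroots} (h : chevG2.reflectRoot i.val r.val = s.val) (t : F) :
    Cj (X C r t) (X C s t) :=
  ⟨C.G.nU i, C.G.nU_mem_group i, nU_conj C h t⟩

theorem cj_w2 {i : Fin chevG2.rank} {r s r' s' : Fin chevG2.nroots} (h : chevG2.reflectRoot i.val r.val = s.val)
    (h' : chevG2.reflectRoot i.val r'.val = s'.val) (t t' : F) :
    Cj (X C r t * X C r' t') (X C s t * X C s' t') := by
  refine ⟨C.G.nU i, C.G.nU_mem_group i, ?_⟩
  rw [← nU_conj C h t, ← nU_conj C h' t']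
  group

theorem sqrt_exists [Finite F] (x : F) : ∃ y : F, y ^ 2 = x := by
  obtain ⟨y, hy⟩ := (bijective_frobenius F 2).2 x
  exact ⟨y, hy⟩

theorem cj_scale [Finite F] (r : Fin chevG2.nroots) {t : F} (ht : t ≠ 0) : Cj (X C r t) (X C r 1) := by
  obtain ⟨y, hy⟩ := sqrt_exists t⁻¹
  have hy0 : y ≠ 0 := by
    rintro rfl
    exact inv_ne_zero ht (by simpa using hy.symm)
  refine ⟨C.G.hd r (Units.mk0 y hy0), C.G.diagonal_le_group (C.G.hd_mem_H _ _), ?_⟩
  rw [C.G.hd_self_conj, Units.val_mk0, hy, inv_mul_cancel₀ ht]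

/-- the short and long root involutions -/
def IsType (g : GL chevG2.Idx F) : Prop := Cj g (X C r9 (1 : F)) ∨ Cj g (X C r11 (1 : F))

theorem IsType.of_cj {g h : GL chevG2.Idx F} (h1 : Cj g h) (h2 : IsType C h) : IsType C g :=
  h2.imp h1.trans h1.trans

theorem type_r8 [Finite F] {c : F} (hc : c ≠ 0) : IsType C (X C r8 c) :=
  Or.inl ((cj_w C (i := ⟨0, by decide⟩) (s := r9) (by decide +kernel) c).trans (cj_scale C r9 hc))

theorem type_r10 [Finite F] {e : F} (he : e ≠ 0) : IsType C (X C r10 e) :=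
  Or.inr ((cj_w C (i := ⟨1, by decide⟩) (s := r11) (by decide +kernel) e).trans (cj_scale C r11 he))

theorem four_eq_zero : (4 : F) = 0 := by
  linear_combination (2 : F) * (CharTwo.two_eq_zero : (2 : F) = 0)

theorem conj_A (k c e f : F) : X C r7 k * P C 0 0 c 0 e f * X C r7 k = P C 0 0 c 0 (e + k ^ 2 * c) (f + k * c ^ 2) := by
  rw [P_r7 C k, P_mul, mul_r6, mul_r7, mul_r8, mul_r9, mul_r10, mul_r11, ← P_r7 C k, mul_r7]
  congr 1 <;> first | rfl | ring1 | (rw [← sub_eq_zero]; ring_nf; simp [CharTwo.two_eq_zero, three_eq_one, four_eq_zero])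

theorem conj_B (k c f : F) : X C r9 k * P C 0 0 c 0 0 f * X C r9 k = P C 0 0 c 0 0 (f + k * c) := by
  rw [P_r9 C k, P_mul, mul_r6, mul_r7, mul_r8, mul_r9, mul_r10, mul_r11, ← P_r9 C k, mul_r9]
  congr 1 <;> first | rfl | ring1 | (rw [← sub_eq_zero]; ring_nf; simp [CharTwo.two_eq_zero, three_eq_one, four_eq_zero])

theorem conj_C (k e f : F) : X C r6 k * P C 0 0 0 0 e f * X C r6 k = P C 0 0 0 0 e (f + k * e) := by
  rw [P_r6 C k, P_mul, mul_r6, mul_r7, mul_r8, mul_r9, mul_r10, mul_r11, ← P_r6 C k, mul_r6]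
  congr 1 <;> first | rfl | ring1 | (rw [← sub_eq_zero]; ring_nf; simp [CharTwo.two_eq_zero, three_eq_one, four_eq_zero])

theorem conj_D (k d e f : F) : X C r7 k * P C 0 0 0 d e f * X C r7 k = P C 0 0 0 d (e + k * d) f := by
  rw [P_r7 C k, P_mul, mul_r6, mul_r7, mul_r8, mul_r9, mul_r10, mul_r11, ← P_r7 C k, mul_r7]
  congr 1 <;> first | rfl | ring1 | (rw [← sub_eq_zero]; ring_nf; simp [CharTwo.two_eq_zero, three_eq_one, four_eq_zero])

theorem conj_E (k d f : F) : X C r8 k * P C 0 0 0 d 0 f * X C r8 k = P C 0 0 0 d 0 (f + k * d) := by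
  rw [P_r8 C k, P_mul, mul_r6, mul_r7, mul_r8, mul_r9, mul_r10, mul_r11, ← P_r8 C k, mul_r8]
  congr 1 <;> first | rfl | ring1 | (rw [← sub_eq_zero]; ring_nf; simp [CharTwo.two_eq_zero, three_eq_one, four_eq_zero])

theorem conj_F (k a c d e f : F) : ∃ D E F', X C r7 k * P C a 0 c d e f * X C r7 k = P C a 0 (c + k * a) D E F' := by
  refine ⟨d + k ^ 2 * a, e + k * d + k ^ 2 * c + k ^ 3 * a,
    f + c * (k ^ 2 * a) + k ^ 3 * a ^ 2 + k * c ^ 2, ?_⟩
  rw [P_r7 C k, P_mul, mul_r6, mul_r7, mul_r8, mul_r9, mul_r10, mul_r11, ← P_r7 C k, mul_r7]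
  congr 1 <;> first | rfl | ring1 | (rw [← sub_eq_zero]; ring_nf; simp [CharTwo.two_eq_zero, three_eq_one, four_eq_zero])

theorem conj_G (k a d f : F) : X C r10 k * P C a 0 0 d 0 f * X C r10 k = P C a 0 0 d 0 (f + k * a) := by
  rw [P_r10 C k, P_mul, mul_r6, mul_r7, mul_r8, mul_r9, mul_r10, mul_r11, ← P_r10 C k, mul_r10]
  congr 1 <;> first | rfl | ring1 | (rw [← sub_eq_zero]; ring_nf; simp [CharTwo.two_eq_zero, three_eq_one, four_eq_zero])

theorem conj_H (k b c e f : F) : ∃ E F', X C r6 k * P C 0 b c (b * c) e f * X C r6 k = P C 0 b (c + b * k) (b * (c + b * k)) E F' := by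
  refine ⟨e + b ^ 3 * k, f + k * e + c * (b ^ 2 * k), ?_⟩
  rw [P_r6 C k, P_mul, mul_r6, mul_r7, mul_r8, mul_r9, mul_r10, mul_r11, ← P_r6 C k, mul_r6]
  congr 1 <;> first | rfl | ring1 | (rw [← sub_eq_zero]; ring_nf; simp [CharTwo.two_eq_zero, three_eq_one, four_eq_zero])

theorem conj_I (k b e f : F) : X C r9 k * P C 0 b 0 0 e f * X C r9 k = P C 0 b 0 0 (e + b * k) f := by
  rw [P_r9 C k, P_mul, mul_r6, mul_r7, mul_r8, mul_r9, mul_r10, mul_r11, ← P_r9 C k, mul_r9]
  congr 1 <;> first | rfl | ring1 | (rw [← sub_eq_zero]; ring_nf; simp [CharTwo.two_eq_zero, three_eq_one, four_eq_zero])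

theorem type_8_10_11 [Finite F] {c : F} (hc : c ≠ 0) (e f : F) : IsType C (P C 0 0 c 0 e f) := by
  obtain ⟨k, hk⟩ := sqrt_exists (e / c)
  refine IsType.of_cj C (cj_x C r7 k _) ?_
  rw [conj_A, show e + k ^ 2 * c = 0 by rw [hk, div_mul_cancel₀ _ hc, CharTwo.add_self_eq_zero]]
  refine IsType.of_cj C (cj_x C r9 ((f + k * c ^ 2) / c) _) ?_
  rw [conj_B, div_mul_cancel₀ _ hc, CharTwo.add_self_eq_zero, ← P_r8]
  exact type_r8 C hc

theorem type_of_sq [Finite F] {a b c d e f : F} (hne : P C a b c d e f ≠ 1)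
    (h : P C a b c d e f * P C a b c d e f = 1) : IsType C (P C a b c d e f) := by
  have h2 : (2 : F) = 0 := CharTwo.two_eq_zero
  obtain ⟨hab, h5, h6⟩ := P_sq C h
  by_cases hb : b = 0
  · subst hb
    by_cases ha : a = 0
    · subst ha
      have hcd : c * d = 0 := by linear_combination h6
      by_cases hc : c = 0
      · subst hc
        by_cases hd : d = 0
        · subst hd
          by_cases he : e = 0
          · subst he
            have hf : f ≠ 0 := fun hf => hne (by subst hf; simp [P, X, C.G.xu_zero])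
            rw [← P_r11]
            exact Or.inr (cj_scale C r11 hf)
          · refine IsType.of_cj C (cj_x C r6 (f / e) _) ?_
            rw [conj_C, div_mul_cancel₀ _ he, CharTwo.add_self_eq_zero, ← P_r10]
            exact type_r10 C he
        · refine IsType.of_cj C (cj_x C r7 (e / d) _) ?_
          rw [conj_D, div_mul_cancel₀ _ hd, CharTwo.add_self_eq_zero]
          refine IsType.of_cj C (cj_x C r8 (f / d) _) ?_
          rw [conj_E, div_mul_cancel₀ _ hd, CharTwo.add_self_eq_zero, ← P_r9]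
          exact Or.inl (cj_scale C r9 hd)
      · obtain rfl : d = 0 := (mul_eq_zero.1 hcd).resolve_left hc
        exact type_8_10_11 C hc e f
    · obtain ⟨D, E, F', e1⟩ := conj_F C (c / a) a c d e f
      rw [div_mul_cancel₀ _ ha, CharTwo.add_self_eq_zero] at e1
      refine IsType.of_cj C (cj_x C r7 (c / a) _) ?_
      rw [e1]
      set k := c / a with hk
      have hinv : P C a 0 0 D E F' * P C a 0 0 D E F' = 1 := by
        have hk2 : X C r7 k * X C r7 k = 1 := by rw [xx, CharTwo.add_self_eq_zero]; exact C.G.xu_zero r7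
        rw [← e1]
        calc X C r7 k * P C a 0 c d e f * X C r7 k * (X C r7 k * P C a 0 c d e f * X C r7 k)
            = X C r7 k * P C a 0 c d e f * (X C r7 k * X C r7 k) * P C a 0 c d e f * X C r7 k := by group
          _ = 1 := by rw [hk2, mul_one, mul_assoc (X C r7 k), h, mul_one, hk2]
      obtain ⟨-, -, h6'⟩ := P_sq C hinv
      obtain rfl : E = 0 := by
        have : a * E = 0 := by linear_combination h6'
        exact (mul_eq_zero.1 this).resolve_left ha
      refine IsType.of_cj C (cj_x C r10 (F' / a) _) ?_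
      rw [conj_G, div_mul_cancel₀ _ ha, CharTwo.add_self_eq_zero]
      have e2 : P C a 0 0 D 0 0 = X C r6 a * X C r9 D := by simp [P, X, C.G.xu_zero]
      rw [e2]
      refine IsType.of_cj C (cj_w2 C (i := ⟨0, by decide⟩) (s := r10) (s' := r8) (by decide +kernel) (by decide +kernel) a D) ?_
      by_cases hD : D = 0
      · rw [hD, show X C r8 (0 : F) = 1 from C.G.xu_zero r8, mul_one]
        exact type_r10 C ha
      · rw [c0 C (r := r8) (s := r10) (by decide) (by decide) (by decide +kernel) D a]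
        have : X C r8 D * X C r10 a = P C 0 0 D 0 a 0 := by simp [P, X, C.G.xu_zero]
        rw [this]
        exact type_8_10_11 C hD a 0
  · obtain rfl : a = 0 := (mul_eq_zero.1 hab).resolve_right hb
    have hd : d = b * c := by
      have : b * (d - b * c) = 0 := by linear_combination h5 - b ^ 2 * c * h2
      exact sub_eq_zero.1 ((mul_eq_zero.1 this).resolve_left hb)
    subst hd
    obtain ⟨E, F', e1⟩ := conj_H C (c / b) b c e f
    rw [mul_div_cancel₀ _ hb, CharTwo.add_self_eq_zero, mul_zero] at e1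
    refine IsType.of_cj C (cj_x C r6 (c / b) _) ?_
    rw [e1]
    refine IsType.of_cj C (cj_x C r9 (E / b) _) ?_
    rw [conj_I, mul_div_cancel₀ _ hb, CharTwo.add_self_eq_zero]
    have e2 : P C 0 b 0 0 0 F' = X C r7 b * X C r11 F' := by simp [P, X, C.G.xu_zero]
    rw [e2]
    refine IsType.of_cj C (cj_w2 C (i := ⟨1, by decide⟩) (s := r8) (s' := r10) (by decide +kernel) (by decide +kernel) b F') ?_
    have : X C r8 b * X C r10 F' = P C 0 0 b 0 F' 0 := by simp [P, X, C.G.xu_zero]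
    rw [this]
    exact type_8_10_11 C hb F' 0

theorem long_perm (l : List (Fin chevG2.rank)) :
    (C.G.pw l r11).val ∈ ({0, 1, 5, 6, 10, 11} : Finset ℕ) := by
  induction l with
  | nil => rw [C.G.pw_nil, Equiv.Perm.one_apply]; decide
  | cons i l ih =>
    rw [C.G.pw_cons, Equiv.Perm.mul_apply, Good.sP_apply, C.G.w_reflect]
    revert ih
    generalize C.G.pw l r11 = r
    revert i r
    decide +kernel

set_option maxHeartbeats 400000 in
theorem not_cj {g : GL chevG2.Idx F} (hg : g ∈ chevG2.group F) :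
    g * X C r9 (1 : F) * g⁻¹ ≠ X C r11 (1 : F) := by
  intro h
  obtain ⟨b, hb, n, hn, π, hπ, u, hu, rfl⟩ := C.refined_exists hg
  obtain ⟨l, hl⟩ := C.G.exists_nPerm hn
  obtain rfl := Good.NPerm.unique C.G hπ hl
  -- `b` normalises the root subgroup of the highest root
  obtain ⟨x, hx⟩ : ∃ x, b⁻¹ * X C r11 (1 : F) * b = X C r11 x := by
    have hmem : b⁻¹ * X C r11 (1 : F) * b⁻¹⁻¹ ∈ C.G.Uge (K := F) 11 := by
      obtain ⟨v, hv, d, hd, rfl⟩ := C.G.mem_borel_iff.1 hb
      rw [C.G.posUnipotent_eq] at hv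
      have h11 : X C r11 (1 : F) ∈ C.G.Uge (K := F) 11 :=
        C.G.xu_mem_Uge (r := r11) (Nat.le_refl 11) ((pos_iff (r := r11)).2 (by decide)) (1 : F)
      have hn11 := C.Uge_normal (K := F) (m := 11) (inv_mem hv)
      have h1 : v⁻¹ * X C r11 (1 : F) * v⁻¹⁻¹ ∈ C.G.Uge (K := F) 11 :=
        (Subgroup.mem_normalizer_iff.1 hn11 (X C r11 (1 : F))).1 h11
      have h2 := C.G.H_normalizes_Uge (inv_mem hd) h1
      rw [show (v * d)⁻¹ * X C r11 (1 : F) * (v * d)⁻¹⁻¹ =
        d⁻¹ * (v⁻¹ * X C r11 (1 : F) * v⁻¹⁻¹) * d⁻¹⁻¹ by group]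
      exact h2
    obtain ⟨x, v, hv, e⟩ := C.Uge_step (r := r11) ((pos_iff (r := r11)).2 (by decide)) hmem
    rw [show (r11 : Fin chevG2.nroots).val + 1 = 12 from rfl, C.G.Uge_top (m := 12) (by decide), Subgroup.mem_bot] at hv
    rw [hv, mul_one, inv_inv] at e
    exact ⟨x, e⟩
  obtain ⟨c, hc⟩ := Good.NPerm.inv C.G hπ r11
  have e1 : u * X C r9 (1 : F) * u⁻¹ = n⁻¹ * X C r11 x * n⁻¹⁻¹ := by rw [← hx, ← h]; group
  rw [hc] at e1
  have hlong : (((C.G.pw l)⁻¹ r11).val) ∈ ({0, 1, 5, 6, 10, 11} : Finset ℕ) := by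
    rw [← C.G.pw_reverse]; exact long_perm C _
  generalize (C.G.pw l)⁻¹ r11 = r at e1 hlong
  have huU : u ∈ chevG2.posUnipotent F := C.G.Uinv_le _ hu
  have hu0 : u ∈ C.G.Uge (K := F) 0 := C.G.posUnipotent_eq (K := F) ▸ huU
  have p9 : chevG2.IsPosRoot (r9 : Fin chevG2.nroots).val := (pos_iff (r := r9)).2 (by decide)
  have h9 : X C r9 (1 : F) ∈ C.G.Uge (K := F) 9 := C.G.xu_mem_Uge (r := r9) (Nat.le_refl 9) p9 (1 : F)
  set v := (X C r9 (1 : F))⁻¹ * (u * X C r9 (1 : F) * u⁻¹) with hv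
  have hv10 : v ∈ C.G.Uge (K := F) 10 := by
    have := C.Uge_comm_mem (inv_mem h9) hu0
    rw [inv_inv] at this
    rw [hv]
    simpa [mul_assoc] using this
  have e2 : X C r9 (1 : F) * v = C.G.xu r ((c : F) * x) := by rw [hv, mul_inv_cancel_left]; exact e1
  by_cases hr : 6 ≤ r.val
  · simp only [Finset.mem_insert, Finset.mem_singleton] at hlong
    by_cases hr6 : r.val = 6
    · have hr' : r = r6 := Fin.ext hr6
      subst hr'
      have := C.G.lowest_unique (r := r6) (t := (0 : F)) (t' := (c : F) * x) (v := X C r9 (1 : F) * v) (v' := 1)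
        ((pos_iff (r := r6)).2 (by decide)) (mul_mem (C.G.xu_mem_Uge (r := r9) (m := 7) (by decide) p9 (1 : F))
          (C.G.Uge_mono (by decide) hv10)) (one_mem _) (by rw [C.G.xu_zero, one_mul, mul_one, e2])
      obtain ⟨hz, hone⟩ := this
      have h0 := C.G.lowest_unique (r := r9) (t := (1 : F)) (t' := 0) (v := v) (v' := 1) p9 hv10 (one_mem _) (by rw [hone, C.G.xu_zero, one_mul])
      exact one_ne_zero h0.1
    · have hr10 : 10 ≤ r.val := by omega
      have h0 := C.G.lowest_unique (r := r9) (t := (1 : F)) (t' := 0) (v := v) (v' := C.G.xu r ((c : F) * x))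
        p9 hv10 (C.G.xu_mem_Uge (by omega) (pos_iff.2 hr) _)
        (by rw [e2, C.G.xu_zero, one_mul])
      exact one_ne_zero h0.1
  · have hneg : chevG2.IsNegRoot r.val := (C.G.isNegRoot_iff_not_pos r).2 fun hp => hr (pos_iff.1 hp)
    have hU : u * X C r9 (1 : F) * u⁻¹ ∈ chevG2.posUnipotent F :=
      mul_mem (mul_mem huU (C.G.xu_mem_U (r := r9) p9 (1 : F))) (inv_mem huU)
    rw [e1] at hU
    have h1 : C.G.xu r ((c : F) * x) = 1 :=
      Subgroup.mem_bot.1 (C.G.U_inf_V_eq (K := F) ▸ ⟨hU, C.G.xu_mem_V hneg _⟩)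
    rw [h1] at e2
    have h0 := C.G.lowest_unique (r := r9) (t := (1 : F)) (t' := 0) (v := v) (v' := 1) p9 hv10 (one_mem _) (by rw [e2, C.G.xu_zero, one_mul])
    exact one_ne_zero h0.1

theorem type_of_orderOf [Fintype F] {g : GL chevG2.Idx F} (hg : g ∈ chevG2.group F) (h : orderOf g = 2) :
    IsType C g := by
  haveI : Fact (Nat.Prime 2) := ⟨Nat.prime_two⟩
  obtain ⟨P₀, hP₀⟩ := C.exists_sylow (F := F) 2
  set g' : ↥(chevG2.group F) := ⟨g, hg⟩
  have hg2 : orderOf g' = 2 := (Subgroup.orderOf_coe g').symm.trans h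
  obtain ⟨Q, hQ⟩ := (IsPGroup.of_card (p := 2) (n := 1) (G := ↥(Subgroup.zpowers g'))
    (by rw [Nat.card_zpowers, hg2, pow_one])).exists_le_sylow
  obtain ⟨x, hx⟩ := MulAction.exists_smul_eq ↥(chevG2.group F) Q P₀
  have hmem : x * g' * x⁻¹ ∈ (P₀ : Subgroup ↥(chevG2.group F)) := by
    rw [← hx, Sylow.coe_subgroup_smul]
    exact Subgroup.smul_mem_pointwise_smul _ (MulAut.conj x) _ (hQ (Subgroup.mem_zpowers g'))
  rw [hP₀, Subgroup.mem_subgroupOf] at hmem
  obtain ⟨a, b, c, d, e, f, he⟩ := exists_P C hmem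
  have hy : Cj g (P C a b c d e f) := ⟨x, x.2, by rw [← he]; rfl⟩
  refine IsType.of_cj C hy ?_
  have hcoe : ((x * g' * x⁻¹ : ↥(chevG2.group F)) : GL chevG2.Idx F) = (x : GL chevG2.Idx F) * g * (x : GL chevG2.Idx F)⁻¹ := rfl
  rw [hcoe] at he
  refine type_of_sq C ?_ ?_
  · rw [← he]
    intro h1
    rw [mul_inv_eq_one, mul_eq_left] at h1
    rw [h1, orderOf_one] at h
    omega
  · rw [← he]
    have hgg : g * g = 1 := by rw [← pow_two, ← h]; exact pow_orderOf_eq_one g
    calc (x : GL chevG2.Idx F) * g * (x : GL chevG2.Idx F)⁻¹ * ((x : GL chevG2.Idx F) * g * (x : GL chevG2.Idx F)⁻¹)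
        = (x : GL chevG2.Idx F) * (g * g) * (x : GL chevG2.Idx F)⁻¹ := by group
      _ = 1 := by rw [hgg, mul_one, mul_inv_cancel]

end CfsgLib.Lie.G2Invol
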