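import Cfsg.Agent.Lib.Lie.G2.OctSpec
import Cfsg.Agent.Lib.Lie.Chev.Coef
import Cfsg.Agent.Lib.Lie.Chev.CoxTorus.Data
import Mathlib.Data.ZMod.Basic
import Mathlib.FieldTheory.Finite.Basic

/-!
# The Chevalley group of type `G₂` in characteristic two through derivations of the split octonions

The adjoint module is realised by derivations of the octonions. Every element of the group is induced
by an automorphism of the algebra, so its order divides the order of one.
-/

set_option autoImplicit false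
set_option maxRecDepth 100000
set_option maxHeartbeats 1000000
set_option linter.unusedSectionVars false

namespace CfsgLib.Lie.G2Bridge

open Matrix Cfsg.Lie CfsgLib.Lie.Chev

/-- supports of the fourteen derivations -/
def dSupp : List (List (Fin 8 × Fin 8)) :=
  [[(2, 2), (3, 3), (5, 5), (6, 6)],
   [(1, 1), (2, 2), (4, 4), (5, 5)],
   [(3, 2), (5, 6)],
   [(3, 1), (4, 6)],
   [(0, 6), (3, 0), (3, 7), (4, 2), (5, 1), (7, 6)],
   [(0, 2), (1, 6), (3, 4), (5, 0), (5, 7), (7, 2)],
   [(0, 1), (2, 6), (3, 5), (4, 0), (4, 7), (7, 1)],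
   [(1, 2), (5, 4)],
   [(2, 1), (4, 5)],
   [(0, 4), (1, 0), (1, 7), (5, 3), (6, 2), (7, 4)],
   [(0, 5), (2, 0), (2, 7), (4, 3), (6, 1), (7, 5)],
   [(0, 3), (1, 5), (2, 4), (6, 0), (6, 7), (7, 3)],
   [(1, 3), (6, 4)],
   [(2, 3), (6, 5)]]

/-- supports of the coefficients of the root automorphisms -/
def aSupp : List (List (List (Fin 8 × Fin 8))) :=
  [[[(0, 0), (1, 1), (2, 2), (3, 3), (4, 4), (5, 5), (6, 6), (7, 7)], [(3, 2), (5, 6)], []],
   [[(0, 0), (1, 1), (2, 2), (3, 3), (4, 4), (5, 5), (6, 6), (7, 7)], [(3, 1), (4, 6)], []],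
   [[(0, 0), (1, 1), (2, 2), (3, 3), (4, 4), (5, 5), (6, 6), (7, 7)], [(0, 6), (3, 0), (3, 7), (4, 2), (5, 1), (7, 6)], [(3, 6)]],
   [[(0, 0), (1, 1), (2, 2), (3, 3), (4, 4), (5, 5), (6, 6), (7, 7)], [(0, 2), (1, 6), (3, 4), (5, 0), (5, 7), (7, 2)], [(5, 2)]],
   [[(0, 0), (1, 1), (2, 2), (3, 3), (4, 4), (5, 5), (6, 6), (7, 7)], [(0, 1), (2, 6), (3, 5), (4, 0), (4, 7), (7, 1)], [(4, 1)]],
   [[(0, 0), (1, 1), (2, 2), (3, 3), (4, 4), (5, 5), (6, 6), (7, 7)], [(1, 2), (5, 4)], []],
   [[(0, 0), (1, 1), (2, 2), (3, 3), (4, 4), (5, 5), (6, 6), (7, 7)], [(2, 1), (4, 5)], []],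
   [[(0, 0), (1, 1), (2, 2), (3, 3), (4, 4), (5, 5), (6, 6), (7, 7)], [(0, 4), (1, 0), (1, 7), (5, 3), (6, 2), (7, 4)], [(1, 4)]],
   [[(0, 0), (1, 1), (2, 2), (3, 3), (4, 4), (5, 5), (6, 6), (7, 7)], [(0, 5), (2, 0), (2, 7), (4, 3), (6, 1), (7, 5)], [(2, 5)]],
   [[(0, 0), (1, 1), (2, 2), (3, 3), (4, 4), (5, 5), (6, 6), (7, 7)], [(0, 3), (1, 5), (2, 4), (6, 0), (6, 7), (7, 3)], [(6, 3)]],
   [[(0, 0), (1, 1), (2, 2), (3, 3), (4, 4), (5, 5), (6, 6), (7, 7)], [(1, 3), (6, 4)], []],
   [[(0, 0), (1, 1), (2, 2), (3, 3), (4, 4), (5, 5), (6, 6), (7, 7)], [(2, 3), (6, 5)], []]]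

/-- entries recovering the coordinates -/
def lSupp : List (List (Fin 8 × Fin 8)) :=
  [[(1, 1), (2, 2)],
   [(1, 1)],
   [(3, 2)],
   [(3, 1)],
   [(0, 6)],
   [(0, 2)],
   [(0, 1)],
   [(1, 2)],
   [(2, 1)],
   [(0, 4)],
   [(0, 5)],
   [(0, 3)],
   [(1, 3)],
   [(2, 3)]]

/-! ### Zero-one matrices given by lists of positions, compared by parity -/

section parity

variable {ι : Type*} [DecidableEq ι]

/-- the vector counting the members of a list -/
def ofV (l : List ι) : ι → ZMod 2 := fun x => (l.count x : ℕ)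

/-- every member occurs an even number of times in both lists together -/
def evenB (L R : List ι) : Bool := (L ++ R).all fun e => (L ++ R).count e % 2 == 0

theorem ofV_eq_of_even {L R : List ι} (h : evenB L R = true) : ofV L = ofV R := by
  funext x
  have e : (L ++ R).count x % 2 = 0 := by
    by_cases hx : x ∈ L ++ R
    · simpa using List.all_eq_true.1 h x hx
    · rw [List.count_eq_zero.2 hx]
  rw [List.count_append] at e
  show ((L.count x : ℕ) : ZMod 2) = (R.count x : ℕ)
  rw [ZMod.natCast_eq_natCast_iff']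
  omega

theorem ofV_nil : ofV ([] : List ι) = 0 := by funext x; simp [ofV]

theorem ofV_cons (e : ι) (l : List ι) : ofV (e :: l) = Pi.single e 1 + ofV l := by
  funext x
  simp only [ofV, Pi.add_apply]
  rw [List.count_cons, Pi.single_apply, Nat.cast_add, add_comm]
  congr 1
  by_cases h : e = x
  · subst h; simp
  · simp [h, Ne.symm h]

theorem ofV_append (L R : List ι) : ofV (L ++ R) = ofV L + ofV R := by
  funext x; simp [ofV]

theorem ofV_flatMap {κ' : Type*} (f : κ' → List ι) :
    ∀ l : List κ', ofV (l.flatMap f) = (l.map fun z => ofV (f z)).sum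
  | [] => by simp [ofV_nil]
  | z :: l => by rw [List.flatMap_cons, ofV_append, ofV_flatMap f l, List.map_cons, List.sum_cons]

end parity

/-- the matrix of a list of positions -/
def ofM (l : List (Fin 8 × Fin 8)) : Matrix (Fin 8) (Fin 8) (ZMod 2) := Matrix.of fun i j => ofV l (i, j)

theorem ofM_eq_of_even {L R : List (Fin 8 × Fin 8)} (h : evenB L R = true) : ofM L = ofM R := by
  rw [ofM, ofV_eq_of_even h]; rfl

theorem ofM_nil : ofM [] = 0 := by ext i j; simp [ofM, ofV_nil]

theorem ofM_cons (e : Fin 8 × Fin 8) (l : List (Fin 8 × Fin 8)) :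
    ofM (e :: l) = Matrix.single e.1 e.2 1 + ofM l := by
  ext i j
  simp [ofM, ofV_cons, Matrix.single, Pi.single_apply, Prod.ext_iff, eq_comm]

theorem ofM_append (L R : List (Fin 8 × Fin 8)) : ofM (L ++ R) = ofM L + ofM R := by
  ext i j; simp [ofM, ofV_append]

theorem ofM_flatMap {κ' : Type*} (f : κ' → List (Fin 8 × Fin 8)) :
    ∀ l : List κ', ofM (l.flatMap f) = (l.map fun z => ofM (f z)).sum
  | [] => by simp [ofM_nil]
  | z :: l => by rw [List.flatMap_cons, ofM_append, ofM_flatMap f l, List.map_cons, List.sum_cons]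

/-- positions of a product -/
def mulS (L R : List (Fin 8 × Fin 8)) : List (Fin 8 × Fin 8) :=
  L.flatMap fun a => R.flatMap fun b => if a.2 = b.1 then [(a.1, b.2)] else []

theorem ofM_single_mul (a : Fin 8 × Fin 8) (R : List (Fin 8 × Fin 8)) :
    ofM (R.flatMap fun b => if a.2 = b.1 then [(a.1, b.2)] else []) = Matrix.single a.1 a.2 1 * ofM R := by
  induction R with
  | nil => simp [ofM_nil]
  | cons b R ihR =>
    rw [List.flatMap_cons, ofM_append, ihR, ofM_cons b R, mul_add]
    congr 1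
    by_cases h : a.2 = b.1
    · rw [if_pos h, ofM_cons, ofM_nil, add_zero, h, Matrix.single_mul_single_same, mul_one]
    · rw [if_neg h, ofM_nil, Matrix.single_mul_single_of_ne (h := h)]

theorem ofM_mulS (L R : List (Fin 8 × Fin 8)) : ofM (mulS L R) = ofM L * ofM R := by
  induction L with
  | nil => simp [mulS, ofM_nil]
  | cons a L ih =>
    rw [mulS, List.flatMap_cons, ofM_append, ← mulS, ih, ofM_cons, add_mul, ofM_single_mul]

/-- the positions of a basis derivation -/
def dS (b : chevG2.Idx) : List (Fin 8 × Fin 8) := dSupp.getD (pos chevG2 b) []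

/-- the positions of a coefficient of a root automorphism -/
def aS (r : Fin chevG2.nroots) (k : ℕ) : List (Fin 8 × Fin 8) := (aSupp.getD r.val []).getD k []

/-- the derivation attached to a basis vector -/
def dM (b : chevG2.Idx) : Matrix (Fin 8) (Fin 8) (ZMod 2) := ofM (dS b)

/-- the coefficient of `t ^ k` in the root automorphism -/
def aM (r : Fin chevG2.nroots) (k : ℕ) : Matrix (Fin 8) (Fin 8) (ZMod 2) := ofM (aS r k)

/-- the coefficient of `t ^ k` in the adjoint root element -/
def gM (r : Fin chevG2.nroots) (k : ℕ) : Matrix chevG2.Idx chevG2.Idx (ZMod 2) :=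
  (dmat chevG2 r k).map (Int.cast : ℤ → ZMod 2)

/-- all basis vectors of the adjoint module -/
def idxList : List chevG2.Idx :=
  (List.finRange chevG2.rank).map Sum.inl ++ (List.finRange chevG2.nroots).map Sum.inr

theorem idx_sum {M : Type*} [AddCommMonoid M] (f : chevG2.Idx → M) : ∑ c, f c = (idxList.map f).sum := by
  rw [idxList, List.map_append, List.sum_append, Fintype.sum_sum_type, List.map_map, List.map_map]
  simp [Fin.sum_univ_def, Function.comp_def]

/-- the positions of the derivation of a column of the adjoint root element -/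
def gS (r : Fin chevG2.nroots) (k : ℕ) (b : chevG2.Idx) : List (Fin 8 × Fin 8) :=
  idxList.flatMap fun c => if dmat chevG2 r k c b % 2 = 0 then [] else dS c

theorem ofM_gS (r : Fin chevG2.nroots) (k : ℕ) (b : chevG2.Idx) :
    ofM (gS r k b) = ∑ c, gM r k c b • dM c := by
  rw [gS, ofM_flatMap, idx_sum]
  congr 1
  refine List.map_congr_left fun c _ => ?_
  by_cases h : dmat chevG2 r k c b % 2 = 0
  · rw [if_pos h, ofM_nil, show gM r k c b = 0 from (ZMod.intCast_zmod_eq_zero_iff_dvd _ 2).2
      (Int.dvd_of_emod_eq_zero h), zero_smul]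
  · rw [if_neg h, dM, show gM r k c b = 1 from ?_, one_smul]
    show ((dmat chevG2 r k c b : ℤ) : ZMod 2) = ((1 : ℤ) : ZMod 2)
    rw [ZMod.intCast_eq_intCast_iff']
    omega

/-- the basis products of the octonions -/
def prodS (i j : Fin 8) : List (Fin 8) :=
  (List.finRange 8).filter fun z => decide (zornMul (Pi.single i (1 : ZMod 2)) (Pi.single j 1) z ≠ 0)

theorem prodS_spec : ∀ i j : Fin 8,
    ofV (prodS i j) = zornMul (Pi.single i (1 : ZMod 2)) (Pi.single j 1) := by decide +kernel

/-- positions of the image of a basis vector -/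
def colS (A : List (Fin 8 × Fin 8)) (j : Fin 8) : List (Fin 8) :=
  A.flatMap fun a => if a.2 = j then [a.1] else []

theorem ofV_colS (A : List (Fin 8 × Fin 8)) (j : Fin 8) :
    ofV (colS A j) = ofM A *ᵥ Pi.single j (1 : ZMod 2) := by
  induction A with
  | nil => funext x; simp [colS, ofV_nil, ofM_nil, Matrix.mulVec_single]
  | cons a A ih =>
    rw [colS, List.flatMap_cons, ofV_append, ← colS, ih, ofM_cons, Matrix.add_mulVec]
    congr 1
    funext x
    by_cases h : a.2 = j
    · simp [h, ofV_cons, ofV_nil, Matrix.single, Pi.single_apply, Matrix.mulVec_single, eq_comm]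
    · simp [h, ofV_nil, Matrix.single, Matrix.mulVec_single]

/-- positions of a product of two combinations -/
def zornS (U W : List (Fin 8)) : List (Fin 8) := U.flatMap fun i => W.flatMap fun j => prodS i j

theorem ofV_prod_single (i : Fin 8) (W : List (Fin 8)) :
    ofV (W.flatMap fun j => prodS i j) = zornMul (Pi.single i (1 : ZMod 2)) (ofV W) := by
  rw [← G2Spec.zm_apply]
  induction W with
  | nil => rw [List.flatMap_nil, ofV_nil, map_zero]
  | cons j W ihW => rw [List.flatMap_cons, ofV_append, ihW, ofV_cons, map_add, prodS_spec]; rfl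

theorem ofV_zornS (U W : List (Fin 8)) : ofV (zornS U W) = zornMul (ofV U) (ofV W) := by
  rw [← G2Spec.zm_apply]
  induction U with
  | nil => rw [zornS, List.flatMap_nil, ofV_nil, map_zero, LinearMap.zero_apply]
  | cons i U ih =>
    rw [zornS, List.flatMap_cons, ofV_append, ← zornS, ih, ofV_cons, map_add, LinearMap.add_apply,
      ofV_prod_single]
    rfl

theorem ofV_colsS (A : List (Fin 8 × Fin 8)) (U : List (Fin 8)) :
    ofV (U.flatMap fun z => colS A z) = ofM A *ᵥ ofV U := by
  induction U with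
  | nil => simp [ofV_nil]
  | cons z U ih => rw [List.flatMap_cons, ofV_append, ih, ofV_colS, ofV_cons, Matrix.mulVec_add]

/-- the terms of degree `d` of a product of two polynomials -/
def conv {α : Type} (n n' d : ℕ) (f : ℕ → ℕ → List α) : List α :=
  (List.finRange n).flatMap fun (k : Fin n) => (List.finRange n').flatMap fun (l : Fin n') =>
    if k.val + l.val = d then f k.val l.val else []

theorem ofM_conv (n n' d : ℕ) (f : ℕ → ℕ → List (Fin 8 × Fin 8)) :
    ofM (conv n n' d f) = ∑ k : Fin n, ∑ l : Fin n', if k.val + l.val = d then ofM (f k l) else 0 := by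
  rw [conv, ofM_flatMap, Fin.sum_univ_def]
  congr 1
  refine List.map_congr_left fun k _ => ?_
  rw [ofM_flatMap, Fin.sum_univ_def]
  congr 1
  refine List.map_congr_left fun l _ => ?_
  split_ifs <;> simp [ofM_nil]

theorem ofV_conv (n n' d : ℕ) (f : ℕ → ℕ → List (Fin 8)) :
    ofV (conv n n' d f) = ∑ k : Fin n, ∑ l : Fin n', if k.val + l.val = d then ofV (f k l) else 0 := by
  rw [conv, ofV_flatMap, Fin.sum_univ_def]
  congr 1
  refine List.map_congr_left fun k _ => ?_
  rw [ofV_flatMap, Fin.sum_univ_def]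
  congr 1
  refine List.map_congr_left fun l _ => ?_
  split_ifs <;> simp [ofV_nil]

theorem bool_sq : ∀ r : Fin chevG2.nroots, ∀ d : Fin 5,
    evenB (conv 3 3 d fun k l => mulS (aS r k) (aS r l))
      (if d.val = 0 then (List.finRange 8).map fun i => (i, i) else []) = true := by decide +kernel

theorem bool_auto : ∀ r : Fin chevG2.nroots, ∀ i j : Fin 8, ∀ d : Fin 5,
    evenB (conv 3 1 d fun k _ => (prodS i j).flatMap fun z => colS (aS r k) z)
      (conv 3 3 d fun k l => zornS (colS (aS r k) i) (colS (aS r l) j)) = true := by decide +kernel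

theorem bool_rel : ∀ r : Fin chevG2.nroots, ∀ b : chevG2.Idx, ∀ d : Fin 6,
    evenB (conv 3 1 d fun k _ => mulS (aS r k) (dS b))
      (conv 4 3 d fun k l => mulS (gS r k b) (aS r l)) = true := by decide +kernel

theorem chk_sq (r : Fin chevG2.nroots) (d : Fin 5) :
    (∑ k : Fin 3, ∑ l : Fin 3, if k.val + l.val = d.val then aM r k * aM r l else 0) =
      if d.val = 0 then 1 else 0 := by
  have h := ofM_eq_of_even (bool_sq r d)
  rw [ofM_conv] at h
  simp only [ofM_mulS] at h
  refine h.trans ?_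
  split_ifs
  · decide +kernel
  · exact ofM_nil

theorem chk_auto (r : Fin chevG2.nroots) (i j : Fin 8) (d : Fin 5) :
    (∑ k : Fin 3, if k.val = d.val then
        aM r k *ᵥ zornMul (Pi.single i (1 : ZMod 2)) (Pi.single j 1) else 0) =
      ∑ k : Fin 3, ∑ l : Fin 3, if k.val + l.val = d.val then
        zornMul (aM r k *ᵥ Pi.single i (1 : ZMod 2)) (aM r l *ᵥ Pi.single j 1) else 0 := by
  have h := ofV_eq_of_even (bool_auto r i j d)
  rw [ofV_conv, ofV_conv] at h
  simp only [ofV_colsS, ofV_zornS, ofV_colS, prodS_spec, Fin.sum_univ_one, Fin.val_zero, add_zero] at h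
  exact h

theorem chk_rel (r : Fin chevG2.nroots) (b : chevG2.Idx) (d : Fin 6) :
    (∑ k : Fin 3, if k.val = d.val then aM r k * dM b else 0) =
      ∑ k : Fin 4, ∑ l : Fin 3, if k.val + l.val = d.val then
        (∑ c, gM r k c b • dM c) * aM r l else 0 := by
  have h := ofM_eq_of_even (bool_rel r b d)
  rw [ofM_conv, ofM_conv] at h
  simp only [ofM_mulS, ofM_gS, Fin.sum_univ_one, Fin.val_zero, add_zero] at h
  exact h

/-- the recovering functional -/
def lC (c : chevG2.Idx) (M : Matrix (Fin 8) (Fin 8) (ZMod 2)) : ZMod 2 :=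
  ((lSupp.getD (pos chevG2 c) []).map fun e => M e.1 e.2).sum

theorem chk_left : ∀ b c : chevG2.Idx, lC c (dM b) = if b = c then 1 else 0 := by decide +kernel

variable {F : Type*} [Field F] [CharP F 2]

/-- the prime field -/
noncomputable abbrev κ (F : Type*) [Field F] [CharP F 2] : ZMod 2 →+* F := ZMod.castHom dvd_rfl F

/-- the derivation attached to a vector -/
noncomputable def DV (v : chevG2.Idx → F) : Matrix (Fin 8) (Fin 8) F := ∑ c, v c • (dM c).map (κ F)

theorem DV_add (v w : chevG2.Idx → F) : DV (v + w) = DV v + DV w := by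
  simp [DV, add_smul, Finset.sum_add_distrib]

theorem DV_smul (a : F) (v : chevG2.Idx → F) : DV (a • v) = a • DV v := by
  simp [DV, Finset.smul_sum, smul_smul]

theorem DV_single (b : chevG2.Idx) : DV (Pi.single b (1 : F)) = (dM b).map (κ F) := by
  rw [DV, Finset.sum_eq_single b (fun c _ hc => by rw [Pi.single_eq_of_ne hc, zero_smul])
    (fun h => absurd (Finset.mem_univ b) h), Pi.single_eq_same, one_smul]

theorem DV_injective : Function.Injective (DV (F := F)) := by
  intro v w h
  funext c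
  have key : ∀ u : chevG2.Idx → F,
      ((lSupp.getD (pos chevG2 c) []).map fun e => DV u e.1 e.2).sum = u c := by
    intro u
    have e1 : ∀ l : List (Fin 8 × Fin 8), (l.map fun e => DV u e.1 e.2).sum =
        ∑ b, u b * κ F ((l.map fun e => dM b e.1 e.2).sum) := by
      intro l
      induction l with
      | nil => simp
      | cons e l ih =>
        simp only [List.map_cons, List.sum_cons, map_add, mul_add, Finset.sum_add_distrib, ih]
        congr 1
    rw [e1]
    have e2 : ∀ b, ((lSupp.getD (pos chevG2 c) []).map fun e => dM b e.1 e.2).sum =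
        if b = c then 1 else 0 := fun b => chk_left b c
    simp only [e2]
    simp [apply_ite (κ F), -Fintype.sum_sum_type]
  rw [← key v, ← key w, h]

/-- the root automorphism as a matrix -/
noncomputable def aX (r : Fin chevG2.nroots) (t : F) : Matrix (Fin 8) (Fin 8) F :=
  ∑ k : Fin 3, t ^ k.val • (aM r k).map (κ F)

theorem sum_collect {M : Type*} [AddCommMonoid M] [Module F M] {n n' : ℕ} (t : F) (f : Fin n → Fin n' → M) :
    ∑ k : Fin n, ∑ l : Fin n', t ^ (k.val + l.val) • f k l =
      ∑ d : Fin (n + n' - 1), t ^ d.val •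
        ∑ k : Fin n, ∑ l : Fin n', if k.val + l.val = d.val then f k l else 0 := by
  simp only [Finset.smul_sum, smul_ite, smul_zero]
  conv_rhs => rw [Finset.sum_comm]
  refine Finset.sum_congr rfl fun k _ => ?_
  conv_rhs => rw [Finset.sum_comm]
  refine Finset.sum_congr rfl fun l _ => ?_
  rw [Finset.sum_eq_single (⟨k.val + l.val, by have := k.isLt; have := l.isLt; omega⟩ : Fin (n + n' - 1))
    (fun d _ hd => if_neg fun e => hd (Fin.ext e.symm)) (fun h => absurd (Finset.mem_univ _) h), if_pos rfl]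

theorem sum_single {M : Type*} [AddCommMonoid M] [Module F M] {n N : ℕ} (hN : n ≤ N) (t : F) (f : Fin n → M) :
    ∑ k : Fin n, t ^ k.val • f k = ∑ d : Fin N, t ^ d.val • ∑ k : Fin n, if k.val = d.val then f k else 0 := by
  simp only [Finset.smul_sum, smul_ite, smul_zero]
  rw [Finset.sum_comm]
  refine Finset.sum_congr rfl fun k _ => ?_
  rw [Finset.sum_eq_single (⟨k.val, lt_of_lt_of_le k.isLt hN⟩ : Fin N)
    (fun d _ hd => if_neg fun e => hd (Fin.ext e.symm)) (fun h => absurd (Finset.mem_univ _) h), if_pos rfl]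

theorem aX_sq (r : Fin chevG2.nroots) (t : F) : aX r t * aX r t = 1 := by
  rw [aX, Finset.sum_mul_sum]
  simp only [smul_mul_smul_comm, ← pow_add, ← Matrix.map_mul]
  rw [sum_collect]
  rw [Finset.sum_eq_single (0 : Fin 5) (fun d _ hd => ?_) (fun h => absurd (Finset.mem_univ _) h)]
  · have h := congrArg (fun M : Matrix (Fin 8) (Fin 8) (ZMod 2) => M.map (κ F)) (chk_sq r 0)
    simp only [Fin.val_zero, if_true, Matrix.map_one (κ F) (map_zero _) (map_one _)] at h
    rw [Fin.val_zero, pow_zero, one_smul, ← h]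
    simp only [← RingHom.mapMatrix_apply, map_sum, apply_ite ((κ F).mapMatrix), map_zero]
  · have h := congrArg (fun M : Matrix (Fin 8) (Fin 8) (ZMod 2) => M.map (κ F)) (chk_sq r d)
    have hd' : d.val ≠ 0 := fun e => hd (Fin.ext e)
    simp only [if_neg hd', ← RingHom.mapMatrix_apply, map_sum, apply_ite ((κ F).mapMatrix), map_zero] at h
    simp only [← RingHom.mapMatrix_apply]
    rw [h, smul_zero]

theorem aX_auto (r : Fin chevG2.nroots) (t : F) (x y : Fin 8 → F) :
    aX r t *ᵥ zornMul x y = zornMul (aX r t *ᵥ x) (aX r t *ᵥ y) := by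
  refine G2Spec.mul_of_basis (fun i j => ?_) x y
  have eb : ∀ k : Fin 8, (Pi.single k 1 : Fin 8 → F) = κ F ∘ (Pi.single k 1 : Fin 8 → ZMod 2) := fun k => by
    funext l; by_cases h : l = k <;> simp [Pi.single_apply, h]
  have eL : aX r t *ᵥ zornMul (Pi.single i 1) (Pi.single j 1) = ∑ k : Fin 3, t ^ k.val •
      (κ F ∘ (aM r k *ᵥ zornMul (Pi.single i (1 : ZMod 2)) (Pi.single j 1))) := by
    rw [eb i, eb j, G2Spec.map_zornMul, aX, Matrix.sum_mulVec]
    exact Finset.sum_congr rfl fun k _ => by rw [Matrix.smul_mulVec, G2Spec.map_mulVec']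
  have e1 : ∀ i : Fin 8, aX r t *ᵥ (Pi.single i 1 : Fin 8 → F) =
      ∑ k : Fin 3, t ^ k.val • (κ F ∘ (aM r k *ᵥ Pi.single i (1 : ZMod 2))) := fun i => by
    rw [eb i, aX, Matrix.sum_mulVec]
    exact Finset.sum_congr rfl fun k _ => by rw [Matrix.smul_mulVec, G2Spec.map_mulVec']
  have eR : ∀ u w : Fin 3 → Fin 8 → ZMod 2,
      zornMul (∑ k : Fin 3, t ^ k.val • (κ F ∘ u k)) (∑ l : Fin 3, t ^ l.val • (κ F ∘ w l)) =
        ∑ k : Fin 3, ∑ l : Fin 3, t ^ (k.val + l.val) • (κ F ∘ zornMul (u k) (w l)) := by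
    intro u w
    rw [← G2Spec.zm_apply, map_sum (G2Spec.zm (R := F)), LinearMap.sum_apply]
    refine Finset.sum_congr rfl fun k _ => ?_
    rw [map_smul, LinearMap.smul_apply, map_sum, Finset.smul_sum]
    refine Finset.sum_congr rfl fun l _ => ?_
    rw [map_smul, smul_smul, ← pow_add, G2Spec.zm_apply, G2Spec.map_zornMul]
  rw [eL, e1, e1, eR, sum_collect, sum_single (show 3 ≤ 5 by norm_num)]
  refine Finset.sum_congr rfl fun d _ => ?_
  congr 1
  have h := congrArg (fun v : Fin 8 → ZMod 2 => κ F ∘ v) (chk_auto r i j d)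
  funext z
  have hz := congrFun h z
  simp only [Function.comp_apply, Finset.sum_apply, map_sum, ite_apply, Pi.zero_apply,
    apply_ite (κ F), map_zero] at hz ⊢
  exact hz

theorem aX_rel (r : Fin chevG2.nroots) (t : F) (v : chevG2.Idx → F) :
    aX r t * DV v = DV (xg F r t *ᵥ v) * aX r t := by
  have hb : ∀ b, aX r t * DV (Pi.single b 1) = DV (xg F r t *ᵥ Pi.single b 1) * aX r t := by
    intro b
    have hg : DV (xg F r t *ᵥ Pi.single b 1) =
        ∑ k : Fin 4, t ^ k.val • (∑ c, gM r k c b • dM c).map (κ F) := by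
      rw [DV]
      simp only [Matrix.mulVec_single_one, Matrix.col_apply, xg, Finset.sum_range, Matrix.sum_apply,
        Matrix.smul_apply, Finset.sum_smul]
      rw [Finset.sum_comm]
      refine Finset.sum_congr rfl fun k _ => ?_
      rw [← RingHom.mapMatrix_apply, map_sum, Finset.smul_sum]
      refine Finset.sum_congr rfl fun c _ => ?_
      ext i j
      simp [gM, mul_assoc]
    rw [DV_single, hg, aX, Finset.sum_mul_sum]
    rw [Finset.sum_mul]
    simp only [smul_mul_smul_comm, ← pow_add, ← Matrix.map_mul]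
    rw [sum_collect]
    simp only [smul_mul_assoc, ← Matrix.map_mul]
    rw [sum_single (show 3 ≤ 6 by norm_num)]
    refine Finset.sum_congr rfl fun d _ => ?_
    congr 1
    have h := congrArg (fun M : Matrix (Fin 8) (Fin 8) (ZMod 2) => M.map (κ F)) (chk_rel r b d)
    simpa only [← RingHom.mapMatrix_apply, map_sum, apply_ite ((κ F).mapMatrix), map_zero] using h
  have hv : v = ∑ b, v b • (Pi.single b 1 : chevG2.Idx → F) := by
    funext c; simp [Finset.sum_apply, Pi.single_apply]
  let L₁ : (chevG2.Idx → F) →ₗ[F] Matrix (Fin 8) (Fin 8) F :=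
    { toFun := fun w => aX r t * DV w
      map_add' := fun a b => by rw [DV_add, mul_add]
      map_smul' := fun a b => by rw [DV_smul, mul_smul_comm]; rfl }
  let L₂ : (chevG2.Idx → F) →ₗ[F] Matrix (Fin 8) (Fin 8) F :=
    { toFun := fun w => DV (xg F r t *ᵥ w) * aX r t
      map_add' := fun a b => by rw [Matrix.mulVec_add, DV_add, add_mul]
      map_smul' := fun a b => by rw [Matrix.mulVec_smul, DV_smul, smul_mul_assoc]; rfl }
  show L₁ v = L₂ v
  rw [hv, map_sum, map_sum]
  exact Finset.sum_congr rfl fun b _ => by rw [map_smul, map_smul]; congr 1; exact hb b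

/-- the root automorphism -/
noncomputable def aG (r : Fin chevG2.nroots) (t : F) : G2 F :=
  ⟨⟨aX r t, aX r t, aX_sq r t, aX_sq r t⟩, Classical.G2Quat.mem_G2.2 (aX_auto r t)⟩

/-- `g` is induced by the automorphism `h` -/
def Induced (h : G2 F) (g : GL chevG2.Idx F) : Prop :=
  ∀ v, h.1.1 * DV v = DV (g.1 *ᵥ v) * h.1.1

theorem Induced.mul {h h' : G2 F} {g g' : GL chevG2.Idx F} (a : Induced h g) (a' : Induced h' g') :
    Induced (h * h') (g * g') := fun v => by
  rw [Subgroup.coe_mul, Units.val_mul, Matrix.mul_assoc, a' v, ← Matrix.mul_assoc, a, Units.val_mul,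
    Matrix.mulVec_mulVec, Matrix.mul_assoc]

theorem induced_one : Induced (1 : G2 F) (1 : GL chevG2.Idx F) := fun v => by
  simp

theorem Induced.inv {h : G2 F} {g : GL chevG2.Idx F} (a : Induced h g) : Induced h⁻¹ g⁻¹ := fun v => by
  have e := a ((g⁻¹).1 *ᵥ v)
  rw [Matrix.mulVec_mulVec, Units.mul_inv, Matrix.one_mulVec] at e
  rw [Subgroup.coe_inv]
  calc (h.1⁻¹).1 * DV v = (h.1⁻¹).1 * (DV v * h.1.1) * (h.1⁻¹).1 := by
        rw [Matrix.mul_assoc, Matrix.mul_assoc, Units.mul_inv, Matrix.mul_one]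
    _ = (h.1⁻¹).1 * (h.1.1 * DV ((g⁻¹).1 *ᵥ v)) * (h.1⁻¹).1 := by rw [e]
    _ = _ := by rw [← Matrix.mul_assoc, Units.inv_mul, Matrix.one_mul]

theorem Induced.eq_one {g : GL chevG2.Idx F} (a : Induced 1 g) : g = 1 :=
  Units.ext (Matrix.ext_of_mulVec_single fun i => DV_injective (by
    have := a (Pi.single i 1)
    rw [Units.val_one, Matrix.one_mulVec]
    simpa using this.symm))

theorem exists_induced {g : GL chevG2.Idx F} (hg : g ∈ chevG2.group F) : ∃ h : G2 F, Induced h g := by
  refine Subgroup.closure_induction (p := fun g _ => ∃ h : G2 F, Induced h g) ?_ ⟨1, induced_one⟩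
    (fun x y _ _ ⟨a, ha⟩ ⟨b, hb⟩ => ⟨a * b, ha.mul hb⟩) (fun x _ ⟨a, ha⟩ => ⟨a⁻¹, ha.inv⟩) hg
  rintro x ⟨r, t, hx⟩
  refine ⟨aG r t, fun v => ?_⟩
  rw [hx, xMat_eq (CoxTorus.cG2).G.shape F r t]
  exact aX_rel r t v

/-- element orders of the Chevalley group -/
theorem order_dvd [Fintype F] (g : ↥(chevG2.group F)) :
    ∃ m ∈ ({8, 12, 2 * (Fintype.card F + 1), 2 * (Fintype.card F - 1), Fintype.card F ^ 2 - 1,
      Fintype.card F ^ 2 + Fintype.card F + 1, Fintype.card F ^ 2 - Fintype.card F + 1} : Set ℕ),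
      orderOf g ∣ m := by
  obtain ⟨h, hh⟩ := exists_induced g.2
  obtain ⟨m, hm, hd⟩ := G2Spec.order_dvd h
  refine ⟨m, hm, orderOf_dvd_iff_pow_eq_one.2 (Subtype.ext (Induced.eq_one ?_))⟩
  have hpow : ∀ k : ℕ, Induced (h ^ k) (g.1 ^ k) := fun k => by
    induction k with
    | zero => rw [pow_zero, pow_zero]; exact induced_one
    | succ k ih => rw [pow_succ, pow_succ]; exact ih.mul hh
  have := hpow m
  rw [orderOf_dvd_iff_pow_eq_one.1 hd] at this
  exact this

end CfsgLib.Lie.G2Bridge
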