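import Cfsg.Agent.Lib.Lie.G2.OctAdj
import Cfsg.Agent.Lib.Lie.Chev.SL2Root
import Cfsg.Agent.Lib.Lie.Chev.Tw.Tools
import Cfsg.Agent.Lib.Classical.PSL2Spectrum
import Cfsg.Agent.Lib.Perm.Dickson.Minimal

/-!
# `G₂(2^a)`: elements of the extremal orders

Two explicit products of root elements over the prime field, products in the commuting `SL₂`'s of a long
root and a short one perpendicular to it, and generators of the two tori of cyclic type.
-/

set_option autoImplicit false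
set_option maxRecDepth 100000
set_option maxHeartbeats 1000000
set_option linter.unusedSectionVars false

namespace CfsgLib.Lie.G2Exist

open Cfsg.Lie CfsgLib.Lie.Chev CfsgLib.Lie.CoxTorus CfsgLib.Lie.G2Bridge

/-- a zero-one matrix from rows coded in binary -/
def bm (l : List ℕ) : Matrix chevG2.Idx chevG2.Idx (ZMod 2) :=
  Matrix.of fun i j => if (l.getD (pos chevG2 i) 0).testBit (pos chevG2 j) then 1 else 0

/-- a root index -/
def ri (k : ℕ) (h : k < 12 := by norm_num) : Fin chevG2.nroots := ⟨k, h⟩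

def e1 : List ℕ :=
  [10913, 34, 10918, 348, 1079, 2208, 68, 4224, 340, 640, 1059, 2176, 4096, 10880]
def e2 : List ℕ :=
  [4609, 2178, 4644, 11997, 2193, 4256, 10978, 128, 12161, 4608, 9728, 6144, 4096, 12288]
def e4 : List ℕ :=
  [4097, 4098, 132, 4107, 528, 32, 2112, 128, 8448, 512, 1024, 2048, 4096, 8192]
def w1 : List ℕ :=
  [9289, 2051, 15435, 8448, 10304, 6673, 9216, 4772, 256, 4128, 8256, 2065, 4644, 9288]
def w2 : List ℕ :=
  [9537, 9307, 14199, 9544, 2137, 1564, 1032, 14074, 256, 2101, 72, 1048, 9310, 264]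
def w3 : List ℕ :=
  [1345, 1282, 348, 8, 280, 1387, 320, 11258, 256, 8770, 1280, 10496, 7424, 8192]
def w4 : List ℕ :=
  [8457, 10563, 4107, 8448, 2112, 4635, 9472, 4239, 256, 6251, 8512, 11609, 15221, 9288]
def w6 : List ℕ :=
  [1, 258, 12, 8, 16, 96, 64, 385, 256, 1536, 1024, 2048, 12288, 8192]

theorem e_word : xg (ZMod 2) (ri 0) 1 * xg (ZMod 2) (ri 8) 1 = bm e1 := by decide +kernel

theorem e_chain : bm e1 * bm e1 = bm e2 ∧ bm e2 * bm e2 = bm e4 ∧ bm e4 * bm e4 = 1 ∧ bm e4 ≠ 1 :=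
  ⟨by decide +kernel, by decide +kernel, by decide +kernel, by decide +kernel⟩

theorem w_word : xg (ZMod 2) (ri 0) 1 * xg (ZMod 2) (ri 2) 1 * xg (ZMod 2) (ri 9) 1 = bm w1 := by
  decide +kernel

theorem w_chain : bm w1 * bm w1 = bm w2 ∧ bm w2 * bm w1 = bm w3 ∧ bm w2 * bm w2 = bm w4 ∧
    bm w3 * bm w3 = bm w6 ∧ bm w6 * bm w6 = 1 ∧ bm w4 ≠ 1 ∧ bm w6 ≠ 1 :=
  ⟨by decide +kernel, by decide +kernel, by decide +kernel, by decide +kernel, by decide +kernel,
    by decide +kernel, by decide +kernel⟩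

variable {F : Type*} [Field F] [CharP F 2]

theorem val_word (L : List (Fin chevG2.nroots)) :
    (((L.map fun r => cG2.G.xu r (1 : F)).prod : GL chevG2.Idx F) : Matrix chevG2.Idx chevG2.Idx F) =
      (κ F).mapMatrix ((L.map fun r => xg (ZMod 2) r 1).prod) := by
  induction L with
  | nil => simp
  | cons r L ih =>
    rw [List.map_cons, List.prod_cons, List.map_cons, List.prod_cons, map_mul, Units.val_mul, ih]
    congr 1
    show xg F r 1 = (xg (ZMod 2) r 1).map (κ F)
    rw [xg_map, map_one]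

/-- the element of order eight -/
theorem order_eight : ∃ g : ↥(chevG2.group F), orderOf g = 8 := by
  set x : GL chevG2.Idx F := ([ri 0, ri 8].map fun r => cG2.G.xu r (1 : F)).prod with hx
  have hv : (x : Matrix chevG2.Idx chevG2.Idx F) = (κ F).mapMatrix (bm e1) := by
    rw [hx, val_word, ← e_word]; simp
  obtain ⟨h2, h4, h8, hne⟩ := e_chain
  have p4 : ((x ^ 4 : GL chevG2.Idx F) : Matrix chevG2.Idx chevG2.Idx F) = (κ F).mapMatrix (bm e4) := by
    rw [Units.val_pow_eq_pow_val, hv, ← map_pow, show (4 : ℕ) = 2 * 2 from rfl, pow_mul, pow_two (bm e1),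
      h2, pow_two, h4]
  have hinj : Function.Injective ((κ F).mapMatrix (m := chevG2.Idx)) :=
    Matrix.map_injective (κ F).injective
  have hmem : x ∈ chevG2.group F := mul_mem (cG2.G.xu_mem _ _)
    (mul_mem (cG2.G.xu_mem _ _) (one_mem _))
  refine ⟨⟨x, hmem⟩, ?_⟩
  rw [← Subgroup.orderOf_coe]
  refine orderOf_eq_prime_pow (p := 2) (n := 2) (fun h => hne (hinj ?_)) ?_
  · rw [← p4, map_one, show x ^ 4 = 1 from h, Units.val_one]
  · show x ^ 2 ^ (2 + 1) = 1
    refine Units.ext ?_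
    rw [show 2 ^ (2 + 1) = 4 * 2 from rfl, pow_mul, Units.val_pow_eq_pow_val, p4, ← map_pow, pow_two, h8,
      map_one, Units.val_one]

/-- the element of order twelve -/
theorem order_twelve : ∃ g : ↥(chevG2.group F), orderOf g = 12 := by
  set x : GL chevG2.Idx F := ([ri 0, ri 2, ri 9].map fun r => cG2.G.xu r (1 : F)).prod with hx
  have hv : (x : Matrix chevG2.Idx chevG2.Idx F) = (κ F).mapMatrix (bm w1) := by
    rw [hx, val_word, ← w_word]; simp [mul_assoc]
  obtain ⟨h2, h3, h4, h6, h12, hne4, hne6⟩ := w_chain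
  have hinj : Function.Injective ((κ F).mapMatrix (m := chevG2.Idx)) :=
    Matrix.map_injective (κ F).injective
  have p4 : ((x ^ 4 : GL chevG2.Idx F) : Matrix chevG2.Idx chevG2.Idx F) = (κ F).mapMatrix (bm w4) := by
    rw [Units.val_pow_eq_pow_val, hv, ← map_pow, show (4 : ℕ) = 2 * 2 from rfl, pow_mul, pow_two (bm w1),
      h2, pow_two, h4]
  have p6 : ((x ^ 6 : GL chevG2.Idx F) : Matrix chevG2.Idx chevG2.Idx F) = (κ F).mapMatrix (bm w6) := by
    rw [Units.val_pow_eq_pow_val, hv, ← map_pow, show (6 : ℕ) = 3 * 2 from rfl, pow_mul,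
      pow_succ (bm w1), pow_two, pow_two (bm w1), h2, h3, h6]
  have hmem : x ∈ chevG2.group F := mul_mem (cG2.G.xu_mem _ _)
    (mul_mem (cG2.G.xu_mem _ _) (mul_mem (cG2.G.xu_mem _ _) (one_mem _)))
  refine ⟨⟨x, hmem⟩, ?_⟩
  rw [← Subgroup.orderOf_coe]
  have hd : orderOf x ∣ 12 := orderOf_dvd_of_pow_eq_one (Units.ext (by
    rw [show (12 : ℕ) = 6 * 2 from rfl, pow_mul, Units.val_pow_eq_pow_val, p6, ← map_pow, pow_two, h12,
      map_one, Units.val_one]))
  have n4 : ¬ orderOf x ∣ 4 := fun h => hne4 (hinj (by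
    rw [← p4, map_one, orderOf_dvd_iff_pow_eq_one.1 h, Units.val_one]))
  have n6 : ¬ orderOf x ∣ 6 := fun h => hne6 (hinj (by
    rw [← p6, map_one, orderOf_dvd_iff_pow_eq_one.1 h, Units.val_one]))
  have h12' := Nat.le_of_dvd (by norm_num) hd
  show orderOf x = 12
  generalize orderOf x = o at hd n4 n6 h12'
  interval_cases o <;> omega

section sl2

variable [Fintype F]

local notation "S2" => Matrix.SpecialLinearGroup (Fin 2) F

/-- the homomorphism of a root -/
noncomputable def rHom (r : Fin chevG2.nroots) : S2 →* GL chevG2.Idx F :=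
  (cG2.G.sl2Fam r).hom (cG2.G.sl2Fam_mult r)

theorem rHom_mem (r : Fin chevG2.nroots) (g : S2) : rHom r g ∈ chevG2.group F := by
  have h : rHom r g ∈ (rHom (F := F) r).range := ⟨g, rfl⟩
  rw [rHom, CfsgLib.Lie.SL2Rel.Fam.hom_range] at h
  refine (Subgroup.closure_le _).2 ?_ h
  rintro _ (⟨t, rfl⟩ | ⟨t, rfl⟩) <;> exact cG2.G.xu_mem _ _

theorem rHom_injective (h4 : 4 ≤ Fintype.card F) (r : Fin chevG2.nroots) :
    Function.Injective (rHom (F := F) r) := by
  classical
  rw [← MonoidHom.ker_eq_bot_iff]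
  set π : S2 →* Matrix.ProjectiveSpecialLinearGroup (Fin 2) F := QuotientGroup.mk' _ with hπ
  have hπi : Function.Injective π := by
    rw [← MonoidHom.ker_eq_bot_iff, hπ, QuotientGroup.ker_mk', Subgroup.eq_bot_iff_forall]
    intro g hg
    obtain ⟨c, hc2, hc⟩ := Matrix.SpecialLinearGroup.mem_center_iff.1 hg
    rw [Fintype.card_fin, pow_two] at hc2
    have h1 : c = 1 := by
      rcases mul_self_eq_one_iff.1 hc2 with e | e
      · exact e
      · rw [e, CharTwo.neg_eq]
    refine Subtype.ext ?_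
    rw [← hc, h1]
    simp
  haveI := (CfsgLib.Perm.Dickson.psl_simple_noncomm (F := F) (by rw [Nat.card_eq_fintype_card]; exact h4)).1
  have hn : ((rHom (F := F) r).ker.map π).Normal :=
    Subgroup.Normal.map inferInstance π (QuotientGroup.mk'_surjective _)
  rcases hn.eq_bot_or_eq_top with h | h
  · exact (Subgroup.map_eq_bot_iff_of_injective _ hπi).1 h
  · exfalso
    have hall : ∀ g : S2, rHom r g = 1 := fun g => by
      obtain ⟨g', hg', e⟩ := (h ▸ Subgroup.mem_top (π g) : π g ∈ (rHom (F := F) r).ker.map π)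
      rw [← hπi e]
      exact hg'
    have e := hall (CfsgLib.Lie.SL2Rel.Fam.upper 1)
    rw [rHom, CfsgLib.Lie.SL2Rel.Fam.hom_upper] at e
    exact one_ne_zero (cG2.G.xu_injective r ((show cG2.G.xu r (1 : F) = 1 from e).trans (cG2.G.xu_zero r).symm))

theorem pair_lists : ∀ a ∈ [ri 11, ri 0], ∀ b ∈ [ri 7, ri 4],
    b ≠ a ∧ b.val ≠ chevG2.neg a.val ∧ chevG2.commTerms a.val b.val = [] := by decide +kernel

theorem negr_eleven : cG2.G.negr (ri 11) = ri 0 ∧ cG2.G.negr (ri 7) = ri 4 := by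
  constructor <;> refine Fin.ext ((cG2.G.negr_val _).trans ?_) <;> decide +kernel

theorem rHom_commute (g h : S2) : Commute (rHom (ri 11) g) (rHom (ri 7) h) := by
  have h1 : rHom (ri 11) g ∈ (rHom (F := F) (ri 11)).range := ⟨g, rfl⟩
  have h2 : rHom (ri 7) h ∈ (rHom (F := F) (ri 7)).range := ⟨h, rfl⟩
  rw [rHom, CfsgLib.Lie.SL2Rel.Fam.hom_range] at h1 h2
  have hle : Subgroup.closure (Set.range (cG2.G.sl2Fam (K := F) (ri 11)).x ∪ Set.range (cG2.G.sl2Fam (K := F) (ri 11)).y) ≤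
      Subgroup.centralizer (Subgroup.closure
        (Set.range (cG2.G.sl2Fam (K := F) (ri 7)).x ∪ Set.range (cG2.G.sl2Fam (K := F) (ri 7)).y) : Subgroup _) := by
    rw [Subgroup.centralizer_closure, Subgroup.closure_le]
    intro u hu
    rw [SetLike.mem_coe, Subgroup.mem_centralizer_iff]
    intro v hv
    have mk : ∀ {a b : Fin chevG2.nroots}, a ∈ [ri 11, ri 0] → b ∈ [ri 7, ri 4] → ∀ s t : F,
        cG2.G.xu b t * cG2.G.xu a s = cG2.G.xu a s * cG2.G.xu b t := fun {a b} ha hb s t => by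
      obtain ⟨n1, n2, n3⟩ := pair_lists a ha b hb
      exact (cG2.xu_commute n1 (fun e => n2 ((congrArg Fin.val e).trans (cG2.G.negr_val a))) n3 s t).eq.symm
    obtain ⟨n11, n7⟩ := negr_eleven
    rcases hu with ⟨s, rfl⟩ | ⟨s, rfl⟩ <;> rcases hv with ⟨t, rfl⟩ | ⟨t, rfl⟩
    · exact mk (by simp) (by simp) s t
    · show cG2.G.xu (cG2.G.negr (ri 7)) t * cG2.G.xu (ri 11) s = _
      rw [n7]
      show _ = cG2.G.xu (ri 11) s * cG2.G.xu (cG2.G.negr (ri 7)) t
      rw [n7]; exact mk (by simp) (by simp) s t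
    · show cG2.G.xu (ri 7) t * cG2.G.xu (cG2.G.negr (ri 11)) s = cG2.G.xu (cG2.G.negr (ri 11)) s * cG2.G.xu (ri 7) t
      rw [n11]; exact mk (by simp) (by simp) s t
    · show cG2.G.xu (cG2.G.negr (ri 7)) t * cG2.G.xu (cG2.G.negr (ri 11)) s =
        cG2.G.xu (cG2.G.negr (ri 11)) s * cG2.G.xu (cG2.G.negr (ri 7)) t
      rw [n11, n7]; exact mk (by simp) (by simp) s t
  exact (Subgroup.mem_centralizer_iff.1 (hle h1) _ h2).symm

/-- products in the two commuting `SL₂`'s -/
theorem order_pair (h4 : 4 ≤ Fintype.card F) {A B : S2} (hco : (orderOf A).Coprime (orderOf B)) :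
    ∃ g : ↥(chevG2.group F), orderOf g = orderOf A * orderOf B := by
  refine ⟨⟨rHom (ri 11) A * rHom (ri 7) B, mul_mem (rHom_mem _ _) (rHom_mem _ _)⟩, ?_⟩
  rw [← Subgroup.orderOf_coe]
  show orderOf (rHom (ri 11) A * rHom (ri 7) B) = _
  rw [(rHom_commute A B).orderOf_mul_eq_mul_orderOf_of_coprime (by
      rwa [orderOf_injective _ (rHom_injective h4 _), orderOf_injective _ (rHom_injective h4 _)]),
    orderOf_injective _ (rHom_injective h4 _), orderOf_injective _ (rHom_injective h4 _)]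

theorem two_dvd_card : 2 ∣ Fintype.card F := by
  obtain ⟨e, -, he⟩ := FiniteField.card F 2
  rw [he]
  exact dvd_pow_self 2 e.pos.ne'

theorem order_upper : orderOf (CfsgLib.Lie.SL2Rel.Fam.upper (1 : F) : S2) = 2 := by
  haveI := Fact.mk Nat.prime_two
  refine orderOf_eq_prime ?_ fun h => ?_
  · refine Subtype.ext ?_
    rw [pow_two, Matrix.SpecialLinearGroup.coe_mul]
    ext i j
    fin_cases i <;> fin_cases j <;>
      simp [CfsgLib.Lie.SL2Rel.Fam.upper, Matrix.mul_apply, Fin.sum_univ_two, CharTwo.add_self_eq_zero]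
  · simpa [CfsgLib.Lie.SL2Rel.Fam.upper] using congrArg (fun M : S2 => M.1 0 1) h

theorem order_two_mul (h4 : 4 ≤ Fintype.card F) :
    (∃ g : ↥(chevG2.group F), orderOf g = 2 * (Fintype.card F + 1)) ∧
      (∃ g : ↥(chevG2.group F), orderOf g = 2 * (Fintype.card F - 1)) ∧
      ∃ g : ↥(chevG2.group F), orderOf g = Fintype.card F ^ 2 - 1 := by
  obtain ⟨P, hP⟩ := CfsgLib.Classical.PSL2Spectrum.exists_order_add_one (F := F)
  obtain ⟨M, hM⟩ := CfsgLib.Classical.PSL2Spectrum.exists_order_sub_one (F := F)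
  obtain ⟨d, hd⟩ := two_dvd_card (F := F)
  have c1 : Nat.Coprime 2 (Fintype.card F + 1) := by rw [Nat.coprime_two_left]; exact ⟨d, by omega⟩
  have c2 : Nat.Coprime 2 (Fintype.card F - 1) := by rw [Nat.coprime_two_left]; exact ⟨d - 1, by omega⟩
  have c3 : Nat.Coprime (Fintype.card F + 1) (Fintype.card F - 1) := by
    have h : Nat.gcd (Fintype.card F + 1) (Fintype.card F - 1) ∣ 2 := by
      have := Nat.dvd_sub (Nat.gcd_dvd_left (Fintype.card F + 1) (Fintype.card F - 1))
        (Nat.gcd_dvd_right (Fintype.card F + 1) (Fintype.card F - 1))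
      rwa [show Fintype.card F + 1 - (Fintype.card F - 1) = 2 by omega] at this
    rcases (Nat.dvd_prime Nat.prime_two).1 h with h' | h'
    · exact h'
    · have h2 := Nat.gcd_dvd_left (Fintype.card F + 1) (Fintype.card F - 1)
      rw [h'] at h2
      omega
  refine ⟨?_, ?_, ?_⟩
  · obtain ⟨g, hg⟩ := order_pair h4 (A := CfsgLib.Lie.SL2Rel.Fam.upper (1 : F)) (B := P)
      (by rw [order_upper, hP]; exact c1)
    exact ⟨g, by rw [hg, order_upper, hP]⟩
  · obtain ⟨g, hg⟩ := order_pair h4 (A := CfsgLib.Lie.SL2Rel.Fam.upper (1 : F)) (B := M)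
      (by rw [order_upper, hM]; exact c2)
    exact ⟨g, by rw [hg, order_upper, hM]⟩
  · obtain ⟨g, hg⟩ := order_pair h4 (A := P) (B := M) (by rw [hP, hM]; exact c3)
    exact ⟨g, by rw [hg, hP, hM, ← Nat.sq_sub_sq, one_pow]⟩

end sl2

theorem eval_cyclotomic_six' (x : ℤ) : (Polynomial.cyclotomic 6 ℤ).eval x = x ^ 2 - x + 1 := by
  rw [Polynomial.cyclotomic_six]; simp

/-- the torus of order `q² - q + 1` -/
theorem cox_six [Fintype F] (hq : 4 ≤ Fintype.card F) :
    ∃ H : Subgroup ↥(chevG2.group F), IsCyclic ↥H ∧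
      Nat.card ↥H = Fintype.card F ^ 2 - Fintype.card F + 1 := by
  set q := Fintype.card F
  have hqq : q ≤ q ^ 2 := Nat.le_self_pow two_ne_zero q
  have hev : (Polynomial.cyclotomic 6 ℤ).eval (q : ℤ) = ((q ^ 2 - q + 1 : ℕ) : ℤ) := by
    rw [eval_cyclotomic_six']; push_cast [Nat.cast_sub hqq]; ring
  have h9 : ¬ 3 ^ 2 ∣ q ^ 2 - q + 1 := fun h => by
    have h0 : ((q ^ 2 - q + 1 : ℕ) : ZMod 9) = 0 := (ZMod.natCast_eq_zero_iff _ _).2 h
    push_cast [Nat.cast_sub hqq] at h0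
    generalize (q : ZMod 9) = z at h0
    revert h0; revert z; decide +kernel
  have h2' : ¬ 2 ∣ q ^ 2 - q + 1 := fun h => by
    have h0 : ((q ^ 2 - q + 1 : ℕ) : ZMod 2) = 0 := (ZMod.natCast_eq_zero_iff _ _).2 h
    push_cast [Nat.cast_sub hqq] at h0
    generalize (q : ZMod 2) = z at h0
    revert h0; revert z; decide +kernel
  obtain ⟨r, hr, hrd, hr3⟩ := exists_prime_ne
    (show 3 < q ^ 2 - q + 1 by
      have : 4 * q ≤ q ^ 2 := by rw [pow_two]; exact Nat.mul_le_mul hq le_rfl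
      omega) Nat.prime_three h9
  have hr6 : ¬ r ∣ 6 := fun hd => by
    rcases (Nat.Prime.dvd_mul hr).1 (show r ∣ 2 * 3 from hd) with h' | h'
    · exact h2' ((Nat.prime_dvd_prime_iff_eq hr Nat.prime_two).1 h' ▸ hrd)
    · exact hr3 h'
  obtain ⟨hprim, hdvd⟩ := primitive_of_dvd_eval hr hr6 (q := q)
    (by rw [hev]; exact Int.natCast_dvd_natCast.2 hrd)
  have hr7 : 7 ≤ r := by
    have h2 := hr.two_le
    by_contra hlt
    interval_cases r <;> first | (norm_num at hr; done) | omega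
  obtain ⟨H, hH, hcard, -⟩ := exists_cox_subgroup (F := F) cG2 kerG2_ok rfl degG2 (h := 6) (by norm_num)
    (by decide +kernel) ⟨⟨1, by decide +kernel⟩, by decide +kernel⟩ hr
    (fun i hd => by
      have hb : ∀ i : Fin chevG2.rank, 0 < vecOfList [2, 6] i ∧ vecOfList [2, 6] i < 7 := by
        decide +kernel
      exact absurd (Nat.le_of_dvd (hb i).1 hd) (by have := (hb i).2; omega))
    uG2 uG2_tri (vecOfList [1, 3]) (B := 12) (by unfold qlen; decide +kernel)
    (bound_mono (r₀ := 7) (by decide +kernel) hr7) hprim (fun ℓ hℓ hℓ6 => by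
      rw [hev, Int.natAbs_natCast]
      rcases (Nat.Prime.dvd_mul hℓ).1 (show ℓ ∣ 2 * 3 from hℓ6) with h' | h'
      · rw [(Nat.prime_dvd_prime_iff_eq hℓ Nat.prime_two).1 h']
        exact fun h => h2' ((dvd_pow_self 2 two_ne_zero).trans h)
      · rw [(Nat.prime_dvd_prime_iff_eq hℓ Nat.prime_three).1 h']
        exact h9)
  rw [hev, Int.natAbs_natCast] at hcard
  exact ⟨H, hH, hcard⟩

theorem exists_of_cyclic {G : Type*} [Group G] {H : Subgroup G} [Finite H] (hH : IsCyclic H) :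
    ∃ g : G, orderOf g = Nat.card H := by
  haveI := hH
  obtain ⟨y, hy⟩ := IsCyclic.exists_ofOrder_eq_natCard (α := H)
  exact ⟨y, by rw [Subgroup.orderOf_coe, hy]⟩

/-- all seven orders occur -/
theorem exists_order [Fintype F] (hq : 4 ≤ Fintype.card F) (n : ℕ)
    (hn : n ∈ ({8, 12, 2 * (Fintype.card F + 1), 2 * (Fintype.card F - 1), Fintype.card F ^ 2 - 1,
      Fintype.card F ^ 2 + Fintype.card F + 1, Fintype.card F ^ 2 - Fintype.card F + 1} : Set ℕ)) :
    ∃ g : ↥(chevG2.group F), orderOf g = n := by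
  simp only [Set.mem_insert_iff, Set.mem_singleton_iff] at hn
  obtain ⟨a, b, c⟩ := order_two_mul hq
  rcases hn with rfl | rfl | rfl | rfl | rfl | rfl | rfl
  · exact order_eight
  · exact order_twelve
  · exact a
  · exact b
  · exact c
  · obtain ⟨H, hH, hcard, -⟩ := coxG2 (F := F) (by omega)
    obtain ⟨g, hg⟩ := exists_of_cyclic hH
    exact ⟨g, hg.trans hcard⟩
  · obtain ⟨H, hH, hcard⟩ := cox_six hq
    obtain ⟨g, hg⟩ := exists_of_cyclic hH
    exact ⟨g, hg.trans hcard⟩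

end CfsgLib.Lie.G2Exist
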