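import Cfsg.Agent.Lib.Lie.G2.OctSpec
import Cfsg.Agent.Lib.Lie.Chev.Coef
import Cfsg.Agent.Lib.Lie.Chev.CoxTorus.Data

/-!
# The Chevalley group of type `G₂` through derivations of the split octonions over the integers

The integral form of the adjoint module is realised by integral derivations of the octonions; every
element of the group over a field is induced by an automorphism of the algebra.
-/

set_option autoImplicit false
set_option maxRecDepth 100000
set_option maxHeartbeats 1000000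
set_option linter.unusedSectionVars false

namespace CfsgLib.Lie.G2Int

open Matrix Cfsg.Lie CfsgLib.Lie.Chev

/-- the fourteen derivations -/
def dSupp : List (List ((Fin 8 × Fin 8) × ℤ)) :=
  [[((1, 1), 2), ((2, 2), -1), ((3, 3), -1), ((4, 4), -2), ((5, 5), 1), ((6, 6), 1)],
   [((1, 1), -1), ((2, 2), 1), ((4, 4), 1), ((5, 5), -1)],
   [((3, 2), 1), ((5, 6), -1)],
   [((3, 1), -1), ((4, 6), 1)],
   [((0, 6), 1), ((3, 0), -1), ((3, 7), 1), ((4, 2), 1), ((5, 1), -1), ((7, 6), -1)],
   [((0, 2), -1), ((1, 6), 1), ((3, 4), -1), ((5, 0), 1), ((5, 7), -1), ((7, 2), 1)],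
   [((0, 1), 1), ((2, 6), 1), ((3, 5), -1), ((4, 0), -1), ((4, 7), 1), ((7, 1), -1)],
   [((1, 2), -1), ((5, 4), 1)],
   [((2, 1), -1), ((4, 5), 1)],
   [((0, 4), -1), ((1, 0), 1), ((1, 7), -1), ((5, 3), -1), ((6, 2), 1), ((7, 4), 1)],
   [((0, 5), 1), ((2, 0), -1), ((2, 7), 1), ((4, 3), -1), ((6, 1), 1), ((7, 5), -1)],
   [((0, 3), -1), ((1, 5), -1), ((2, 4), 1), ((6, 0), 1), ((6, 7), -1), ((7, 3), 1)],
   [((1, 3), -1), ((6, 4), 1)],
   [((2, 3), 1), ((6, 5), -1)]]

/-- the second coefficients of the root automorphisms -/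
def a2Supp : List (List ((Fin 8 × Fin 8) × ℤ)) :=
  [[],
   [],
   [((3, 6), -1)],
   [((5, 2), -1)],
   [((4, 1), -1)],
   [],
   [],
   [((1, 4), -1)],
   [((2, 5), -1)],
   [((6, 3), -1)],
   [],
   []]

/-- entries recovering the coordinates -/
def lSupp : List (List ((Fin 8 × Fin 8) × ℤ)) :=
  [[((3, 3), -1)],
   [((1, 1), -1), ((3, 3), -2)],
   [((3, 2), 1)],
   [((3, 1), -1)],
   [((0, 6), 1)],
   [((0, 2), -1)],
   [((0, 1), 1)],
   [((1, 2), -1)],
   [((2, 1), -1)],
   [((0, 4), -1)],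
   [((0, 5), 1)],
   [((0, 3), -1)],
   [((1, 3), -1)],
   [((2, 3), 1)]]

/-! ### Integral combinations given by lists -/

section lists

variable {ι : Type*} [DecidableEq ι]

/-- the coefficient of a member -/
def cz : List (ι × ℤ) → ι → ℤ
  | [], _ => 0
  | e :: l, x => (if e.1 = x then e.2 else 0) + cz l x

/-- the two lists give the same combination -/
def sameB (L R : List (ι × ℤ)) : Bool := (L ++ R).all fun e => decide (cz L e.1 = cz R e.1)

theorem cz_eq_zero {l : List (ι × ℤ)} {x : ι} (h : ∀ e ∈ l, e.1 ≠ x) : cz l x = 0 := by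
  induction l with
  | nil => rfl
  | cons e l ih =>
    rw [cz, if_neg (h e List.mem_cons_self), ih fun e' he' => h e' (List.mem_cons_of_mem _ he'), add_zero]

theorem cz_eq_of_same {L R : List (ι × ℤ)} (h : sameB L R = true) : cz L = cz R := by
  funext x
  by_cases hx : ∃ e ∈ L ++ R, e.1 = x
  · obtain ⟨e, he, rfl⟩ := hx
    simpa using List.all_eq_true.1 h e he
  · push Not at hx
    rw [cz_eq_zero fun e he => hx e (List.mem_append_left _ he),
      cz_eq_zero fun e he => hx e (List.mem_append_right _ he)]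

theorem cz_nil : cz ([] : List (ι × ℤ)) = 0 := rfl

theorem cz_cons (e : ι × ℤ) (l : List (ι × ℤ)) : cz (e :: l) = Pi.single e.1 e.2 + cz l := by
  funext x
  simp [cz, Pi.single_apply, eq_comm]

theorem cz_append (L R : List (ι × ℤ)) : cz (L ++ R) = cz L + cz R := by
  induction L with
  | nil => simp [cz_nil]
  | cons e L ih => rw [List.cons_append, cz_cons, cz_cons, ih, add_assoc]

theorem cz_flatMap {α : Type*} (f : α → List (ι × ℤ)) :
    ∀ l : List α, cz (l.flatMap f) = (l.map fun z => cz (f z)).sum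
  | [] => by simp [cz_nil]
  | z :: l => by rw [List.flatMap_cons, cz_append, cz_flatMap f l, List.map_cons, List.sum_cons]

/-- a multiple of a combination -/
def scl (c : ℤ) (l : List (ι × ℤ)) : List (ι × ℤ) := l.map fun e => (e.1, c * e.2)

theorem cz_scl (c : ℤ) (l : List (ι × ℤ)) : cz (scl c l) = c • cz l := by
  induction l with
  | nil => simp [scl, cz_nil]
  | cons e l ih =>
    rw [scl, List.map_cons, ← scl, cz_cons, cz_cons, ih, smul_add, ← Pi.single_smul', smul_eq_mul]

end lists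

/-- the matrix of a list of entries -/
def ofM (l : List ((Fin 8 × Fin 8) × ℤ)) : Matrix (Fin 8) (Fin 8) ℤ :=
  Matrix.of fun i j => cz l (i, j)

theorem ofM_eq_of_same {L R : List ((Fin 8 × Fin 8) × ℤ)} (h : sameB L R = true) : ofM L = ofM R := by
  rw [ofM, cz_eq_of_same h]; rfl

theorem ofM_nil : ofM [] = 0 := by ext i j; simp [ofM, cz_nil]

theorem ofM_cons (e : (Fin 8 × Fin 8) × ℤ) (l : List ((Fin 8 × Fin 8) × ℤ)) :
    ofM (e :: l) = Matrix.single e.1.1 e.1.2 e.2 + ofM l := by
  ext i j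
  simp [ofM, cz_cons, Matrix.single, Pi.single_apply, Prod.ext_iff, eq_comm]

theorem ofM_append (L R : List ((Fin 8 × Fin 8) × ℤ)) : ofM (L ++ R) = ofM L + ofM R := by
  ext i j; simp [ofM, cz_append]

theorem ofM_scl (c : ℤ) (l : List ((Fin 8 × Fin 8) × ℤ)) : ofM (scl c l) = c • ofM l := by
  ext i j; simp [ofM, cz_scl]

theorem ofM_flatMap {α : Type*} (f : α → List ((Fin 8 × Fin 8) × ℤ)) :
    ∀ l : List α, ofM (l.flatMap f) = (l.map fun z => ofM (f z)).sum
  | [] => by simp [ofM_nil]
  | z :: l => by rw [List.flatMap_cons, ofM_append, ofM_flatMap f l, List.map_cons, List.sum_cons]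

/-- entries of a product -/
def mulS (L R : List ((Fin 8 × Fin 8) × ℤ)) : List ((Fin 8 × Fin 8) × ℤ) :=
  L.flatMap fun a => R.flatMap fun b => if a.1.2 = b.1.1 then [((a.1.1, b.1.2), a.2 * b.2)] else []

theorem ofM_single_mul (a : (Fin 8 × Fin 8) × ℤ) (R : List ((Fin 8 × Fin 8) × ℤ)) :
    ofM (R.flatMap fun b => if a.1.2 = b.1.1 then [((a.1.1, b.1.2), a.2 * b.2)] else []) =
      Matrix.single a.1.1 a.1.2 a.2 * ofM R := by
  induction R with
  | nil => simp [ofM_nil]
  | cons b R ihR =>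
    rw [List.flatMap_cons, ofM_append, ihR, ofM_cons b R, mul_add]
    congr 1
    by_cases h : a.1.2 = b.1.1
    · rw [if_pos h, ofM_cons, ofM_nil, add_zero, h, Matrix.single_mul_single_same]
    · rw [if_neg h, ofM_nil, Matrix.single_mul_single_of_ne (h := h)]

theorem ofM_mulS (L R : List ((Fin 8 × Fin 8) × ℤ)) : ofM (mulS L R) = ofM L * ofM R := by
  induction L with
  | nil => simp [mulS, ofM_nil]
  | cons a L ih =>
    rw [mulS, List.flatMap_cons, ofM_append, ← mulS, ih, ofM_cons, add_mul, ofM_single_mul]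

/-- the entries of a basis derivation -/
def dS (b : chevG2.Idx) : List ((Fin 8 × Fin 8) × ℤ) := dSupp.getD (pos chevG2 b) []

/-- the entries of a left inverse -/
def lS (b : chevG2.Idx) : List ((Fin 8 × Fin 8) × ℤ) := lSupp.getD (pos chevG2 b) []

/-- the entries of a coefficient of a root automorphism -/
def aS (r : Fin chevG2.nroots) : ℕ → List ((Fin 8 × Fin 8) × ℤ)
  | 0 => (List.finRange 8).map fun i => ((i, i), 1)
  | 1 => dS (Sum.inr r)
  | 2 => a2Supp.getD r.val []
  | _ => []

/-- the derivation attached to a basis vector -/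
def dM (b : chevG2.Idx) : Matrix (Fin 8) (Fin 8) ℤ := ofM (dS b)

/-- the coefficient of `t ^ k` in the root automorphism -/
def aM (r : Fin chevG2.nroots) (k : ℕ) : Matrix (Fin 8) (Fin 8) ℤ := ofM (aS r k)

/-- all basis vectors of the adjoint module -/
def idxList : List chevG2.Idx :=
  (List.finRange chevG2.rank).map Sum.inl ++ (List.finRange chevG2.nroots).map Sum.inr

theorem idx_sum {M : Type*} [AddCommMonoid M] (f : chevG2.Idx → M) : ∑ c, f c = (idxList.map f).sum := by
  rw [idxList, List.map_append, List.sum_append, Fintype.sum_sum_type, List.map_map, List.map_map]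
  simp [Fin.sum_univ_def, Function.comp_def]

/-- the entries of the derivation of a column of the adjoint root element -/
def gS (r : Fin chevG2.nroots) (k : ℕ) (b : chevG2.Idx) : List ((Fin 8 × Fin 8) × ℤ) :=
  idxList.flatMap fun c => if dmat chevG2 r k c b = 0 then [] else scl (dmat chevG2 r k c b) (dS c)

theorem ofM_gS (r : Fin chevG2.nroots) (k : ℕ) (b : chevG2.Idx) :
    ofM (gS r k b) = ∑ c, dmat chevG2 r k c b • dM c := by
  rw [gS, ofM_flatMap, idx_sum]
  congr 1
  refine List.map_congr_left fun c _ => ?_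
  by_cases h : dmat chevG2 r k c b = 0
  · rw [if_pos h, ofM_nil, h, zero_smul]
  · rw [if_neg h, ofM_scl]; rfl

/-- the product as a bilinear map -/
def zmZ : (Fin 8 → ℤ) →ₗ[ℤ] (Fin 8 → ℤ) →ₗ[ℤ] (Fin 8 → ℤ) :=
  LinearMap.mk₂ ℤ zornMul
    (fun x x' y => by funext i; fin_cases i <;> simp [zornMul, dot3, cross3] <;> ring)
    (fun c x y => by funext i; fin_cases i <;> simp [zornMul, dot3, cross3] <;> ring)
    (fun x y y' => by funext i; fin_cases i <;> simp [zornMul, dot3, cross3] <;> ring)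
    (fun c x y => by funext i; fin_cases i <;> simp [zornMul, dot3, cross3] <;> ring)

theorem zmZ_apply (x y : Fin 8 → ℤ) : zmZ x y = zornMul x y := rfl

/-- the basis products of the octonions -/
def prodS (i j : Fin 8) : List (Fin 8 × ℤ) :=
  (List.finRange 8).flatMap fun z =>
    if zornMul (Pi.single i (1 : ℤ)) (Pi.single j 1) z = 0 then []
    else [(z, zornMul (Pi.single i (1 : ℤ)) (Pi.single j 1) z)]

theorem prodS_spec : ∀ i j : Fin 8,
    cz (prodS i j) = zornMul (Pi.single i (1 : ℤ)) (Pi.single j 1) := by decide +kernel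

/-- the image of a basis vector -/
def colS (A : List ((Fin 8 × Fin 8) × ℤ)) (j : Fin 8) : List (Fin 8 × ℤ) :=
  A.flatMap fun a => if a.1.2 = j then [(a.1.1, a.2)] else []

theorem cz_colS (A : List ((Fin 8 × Fin 8) × ℤ)) (j : Fin 8) :
    cz (colS A j) = ofM A *ᵥ Pi.single j (1 : ℤ) := by
  induction A with
  | nil => funext x; simp [colS, cz_nil, ofM_nil, Matrix.mulVec_single]
  | cons a A ih =>
    rw [colS, List.flatMap_cons, cz_append, ← colS, ih, ofM_cons, Matrix.add_mulVec]
    congr 1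
    funext x
    by_cases h : a.1.2 = j
    · simp [h, cz_cons, cz_nil, Matrix.single, Pi.single_apply, Matrix.mulVec_single, eq_comm]
    · simp [h, cz_nil, Matrix.single, Matrix.mulVec_single]

/-- the product of two combinations -/
def zornS (U W : List (Fin 8 × ℤ)) : List (Fin 8 × ℤ) :=
  U.flatMap fun i => W.flatMap fun j => scl (i.2 * j.2) (prodS i.1 j.1)

theorem single_eq (i : Fin 8 × ℤ) : (Pi.single i.1 i.2 : Fin 8 → ℤ) = i.2 • Pi.single i.1 1 := by
  rw [← Pi.single_smul', smul_eq_mul, mul_one]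

theorem cz_prod_single (i : Fin 8 × ℤ) (W : List (Fin 8 × ℤ)) :
    cz (W.flatMap fun j => scl (i.2 * j.2) (prodS i.1 j.1)) = zornMul (Pi.single i.1 i.2) (cz W) := by
  rw [← zmZ_apply]
  induction W with
  | nil => simp [cz_nil]
  | cons j W ihW =>
    rw [List.flatMap_cons, cz_append, ihW, cz_cons, map_add, cz_scl, prodS_spec, single_eq i, single_eq j,
      map_smul, map_smul, LinearMap.smul_apply, LinearMap.smul_apply, smul_smul, mul_comm j.2, zmZ_apply,
      zmZ_apply]

theorem cz_zornS (U W : List (Fin 8 × ℤ)) : cz (zornS U W) = zornMul (cz U) (cz W) := by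
  rw [← zmZ_apply]
  induction U with
  | nil => simp [zornS, cz_nil]
  | cons i U ih =>
    rw [zornS, List.flatMap_cons, cz_append, ← zornS, ih, cz_cons, map_add, LinearMap.add_apply,
      cz_prod_single]
    rfl

/-- the image of a combination -/
def colsS (A : List ((Fin 8 × Fin 8) × ℤ)) (U : List (Fin 8 × ℤ)) : List (Fin 8 × ℤ) :=
  U.flatMap fun z => scl z.2 (colS A z.1)

theorem cz_colsS (A : List ((Fin 8 × Fin 8) × ℤ)) (U : List (Fin 8 × ℤ)) :
    cz (colsS A U) = ofM A *ᵥ cz U := by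
  induction U with
  | nil => simp [colsS, cz_nil]
  | cons z U ih =>
    rw [colsS, List.flatMap_cons, cz_append, ← colsS, ih, cz_scl, cz_colS, cz_cons, Matrix.mulVec_add,
      single_eq z, Matrix.mulVec_smul]

/-- the terms of degree `d` of a product of two polynomials -/
def conv {α : Type} (n n' d : ℕ) (f : ℕ → ℕ → List α) : List α :=
  (List.finRange n).flatMap fun (k : Fin n) => (List.finRange n').flatMap fun (l : Fin n') =>
    if k.val + l.val = d then f k.val l.val else []

theorem ofM_conv (n n' d : ℕ) (f : ℕ → ℕ → List ((Fin 8 × Fin 8) × ℤ)) :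
    ofM (conv n n' d f) = ∑ k : Fin n, ∑ l : Fin n', if k.val + l.val = d then ofM (f k l) else 0 := by
  rw [conv, ofM_flatMap, Fin.sum_univ_def]
  congr 1
  refine List.map_congr_left fun k _ => ?_
  rw [ofM_flatMap, Fin.sum_univ_def]
  congr 1
  refine List.map_congr_left fun l _ => ?_
  split_ifs <;> simp [ofM_nil]

theorem cz_conv (n n' d : ℕ) (f : ℕ → ℕ → List (Fin 8 × ℤ)) :
    cz (conv n n' d f) = ∑ k : Fin n, ∑ l : Fin n', if k.val + l.val = d then cz (f k l) else 0 := by
  rw [conv, cz_flatMap, Fin.sum_univ_def]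
  congr 1
  refine List.map_congr_left fun k _ => ?_
  rw [cz_flatMap, Fin.sum_univ_def]
  congr 1
  refine List.map_congr_left fun l _ => ?_
  split_ifs <;> simp [cz_nil]

theorem bool_sq : ∀ r : Fin chevG2.nroots, ∀ d : Fin 5,
    sameB (conv 3 3 d fun k l => scl ((-1) ^ l) (mulS (aS r k) (aS r l)))
      (if d.val = 0 then (List.finRange 8).map fun i => ((i, i), 1) else []) = true := by decide +kernel

theorem bool_auto : ∀ r : Fin chevG2.nroots, ∀ i j : Fin 8, ∀ d : Fin 5,
    sameB (conv 3 1 d fun k _ => colsS (aS r k) (prodS i j))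
      (conv 3 3 d fun k l => zornS (colS (aS r k) i) (colS (aS r l) j)) = true := by decide +kernel

theorem bool_rel : ∀ r : Fin chevG2.nroots, ∀ b : chevG2.Idx, ∀ d : Fin 6,
    sameB (conv 3 1 d fun k _ => mulS (aS r k) (dS b))
      (conv 4 3 d fun k l => mulS (gS r k b) (aS r l)) = true := by decide +kernel

theorem chk_sq (r : Fin chevG2.nroots) (d : Fin 5) :
    (∑ k : Fin 3, ∑ l : Fin 3,
        if k.val + l.val = d.val then aM r k * ((-1 : ℤ) ^ l.val • aM r l) else 0) =
      if d.val = 0 then 1 else 0 := by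
  have h := ofM_eq_of_same (bool_sq r d)
  rw [ofM_conv] at h
  simp only [ofM_scl, ofM_mulS] at h
  simp only [aM, Matrix.mul_smul]
  refine h.trans ?_
  split_ifs
  · decide +kernel
  · exact ofM_nil

theorem chk_auto (r : Fin chevG2.nroots) (i j : Fin 8) (d : Fin 5) :
    (∑ k : Fin 3, if k.val = d.val then
        aM r k *ᵥ zornMul (Pi.single i (1 : ℤ)) (Pi.single j 1) else 0) =
      ∑ k : Fin 3, ∑ l : Fin 3, if k.val + l.val = d.val then
        zornMul (aM r k *ᵥ Pi.single i (1 : ℤ)) (aM r l *ᵥ Pi.single j 1) else 0 := by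
  have h := cz_eq_of_same (bool_auto r i j d)
  rw [cz_conv, cz_conv] at h
  simp only [cz_colsS, cz_zornS, cz_colS, prodS_spec, Fin.sum_univ_one, Fin.val_zero, add_zero] at h
  exact h

theorem chk_rel (r : Fin chevG2.nroots) (b : chevG2.Idx) (d : Fin 6) :
    (∑ k : Fin 3, if k.val = d.val then aM r k * dM b else 0) =
      ∑ k : Fin 4, ∑ l : Fin 3, if k.val + l.val = d.val then
        (∑ c, dmat chevG2 r k c b • dM c) * aM r l else 0 := by
  have h := ofM_eq_of_same (bool_rel r b d)
  rw [ofM_conv, ofM_conv] at h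
  simp only [ofM_mulS, ofM_gS, Fin.sum_univ_one, Fin.val_zero, add_zero] at h
  exact h

theorem chk_left : ∀ b c : chevG2.Idx,
    ((lS c).map fun e => e.2 * dM b e.1.1 e.1.2).sum = if b = c then 1 else 0 := by decide +kernel

theorem map_zornMulZ {R S : Type*} [CommRing R] [CommRing S] (f : R →+* S) (x y : Fin 8 → R) :
    zornMul (f ∘ x) (f ∘ y) = f ∘ zornMul x y := by
  funext i; fin_cases i <;> simp [zornMul, dot3, cross3]

theorem map_mulVecZ {R S : Type*} [CommRing R] [CommRing S] (f : R →+* S)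
    (A : Matrix (Fin 8) (Fin 8) R) (x : Fin 8 → R) : A.map f *ᵥ (f ∘ x) = f ∘ (A *ᵥ x) := by
  funext i
  simp [Matrix.mulVec, dotProduct]

variable {F : Type*} [Field F]

/-- the integers in the field -/
abbrev κ (F : Type*) [Field F] : ℤ →+* F := Int.castRingHom F

/-- the derivation attached to a vector -/
noncomputable def DV (v : chevG2.Idx → F) : Matrix (Fin 8) (Fin 8) F := ∑ c, v c • (dM c).map (κ F)

theorem DV_add (v w : chevG2.Idx → F) : DV (v + w) = DV v + DV w := by
  simp [DV, add_smul, Finset.sum_add_distrib]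

theorem DV_smul (a : F) (v : chevG2.Idx → F) : DV (a • v) = a • DV v := by
  simp [DV, Finset.smul_sum, smul_smul]

theorem DV_single (b : chevG2.Idx) : DV (Pi.single b (1 : F)) = (dM b).map (κ F) := by
  rw [DV, Finset.sum_eq_single b (fun c _ hc => by rw [Pi.single_eq_of_ne hc, zero_smul])
    (fun h => absurd (Finset.mem_univ b) h), Pi.single_eq_same, one_smul]

theorem DV_injective : Function.Injective (DV (F := F)) := by
  intro v w h
  funext c
  have key : ∀ u : chevG2.Idx → F,
      ((lS c).map fun e => (e.2 : F) * DV u e.1.1 e.1.2).sum = u c := by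
    intro u
    have e1 : ∀ l : List ((Fin 8 × Fin 8) × ℤ), (l.map fun e => (e.2 : F) * DV u e.1.1 e.1.2).sum =
        ∑ b, u b * κ F ((l.map fun e => e.2 * dM b e.1.1 e.1.2).sum) := by
      intro l
      induction l with
      | nil => simp
      | cons e l ih =>
        simp only [List.map_cons, List.sum_cons, map_add, mul_add, Finset.sum_add_distrib, ih]
        congr 1
        simp [DV, Finset.mul_sum, mul_left_comm, -Fintype.sum_sum_type, Matrix.sum_apply]
    rw [e1]
    have e2 : ∀ b, ((lS c).map fun e => e.2 * dM b e.1.1 e.1.2).sum = if b = c then 1 else 0 :=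
      fun b => chk_left b c
    simp only [e2]
    simp [apply_ite (κ F), -Fintype.sum_sum_type]
  rw [← key v, ← key w, h]

/-- the root automorphism as a matrix -/
noncomputable def aX (r : Fin chevG2.nroots) (t : F) : Matrix (Fin 8) (Fin 8) F :=
  ∑ k : Fin 3, t ^ k.val • (aM r k).map (κ F)

theorem sum_collect {M : Type*} [AddCommMonoid M] [Module F M] {n n' : ℕ} (t : F) (f : Fin n → Fin n' → M) :
    ∑ k : Fin n, ∑ l : Fin n', t ^ (k.val + l.val) • f k l =
      ∑ d : Fin (n + n' - 1), t ^ d.val •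
        ∑ k : Fin n, ∑ l : Fin n', if k.val + l.val = d.val then f k l else 0 := by
  simp only [Finset.smul_sum, smul_ite, smul_zero]
  conv_rhs => rw [Finset.sum_comm]
  refine Finset.sum_congr rfl fun k _ => ?_
  conv_rhs => rw [Finset.sum_comm]
  refine Finset.sum_congr rfl fun l _ => ?_
  rw [Finset.sum_eq_single (⟨k.val + l.val, by have := k.isLt; have := l.isLt; omega⟩ : Fin (n + n' - 1))
    (fun d _ hd => if_neg fun e => hd (Fin.ext e.symm)) (fun h => absurd (Finset.mem_univ _) h), if_pos rfl]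

theorem sum_single {M : Type*} [AddCommMonoid M] [Module F M] {n N : ℕ} (hN : n ≤ N) (t : F) (f : Fin n → M) :
    ∑ k : Fin n, t ^ k.val • f k = ∑ d : Fin N, t ^ d.val • ∑ k : Fin n, if k.val = d.val then f k else 0 := by
  simp only [Finset.smul_sum, smul_ite, smul_zero]
  rw [Finset.sum_comm]
  refine Finset.sum_congr rfl fun k _ => ?_
  rw [Finset.sum_eq_single (⟨k.val, lt_of_lt_of_le k.isLt hN⟩ : Fin N)
    (fun d _ hd => if_neg fun e => hd (Fin.ext e.symm)) (fun h => absurd (Finset.mem_univ _) h), if_pos rfl]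

theorem aX_mul_neg (r : Fin chevG2.nroots) (t : F) : aX r t * aX r (-t) = 1 := by
  have e : aX r (-t) = ∑ l : Fin 3, t ^ l.val • ((κ F).mapMatrix ((-1 : ℤ) ^ l.val • aM r l)) := by
    refine Finset.sum_congr rfl fun l _ => ?_
    ext i j
    simp [neg_pow t, mul_comm, mul_assoc, -zsmul_eq_mul]
  rw [e, aX, Finset.sum_mul_sum]
  simp only [smul_mul_smul_comm, ← pow_add, ← RingHom.mapMatrix_apply, ← map_mul]
  rw [sum_collect]
  rw [Finset.sum_eq_single (0 : Fin 5) (fun d _ hd => ?_) (fun h => absurd (Finset.mem_univ _) h)]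
  · have h := congrArg ((κ F).mapMatrix (m := Fin 8)) (chk_sq r 0)
    simp only [Fin.val_zero, if_true, map_one, map_sum, apply_ite ((κ F).mapMatrix), map_zero] at h
    rw [Fin.val_zero, pow_zero, one_smul]
    exact h
  · have h := congrArg ((κ F).mapMatrix (m := Fin 8)) (chk_sq r d)
    have hd' : d.val ≠ 0 := fun e => hd (Fin.ext e)
    simp only [if_neg hd', map_sum, apply_ite ((κ F).mapMatrix), map_zero] at h
    rw [h, smul_zero]

theorem aX_auto (r : Fin chevG2.nroots) (t : F) (x y : Fin 8 → F) :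
    aX r t *ᵥ zornMul x y = zornMul (aX r t *ᵥ x) (aX r t *ᵥ y) := by
  refine G2Spec.mul_of_basis (fun i j => ?_) x y
  have eb : ∀ k : Fin 8, (Pi.single k 1 : Fin 8 → F) = κ F ∘ (Pi.single k 1 : Fin 8 → ℤ) := fun k => by
    funext l; by_cases h : l = k <;> simp [Pi.single_apply, h]
  have eL : aX r t *ᵥ zornMul (Pi.single i 1) (Pi.single j 1) = ∑ k : Fin 3, t ^ k.val •
      (κ F ∘ (aM r k *ᵥ zornMul (Pi.single i (1 : ℤ)) (Pi.single j 1))) := by
    rw [eb i, eb j, map_zornMulZ, aX, Matrix.sum_mulVec]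
    exact Finset.sum_congr rfl fun k _ => by rw [Matrix.smul_mulVec, map_mulVecZ]
  have e1 : ∀ i : Fin 8, aX r t *ᵥ (Pi.single i 1 : Fin 8 → F) =
      ∑ k : Fin 3, t ^ k.val • (κ F ∘ (aM r k *ᵥ Pi.single i (1 : ℤ))) := fun i => by
    rw [eb i, aX, Matrix.sum_mulVec]
    exact Finset.sum_congr rfl fun k _ => by rw [Matrix.smul_mulVec, map_mulVecZ]
  have eR : ∀ u w : Fin 3 → Fin 8 → ℤ,
      zornMul (∑ k : Fin 3, t ^ k.val • (κ F ∘ u k)) (∑ l : Fin 3, t ^ l.val • (κ F ∘ w l)) =
        ∑ k : Fin 3, ∑ l : Fin 3, t ^ (k.val + l.val) • (κ F ∘ zornMul (u k) (w l)) := by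
    intro u w
    rw [← G2Spec.zm_apply, map_sum (G2Spec.zm (R := F)), LinearMap.sum_apply]
    refine Finset.sum_congr rfl fun k _ => ?_
    rw [map_smul, LinearMap.smul_apply, map_sum, Finset.smul_sum]
    refine Finset.sum_congr rfl fun l _ => ?_
    rw [map_smul, smul_smul, ← pow_add, G2Spec.zm_apply, map_zornMulZ]
  rw [eL, e1, e1, eR, sum_collect, sum_single (show 3 ≤ 5 by norm_num)]
  refine Finset.sum_congr rfl fun d _ => ?_
  congr 1
  have h := congrArg (fun v : Fin 8 → ℤ => κ F ∘ v) (chk_auto r i j d)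
  funext z
  have hz := congrFun h z
  simp only [Function.comp_apply, Finset.sum_apply, map_sum, ite_apply, Pi.zero_apply,
    apply_ite (κ F), map_zero] at hz ⊢
  exact hz

theorem aX_rel (r : Fin chevG2.nroots) (t : F) (v : chevG2.Idx → F) :
    aX r t * DV v = DV (xg F r t *ᵥ v) * aX r t := by
  have hb : ∀ b, aX r t * DV (Pi.single b 1) = DV (xg F r t *ᵥ Pi.single b 1) * aX r t := by
    intro b
    have hg : DV (xg F r t *ᵥ Pi.single b 1) =
        ∑ k : Fin 4, t ^ k.val • (∑ c, dmat chevG2 r k c b • dM c).map (κ F) := by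
      rw [DV]
      simp only [Matrix.mulVec_single_one, Matrix.col_apply, xg, Finset.sum_range, Matrix.sum_apply,
        Matrix.smul_apply, Finset.sum_smul]
      rw [Finset.sum_comm]
      refine Finset.sum_congr rfl fun k _ => ?_
      rw [← RingHom.mapMatrix_apply, map_sum, Finset.smul_sum]
      refine Finset.sum_congr rfl fun c _ => ?_
      ext i j
      simp [mul_assoc, -zsmul_eq_mul]
    rw [DV_single, hg, aX, Finset.sum_mul_sum]
    rw [Finset.sum_mul]
    simp only [smul_mul_smul_comm, ← pow_add, ← Matrix.map_mul]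
    rw [sum_collect]
    simp only [smul_mul_assoc, ← Matrix.map_mul]
    rw [sum_single (show 3 ≤ 6 by norm_num)]
    refine Finset.sum_congr rfl fun d _ => ?_
    congr 1
    have h := congrArg (fun M : Matrix (Fin 8) (Fin 8) (ℤ) => M.map (κ F)) (chk_rel r b d)
    simpa only [← RingHom.mapMatrix_apply, map_sum, apply_ite ((κ F).mapMatrix), map_zero] using h
  have hv : v = ∑ b, v b • (Pi.single b 1 : chevG2.Idx → F) := by
    funext c; simp [Finset.sum_apply, Pi.single_apply]
  let L₁ : (chevG2.Idx → F) →ₗ[F] Matrix (Fin 8) (Fin 8) F :=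
    { toFun := fun w => aX r t * DV w
      map_add' := fun a b => by rw [DV_add, mul_add]
      map_smul' := fun a b => by rw [DV_smul, mul_smul_comm]; rfl }
  let L₂ : (chevG2.Idx → F) →ₗ[F] Matrix (Fin 8) (Fin 8) F :=
    { toFun := fun w => DV (xg F r t *ᵥ w) * aX r t
      map_add' := fun a b => by rw [Matrix.mulVec_add, DV_add, add_mul]
      map_smul' := fun a b => by rw [Matrix.mulVec_smul, DV_smul, smul_mul_assoc]; rfl }
  show L₁ v = L₂ v
  rw [hv, map_sum, map_sum]
  exact Finset.sum_congr rfl fun b _ => by rw [map_smul, map_smul]; congr 1; exact hb b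

/-- the root automorphism -/
noncomputable def aG (r : Fin chevG2.nroots) (t : F) : G2 F :=
  ⟨⟨aX r t, aX r (-t), aX_mul_neg r t, by
    simpa using aX_mul_neg r (-t)⟩, Classical.G2Quat.mem_G2.2 (aX_auto r t)⟩

/-- `g` is induced by the automorphism `h` -/
def Induced (h : G2 F) (g : GL chevG2.Idx F) : Prop :=
  ∀ v, h.1.1 * DV v = DV (g.1 *ᵥ v) * h.1.1

theorem Induced.mul {h h' : G2 F} {g g' : GL chevG2.Idx F} (a : Induced h g) (a' : Induced h' g') :
    Induced (h * h') (g * g') := fun v => by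
  rw [Subgroup.coe_mul, Units.val_mul, Matrix.mul_assoc, a' v, ← Matrix.mul_assoc, a, Units.val_mul,
    Matrix.mulVec_mulVec, Matrix.mul_assoc]

theorem induced_one : Induced (1 : G2 F) (1 : GL chevG2.Idx F) := fun v => by
  simp

theorem Induced.inv {h : G2 F} {g : GL chevG2.Idx F} (a : Induced h g) : Induced h⁻¹ g⁻¹ := fun v => by
  have e := a ((g⁻¹).1 *ᵥ v)
  rw [Matrix.mulVec_mulVec, Units.mul_inv, Matrix.one_mulVec] at e
  rw [Subgroup.coe_inv]
  calc (h.1⁻¹).1 * DV v = (h.1⁻¹).1 * (DV v * h.1.1) * (h.1⁻¹).1 := by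
        rw [Matrix.mul_assoc, Matrix.mul_assoc, Units.mul_inv, Matrix.mul_one]
    _ = (h.1⁻¹).1 * (h.1.1 * DV ((g⁻¹).1 *ᵥ v)) * (h.1⁻¹).1 := by rw [e]
    _ = _ := by rw [← Matrix.mul_assoc, Units.inv_mul, Matrix.one_mul]

theorem Induced.eq_one {g : GL chevG2.Idx F} (a : Induced 1 g) : g = 1 :=
  Units.ext (Matrix.ext_of_mulVec_single fun i => DV_injective (by
    have := a (Pi.single i 1)
    rw [Units.val_one, Matrix.one_mulVec]
    simpa using this.symm))

theorem exists_induced {g : GL chevG2.Idx F} (hg : g ∈ chevG2.group F) : ∃ h : G2 F, Induced h g := by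
  refine Subgroup.closure_induction (p := fun g _ => ∃ h : G2 F, Induced h g) ?_ ⟨1, induced_one⟩
    (fun x y _ _ ⟨a, ha⟩ ⟨b, hb⟩ => ⟨a * b, ha.mul hb⟩) (fun x _ ⟨a, ha⟩ => ⟨a⁻¹, ha.inv⟩) hg
  rintro x ⟨r, t, hx⟩
  refine ⟨aG r t, fun v => ?_⟩
  rw [hx, xMat_eq (CoxTorus.cG2).G.shape F r t]
  exact aX_rel r t v

theorem Induced.pow {h : G2 F} {g : GL chevG2.Idx F} (a : Induced h g) :
    ∀ k : ℕ, Induced (h ^ k) (g ^ k)
  | 0 => by rw [pow_zero, pow_zero]; exact induced_one
  | k + 1 => by rw [pow_succ, pow_succ]; exact (Induced.pow a k).mul a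

/-- element orders of the group divide those of inducing automorphisms -/
theorem exists_order_dvd (g : ↥(chevG2.group F)) : ∃ h : G2 F, orderOf g ∣ orderOf h := by
  obtain ⟨h, hh⟩ := exists_induced g.2
  refine ⟨h, orderOf_dvd_iff_pow_eq_one.2 (Subtype.ext (Induced.eq_one ?_))⟩
  have := hh.pow (orderOf h)
  rw [pow_orderOf_eq_one] at this
  exact this

end CfsgLib.Lie.G2Int
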