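import Cfsg.Agent.Lib.Classical.UnionTwo.G2Cover
import Cfsg.Agent.Lib.Lie.G2.EvenWeights
import Mathlib.FieldTheory.IsAlgClosed.AlgebraicClosure
import Mathlib.LinearAlgebra.Semisimple
import Mathlib.LinearAlgebra.Eigenspace.Semisimple
import Mathlib.LinearAlgebra.Eigenspace.Triangularizable
import Mathlib.LinearAlgebra.Matrix.Charpoly.Coeff

/-!
# Element orders of the automorphism group of the split octonions in characteristic two

An element of odd order fixes an idempotent after averaging, hence is diagonal in a suitable basis with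
weights `1, a, b, c, a⁻¹, b⁻¹, c⁻¹, 1` and `a * b * c = 1`; the two-element commuting with it preserves
the weight spaces, and those of nontrivial weight generate the algebra.
-/

set_option autoImplicit false
set_option linter.unusedSectionVars false

namespace CfsgLib.Lie.G2Spec

open Matrix Cfsg.Lie CfsgLib.Classical.UnionTwo.G2Cover CfsgLib.Lie.G2Weights
open CfsgLib.Classical.G2Quat hiding dd

/-! ### Extension of scalars -/

section map

variable {R : Type*} [Field R]

/-- the product as a bilinear map -/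
def zm : (Fin 8 → R) →ₗ[R] (Fin 8 → R) →ₗ[R] (Fin 8 → R) :=
  LinearMap.mk₂ R zornMul
    (fun x x' y => by funext i; fin_cases i <;> simp [zornMul, dot3, cross3] <;> ring)
    (fun c x y => by funext i; fin_cases i <;> simp [zornMul, dot3, cross3] <;> ring)
    (fun x y y' => by funext i; fin_cases i <;> simp [zornMul, dot3, cross3] <;> ring)
    (fun c x y => by funext i; fin_cases i <;> simp [zornMul, dot3, cross3] <;> ring)

theorem zm_apply (x y : Fin 8 → R) : zm x y = zornMul x y := rfl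

/-- it is enough to check the automorphism identity on a basis -/
theorem mul_of_basis {A : Matrix (Fin 8) (Fin 8) R}
    (h : ∀ i j, A *ᵥ zornMul (Pi.single i 1) (Pi.single j 1) =
      zornMul (A *ᵥ Pi.single i 1) (A *ᵥ Pi.single j 1)) (x y : Fin 8 → R) :
    A *ᵥ zornMul x y = zornMul (A *ᵥ x) (A *ᵥ y) := by
  have e : (zm (R := R)).compr₂ A.mulVecLin = zm.compl₁₂ A.mulVecLin A.mulVecLin := by
    refine LinearMap.ext_basis (Pi.basisFun R (Fin 8)) (Pi.basisFun R (Fin 8)) fun i j => ?_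
    simp only [Pi.basisFun_apply]
    exact h i j
  exact DFunLike.congr_fun (DFunLike.congr_fun e x) y

variable {S : Type*} [Field S] (ι : R →+* S)

theorem map_zornMul (x y : Fin 8 → R) : zornMul (ι ∘ x) (ι ∘ y) = ι ∘ zornMul x y := by
  funext i; fin_cases i <;> simp [zornMul, dot3, cross3]

theorem map_mulVec' (A : Matrix (Fin 8) (Fin 8) R) (x : Fin 8 → R) :
    A.map ι *ᵥ (ι ∘ x) = ι ∘ (A *ᵥ x) := by
  funext i
  simp [Matrix.mulVec, dotProduct]

theorem map_mem (g : G2 R) (x y : Fin 8 → S) :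
    g.1.1.map ι *ᵥ zornMul x y = zornMul (g.1.1.map ι *ᵥ x) (g.1.1.map ι *ᵥ y) := by
  refine mul_of_basis (fun i j => ?_) x y
  have e : ∀ k : Fin 8, (Pi.single k 1 : Fin 8 → S) = ι ∘ (Pi.single k 1 : Fin 8 → R) := fun k => by
    funext l; by_cases h : l = k <;> simp [Pi.single_apply, h]
  rw [e i, e j, map_zornMul, map_mulVec', map_mulVec', map_mulVec', map_zornMul, mem_G2.1 g.2]

/-- extension of scalars -/
noncomputable def mapG : G2 R →* G2 S :=
  ((Units.map (ι.mapMatrix (m := Fin 8)).toMonoidHom).comp (G2 R).subtype).codRestrict (G2 S) fun g =>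
    mem_G2.2 fun x y => by
      show g.1.1.map ι *ᵥ _ = _
      exact map_mem ι g x y

theorem mapG_val (g : G2 R) : (mapG ι g).1.1 = g.1.1.map ι := rfl

theorem mapG_injective : Function.Injective (mapG ι) := fun g g' h =>
  Subtype.ext (Units.ext (Matrix.map_injective ι.injective (congrArg (fun z : G2 S => z.1.1) h)))

end map

/-! ### The diagonal form over an algebraically closed field -/

section closed

variable {K : Type*} [Field K] [CharP K 2]

theorem g2_ext {g h : G2 K} (e : ∀ x, g.1.1 *ᵥ x = h.1.1 *ᵥ x) : g = h :=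
  Subtype.ext (Units.ext (Matrix.ext_of_mulVec_single fun i => e _))

theorem actT_comp (T T' : Matrix (Fin 3) (Fin 3) K) (x : Fin 8 → K) :
    actT T (actT T' x) = actT (T * T') x := by
  have eA : zA K (actT T' x) = T' *ᵥ zA K x := by funext i; fin_cases i <;> rfl
  have eB : zB K (actT T' x) = T'.adjugateᵀ *ᵥ zB K x := by funext i; fin_cases i <;> rfl
  rw [actT_apply T, actT_apply (T * T'), eA, eB, Matrix.mulVec_mulVec, Matrix.mulVec_mulVec,
    Matrix.adjugate_mul_distrib, Matrix.transpose_mul]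
  rfl

theorem actT_diagonal {a b c : K} (h : a * b * c = 1) (x : Fin 8 → K) :
    actT (Matrix.diagonal ![a, b, c]) x = Matrix.diagonal (dd a b c) *ᵥ x := by
  have ha : a ≠ 0 := by rintro rfl; simp at h
  have hb : b ≠ 0 := by rintro rfl; simp at h
  have hc : c ≠ 0 := by rintro rfl; simp at h
  have e1 : a⁻¹ = b * c := inv_eq_of_mul_eq_one_right (by rwa [← mul_assoc])
  have e2 : b⁻¹ = a * c := inv_eq_of_mul_eq_one_right (by rw [← h]; ring)
  have e3 : c⁻¹ = a * b := inv_eq_of_mul_eq_one_right (by rw [← h]; ring)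
  funext i
  rw [actT_apply, Matrix.mulVec_diagonal]
  fin_cases i <;>
    simp [dd, Matrix.adjugate_fin_three, Matrix.mulVec, dotProduct, Fin.sum_univ_three, Matrix.diagonal,
      e1, e2, e3]

variable [IsAlgClosed K]

/-- a matrix of finite order prime to the characteristic is diagonalisable -/
theorem exists_conj_diag_three {T : Matrix (Fin 3) (Fin 3) K} {n : ℕ} (hn : (n : K) ≠ 0)
    (hT : T ^ n = 1) :
    ∃ (P : Matrix (Fin 3) (Fin 3) K) (d : Fin 3 → K), P.det = 1 ∧ T * P = P * Matrix.diagonal d := by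
  classical
  set L : Module.End K (Fin 3 → K) := Matrix.toLinAlgEquiv' T with hL
  have hLn : L ^ n = 1 := by rw [hL, ← map_pow, hT, map_one]
  have hn0 : n ≠ 0 := fun e => hn (by rw [e, Nat.cast_zero])
  have hss : L.IsSemisimple := by
    refine Module.End.isSemisimple_of_squarefree_aeval_eq_zero
      (Polynomial.separable_X_pow_sub_C (1 : K) hn one_ne_zero).squarefree ?_
    simp [hLn]
  have htop : ⨆ μ : K, Module.End.eigenspace L μ = ⊤ := by
    have := Module.End.iSup_maxGenEigenspace_eq_top L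
    simpa [hss.isFinitelySemisimple.maxGenEigenspace_eq_eigenspace] using this
  have hint : DirectSum.IsInternal (fun μ : K => Module.End.eigenspace L μ) :=
    DirectSum.isInternal_submodule_of_iSupIndep_of_iSup_eq_top
      (Module.End.eigenspaces_iSupIndep L) htop
  let B := hint.collectedBasis fun μ => Module.finBasis K (Module.End.eigenspace L μ)
  haveI : Finite (Σ μ : K, Fin (Module.finrank K (Module.End.eigenspace L μ))) :=
    Module.Finite.finite_basis B
  haveI := Fintype.ofFinite (Σ μ : K, Fin (Module.finrank K (Module.End.eigenspace L μ)))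
  let f := Fintype.equivFinOfCardEq (n := 3)
    ((Module.finrank_eq_card_basis B).symm.trans (Module.finrank_fin_fun K))
  let b := B.reindex f
  have hb : ∀ i, T *ᵥ b i = (f.symm i).1 • b i := fun i => by
    have hmem := hint.collectedBasis_mem
      (fun μ => Module.finBasis K (Module.End.eigenspace L μ)) (f.symm i)
    rw [show b i = B (f.symm i) from Module.Basis.reindex_apply _ _ _]
    exact Module.End.mem_eigenspace_iff.mp hmem
  set P₀ : Matrix (Fin 3) (Fin 3) K := (Pi.basisFun K (Fin 3)).toMatrix b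
  have hP₀ : P₀.det ≠ 0 := by
    haveI := (Pi.basisFun K (Fin 3)).invertibleToMatrix b
    exact (Matrix.isUnit_det_of_invertible P₀).ne_zero
  have hP : ∀ i j, P₀ i j = b j i := fun i j => by
    show (Pi.basisFun K (Fin 3)).repr (b j) i = _
    rw [Pi.basisFun_repr]
  have hTP : T * P₀ = P₀ * Matrix.diagonal fun i => (f.symm i).1 := by
    ext i j
    rw [Matrix.mul_diagonal, hP]
    have := congrFun (hb j) i
    rw [Pi.smul_apply, smul_eq_mul, mul_comm] at this
    rw [← this, Matrix.mul_apply]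
    simp [Matrix.mulVec, dotProduct, hP]
  refine ⟨P₀ * Matrix.diagonal ![P₀.det⁻¹, 1, 1], fun i => (f.symm i).1, ?_, ?_⟩
  · rw [Matrix.det_mul, Matrix.det_diagonal, Fin.prod_univ_three]
    simp [mul_inv_cancel₀ hP₀]
  · rw [← Matrix.mul_assoc, hTP, Matrix.mul_assoc, Matrix.mul_assoc, Matrix.diagonal_mul_diagonal,
      Matrix.diagonal_mul_diagonal]
    simp_rw [mul_comm]

theorem exists_two_ne : ∃ t : K, t ≠ 0 ∧ t ≠ 1 := by
  classical
  obtain ⟨t, ht⟩ := Infinite.exists_notMem_finset ({0, 1} : Finset K)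
  simp only [Finset.mem_insert, Finset.mem_singleton, not_or] at ht
  exact ⟨t, ht⟩

/-- an element of odd order fixes an idempotent, which can be moved to the standard one -/
theorem exists_fix_idem (s : G2 K) {n : ℕ} (hn : Odd n) (hs : s ^ n = 1) :
    ∃ g : G2 K, (g * s * g⁻¹).1.1 *ᵥ (Pi.single 0 1) = Pi.single 0 1 := by
  classical
  set y : Fin 8 → K := Pi.single 0 1 with hy
  have hty : tt y = 1 := by simp [tt, hy]
  have hn1 : (n : K) = 1 := by
    obtain ⟨k, rfl⟩ := hn
    simp [CharTwo.two_eq_zero]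
  set x : Fin 8 → K := ∑ i ∈ Finset.range n, (s ^ i).1.1 *ᵥ y with hx
  have hsum : ∀ (t : Finset ℕ) (v : ℕ → Fin 8 → K), tt (∑ i ∈ t, v i) = ∑ i ∈ t, tt (v i) := fun t v => by
    simp [tt, Finset.sum_apply, Finset.sum_add_distrib]
  have htx : tt x = 1 := by
    rw [hx, hsum, Finset.sum_congr rfl fun i _ => (tt_nn (s ^ i) y).1.trans hty]
    simp [hn1]
  have hsx : s.1.1 *ᵥ x = x := by
    rw [hx, Matrix.mulVec_sum]
    have e : ∀ i, s.1.1 *ᵥ ((s ^ i).1.1 *ᵥ y) = (s ^ (i + 1)).1.1 *ᵥ y := fun i => by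
      rw [pow_succ', g_mul]
    rw [Finset.sum_congr rfl fun i _ => e i]
    have h1 := Finset.sum_range_succ' (fun i => (s ^ i).1.1 *ᵥ y) n
    have h2 := Finset.sum_range_succ (fun i => (s ^ i).1.1 *ᵥ y) n
    rw [h2, hs, pow_zero] at h1
    exact (add_right_cancel h1).symm
  obtain ⟨c, hc⟩ := IsAlgClosed.exists_root
    (Polynomial.X ^ 2 + Polynomial.X + Polynomial.C (nn x)) (by
      rw [show (Polynomial.X ^ 2 + Polynomial.X + Polynomial.C (nn x) : Polynomial K).degree = 2 by
        compute_degree!]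
      decide)
  simp only [Polynomial.IsRoot.def, Polynomial.eval_add, Polynomial.eval_pow, Polynomial.eval_X,
    Polynomial.eval_C] at hc
  set f := x + c • (uu : Fin 8 → K) with hf
  have hft : tt f = 1 := by rw [hf, tt_shift, htx]
  have hfn : nn f = 0 := by rw [hf, nn_shift, htx, mul_one, ← hc]; ring
  have hfs : s.1.1 *ᵥ f = f := by rw [hf, Matrix.mulVec_add, Matrix.mulVec_smul, map_uu, hsx]
  obtain ⟨t, ht0, ht1⟩ := exists_two_ne (K := K)
  obtain ⟨g₁, hg₁⟩ := move hft ht0 ht1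
  obtain ⟨g₀, hg₀⟩ := move hty ht0 ht1
  have hny : nn y = 0 := by simp [nn, hy]
  rw [hfn] at hg₁
  rw [hny, ← hg₁] at hg₀
  refine ⟨g₀⁻¹ * g₁, ?_⟩
  have e : (g₀⁻¹ * g₁).1.1 *ᵥ f = y := by rw [g_mul, ← hg₀, g_inv]
  rw [g_mul, g_mul, show ((g₀⁻¹ * g₁)⁻¹).1.1 *ᵥ y = f by rw [← e, g_inv], hfs, e]

/-- fixing the standard idempotent means acting by a matrix of size three -/
theorem exists_actT (s : G2 K) (h0 : s.1.1 *ᵥ (Pi.single 0 1) = Pi.single 0 1) :
    ∃ T : Matrix (Fin 3) (Fin 3) K, T.det = 1 ∧ ∀ x, s.1.1 *ᵥ x = actT T x := by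
  classical
  set A := s.1.1 with hA
  have hm := mem_G2.1 s.2
  have hu : A *ᵥ uu = uu := map_uu s
  have hδ : (Pi.single 7 1 : Fin 8 → K) = uu + Pi.single 0 1 := by
    funext i; fin_cases i <;> simp [uu, CharTwo.add_self_eq_zero]
  have h7 : A *ᵥ (Pi.single 7 1) = Pi.single 7 1 := by rw [hδ, Matrix.mulVec_add, hu, h0]
  -- the two three-dimensional spaces
  have hL : ∀ x : Fin 8 → K, zornMul (Pi.single 0 1) x = ![x 0, x 1, x 2, x 3, 0, 0, 0, 0] := fun x => by
    funext i; fin_cases i <;> simp [zornMul, dot3, cross3]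
  have hR : ∀ x : Fin 8 → K, zornMul x (Pi.single 0 1) = ![x 0, 0, 0, 0, x 4, x 5, x 6, 0] := fun x => by
    funext i; fin_cases i <;> simp [zornMul, dot3, cross3]
  have spA : ∀ u : Fin 3 → K, ∀ i : Fin 8, i = 0 ∨ i = 4 ∨ i = 5 ∨ i = 6 ∨ i = 7 →
      (A *ᵥ ![0, u 0, u 1, u 2, 0, 0, 0, 0]) i = 0 := fun u => by
    set v : Fin 8 → K := ![0, u 0, u 1, u 2, 0, 0, 0, 0] with hv
    have e1 : zornMul (Pi.single 0 1) (A *ᵥ v) = A *ᵥ v := by
      conv_lhs => rw [← h0]
      rw [← hm, hL]; rfl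
    have e2 : zornMul (A *ᵥ v) (Pi.single 0 1) = 0 := by
      conv_lhs => rw [← h0]
      rw [← hm, hR, show (![v 0, 0, 0, 0, v 4, v 5, v 6, 0] : Fin 8 → K) = 0 by
        funext i; fin_cases i <;> simp [hv], Matrix.mulVec_zero]
    rw [hL] at e1; rw [hR] at e2
    rintro i (rfl | rfl | rfl | rfl | rfl)
    exacts [congrFun e2 0, congrFun e2 4, congrFun e2 5, congrFun e2 6, (congrFun e1 7).symm]
  have spB : ∀ u : Fin 3 → K, ∀ i : Fin 8, i = 0 ∨ i = 1 ∨ i = 2 ∨ i = 3 ∨ i = 7 →
      (A *ᵥ ![0, 0, 0, 0, u 0, u 1, u 2, 0]) i = 0 := fun u => by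
    set v : Fin 8 → K := ![0, 0, 0, 0, u 0, u 1, u 2, 0] with hv
    have e1 : zornMul (A *ᵥ v) (Pi.single 0 1) = A *ᵥ v := by
      conv_lhs => rw [← h0]
      rw [← hm, hR]; rfl
    have e2 : zornMul (Pi.single 0 1) (A *ᵥ v) = 0 := by
      conv_lhs => rw [← h0]
      rw [← hm, hL, show (![v 0, v 1, v 2, v 3, 0, 0, 0, 0] : Fin 8 → K) = 0 by
        funext i; fin_cases i <;> simp [hv], Matrix.mulVec_zero]
    rw [hR] at e1; rw [hL] at e2
    rintro i (rfl | rfl | rfl | rfl | rfl)
    exacts [congrFun e2 0, congrFun e2 1, congrFun e2 2, congrFun e2 3, (congrFun e1 7).symm]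
  let T : Matrix (Fin 3) (Fin 3) K := Matrix.of fun i j =>
    ![![A 1 1, A 1 2, A 1 3], ![A 2 1, A 2 2, A 2 3], ![A 3 1, A 3 2, A 3 3]] i j
  let U : Matrix (Fin 3) (Fin 3) K := Matrix.of fun i j =>
    ![![A 4 4, A 4 5, A 4 6], ![A 5 4, A 5 5, A 5 6], ![A 6 4, A 6 5, A 6 6]] i j
  have hTa : ∀ u : Fin 3 → K, A *ᵥ ![0, u 0, u 1, u 2, 0, 0, 0, 0] =
      ![0, (T *ᵥ u) 0, (T *ᵥ u) 1, (T *ᵥ u) 2, 0, 0, 0, 0] := fun u => by
    funext i
    fin_cases i
    · exact spA u 0 (by simp)
    · simp [T, Matrix.mulVec, dotProduct, Fin.sum_univ_eight, Fin.sum_univ_three]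
    · simp [T, Matrix.mulVec, dotProduct, Fin.sum_univ_eight, Fin.sum_univ_three]
    · simp [T, Matrix.mulVec, dotProduct, Fin.sum_univ_eight, Fin.sum_univ_three]
    · exact spA u 4 (by simp)
    · exact spA u 5 (by simp)
    · exact spA u 6 (by simp)
    · exact spA u 7 (by simp)
  have hUb : ∀ u : Fin 3 → K, A *ᵥ ![0, 0, 0, 0, u 0, u 1, u 2, 0] =
      ![0, 0, 0, 0, (U *ᵥ u) 0, (U *ᵥ u) 1, (U *ᵥ u) 2, 0] := fun u => by
    funext i
    fin_cases i
    · exact spB u 0 (by simp)
    · exact spB u 1 (by simp)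
    · exact spB u 2 (by simp)
    · exact spB u 3 (by simp)
    · simp [U, Matrix.mulVec, dotProduct, Fin.sum_univ_eight, Fin.sum_univ_three]
    · simp [U, Matrix.mulVec, dotProduct, Fin.sum_univ_eight, Fin.sum_univ_three]
    · simp [U, Matrix.mulVec, dotProduct, Fin.sum_univ_eight, Fin.sum_univ_three]
    · exact spB u 7 (by simp)
  -- the invariance of the scalar and vector products
  have hdot : ∀ u w : Fin 3 → K, dot3 (T *ᵥ u) (U *ᵥ w) = dot3 u w := fun u w => by
    have e := congrFun (hm ![0, u 0, u 1, u 2, 0, 0, 0, 0] ![0, 0, 0, 0, w 0, w 1, w 2, 0]) 0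
    rw [hTa, hUb, show zornMul ![0, u 0, u 1, u 2, 0, 0, 0, 0] ![0, 0, 0, 0, w 0, w 1, w 2, 0] =
      dot3 u w • (Pi.single 0 1 : Fin 8 → K) by
        funext i; fin_cases i <;> simp [zornMul, dot3, cross3], Matrix.mulVec_smul, h0] at e
    simp [zornMul, dot3] at e
    simpa [dot3] using e.symm
  have hcr : ∀ u w : Fin 3 → K, cross3 (T *ᵥ u) (T *ᵥ w) = U *ᵥ cross3 u w := fun u w => by
    have e := hm ![0, u 0, u 1, u 2, 0, 0, 0, 0] ![0, w 0, w 1, w 2, 0, 0, 0, 0]
    rw [hTa, hTa, show zornMul ![0, u 0, u 1, u 2, 0, 0, 0, 0] ![0, w 0, w 1, w 2, 0, 0, 0, 0] =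
      ![0, 0, 0, 0, (cross3 u w) 0, (cross3 u w) 1, (cross3 u w) 2, 0] by
        funext i; fin_cases i <;> simp [zornMul, dot3, cross3], hUb] at e
    funext i
    fin_cases i
    · simpa [zornMul, cross3] using (congrFun e 4).symm
    · simpa [zornMul, cross3] using (congrFun e 5).symm
    · simpa [zornMul, cross3] using (congrFun e 6).symm
  have hdet : T.det = 1 := by
    have h := hdot ![1, 0, 0] (cross3 ![0, 1, 0] ![0, 0, 1])
    rw [← hcr] at h
    simp [dot3, cross3, Matrix.mulVec, dotProduct, Fin.sum_univ_three] at h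
    rw [Matrix.det_fin_three]
    linear_combination h
  have hUT : U = T.adjugateᵀ := by
    have h : Tᵀ * U = 1 := by
      ext i j
      have := hdot (Pi.single i 1) (Pi.single j 1)
      simp [dot3, Matrix.mulVec, dotProduct, Fin.sum_univ_three] at this
      rw [Matrix.mul_apply, Fin.sum_univ_three]
      fin_cases i <;> fin_cases j <;> simpa [Matrix.transpose_apply] using this
    calc U = (T.adjugateᵀ * Tᵀ) * U := by
          rw [← Matrix.transpose_mul, Matrix.mul_adjugate, hdet, one_smul, Matrix.transpose_one, Matrix.one_mul]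
      _ = T.adjugateᵀ := by rw [Matrix.mul_assoc, h, Matrix.mul_one]
  refine ⟨T, hdet, fun x => ?_⟩
  have hx : x = x 0 • (Pi.single 0 1 : Fin 8 → K) + x 7 • (Pi.single 7 1 : Fin 8 → K) +
      (![0, zA K x 0, zA K x 1, zA K x 2, 0, 0, 0, 0] + ![0, 0, 0, 0, zB K x 0, zB K x 1, zB K x 2, 0]) := by
    funext i; fin_cases i <;> simp
  conv_lhs => rw [hx]
  rw [Matrix.mulVec_add, Matrix.mulVec_add, Matrix.mulVec_add, Matrix.mulVec_smul, Matrix.mulVec_smul,
    h0, h7, hTa, hUb, hUT, actT_apply]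
  funext i
  fin_cases i <;> simp

/-- an element of odd order is conjugate to a diagonal one -/
theorem exists_diag (s : G2 K) {n : ℕ} (hn : Odd n) (hs : s ^ n = 1) :
    ∃ (g : G2 K) (a b c : K), a * b * c = 1 ∧ (g * s * g⁻¹).1.1 = Matrix.diagonal (dd a b c) := by
  classical
  obtain ⟨g₁, hg₁⟩ := exists_fix_idem s hn hs
  set s₁ := g₁ * s * g₁⁻¹ with hs₁
  obtain ⟨T, hT, hTs⟩ := exists_actT s₁ hg₁
  have hpow : ∀ (k : ℕ) x, (s₁ ^ k).1.1 *ᵥ x = actT (T ^ k) x := by
    intro k
    induction k with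
    | zero =>
      intro x
      rw [pow_zero, pow_zero, actT_apply]
      show (1 : Matrix (Fin 8) (Fin 8) K) *ᵥ x = _
      rw [Matrix.one_mulVec]
      funext i; fin_cases i <;> simp
    | succ k ih => intro x; rw [pow_succ, g_mul, hTs, ih, actT_comp, pow_succ]
  have hTn : T ^ n = 1 := by
    refine Matrix.ext_of_mulVec_single fun j => ?_
    have e : s₁ ^ n = 1 := by rw [hs₁, conj_pow, hs, mul_one, mul_inv_cancel]
    have h := hpow n ![0, (Pi.single j 1 : Fin 3 → K) 0, (Pi.single j 1 : Fin 3 → K) 1,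
      (Pi.single j 1 : Fin 3 → K) 2, 0, 0, 0, 0]
    rw [e, show ((1 : G2 K).1.1 : Matrix (Fin 8) (Fin 8) K) = 1 from rfl, Matrix.one_mulVec, actT_apply] at h
    have hz : zA K ![0, (Pi.single j 1 : Fin 3 → K) 0, (Pi.single j 1 : Fin 3 → K) 1,
        (Pi.single j 1 : Fin 3 → K) 2, 0, 0, 0, 0] = Pi.single j 1 := by
      funext i; fin_cases i <;> simp
    rw [hz] at h
    rw [Matrix.one_mulVec]
    funext i
    fin_cases i
    · simpa using (congrFun h 1).symm
    · simpa using (congrFun h 2).symm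
    · simpa using (congrFun h 3).symm
  have hn1 : (n : K) ≠ 0 := by
    obtain ⟨k, rfl⟩ := hn
    simp [CharTwo.two_eq_zero]
  obtain ⟨P, d, hP, hTP⟩ := exists_conj_diag_three hn1 hTn
  have hd : d 0 * d 1 * d 2 = 1 := by
    have := congrArg Matrix.det hTP
    rw [Matrix.det_mul, Matrix.det_mul, hT, hP, one_mul, one_mul, Matrix.det_diagonal,
      Fin.prod_univ_three] at this
    exact this.symm
  obtain ⟨g₂, hg₂⟩ := exists_G2_T hP
  refine ⟨g₂⁻¹ * g₁, d 0, d 1, d 2, hd, Matrix.ext_of_mulVec_single fun j => ?_⟩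
  rw [show g₂⁻¹ * g₁ * s * (g₂⁻¹ * g₁)⁻¹ = g₂⁻¹ * (s₁ * g₂) by rw [hs₁]; group, g_mul, g_mul, hTs,
    hg₂, actT_comp, hTP, ← actT_comp, ← hg₂, g_inv]
  have e := actT_diagonal hd (Pi.single j 1)
  rw [show ![d 0, d 1, d 2] = d by funext i; fin_cases i <;> rfl] at e
  exact e

end closed

section split

variable {K : Type*} [Field K] [CharP K 2]

/-- a matrix commuting with a diagonal one preserves its eigenspaces -/
theorem apply_eq_zero {ι : Type*} [Fintype ι] [DecidableEq ι] {d : ι → K} {v : Matrix ι ι K}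
    (hc : v * Matrix.diagonal d = Matrix.diagonal d * v) {i j : ι} (h : d i ≠ d j) : v i j = 0 := by
  have e := congrFun (congrFun hc i) j
  rw [Matrix.mul_diagonal, Matrix.diagonal_mul, mul_comm] at e
  by_contra hne
  exact h (mul_right_cancel₀ hne e).symm

/-- powers of a unipotent matrix on an eigenspace of small dimension -/
theorem pow_fix {v : Matrix (Fin 8) (Fin 8) K} {d : Fin 8 → K}
    (hc : v * Matrix.diagonal d = Matrix.diagonal d * v) {k : ℕ} (hv : v ^ 2 ^ k = 1) {i : Fin 8}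
    {t : ℕ} [DecidablePred fun j => d j = d i]
    (ht : (Finset.univ.filter fun j => d j = d i).card ≤ 2 ^ t) :
    (v ^ 2 ^ t) *ᵥ Pi.single i 1 = Pi.single i 1 := by
  classical
  let emb : {j // d j = d i} → Fin 8 := Subtype.val
  have hcm : ∀ m : ℕ, v ^ m * Matrix.diagonal d = Matrix.diagonal d * v ^ m := fun m =>
    ((Commute.pow_left (show Commute v (Matrix.diagonal d) from hc) m)).eq
  have hsub : ∀ m : ℕ, (v ^ m).submatrix emb emb = (v.submatrix emb emb) ^ m := by
    intro m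
    induction m with
    | zero =>
      rw [pow_zero, pow_zero]
      exact Matrix.submatrix_one _ Subtype.val_injective
    | succ m ih =>
      rw [pow_succ, pow_succ, ← ih]
      ext ⟨a, ha⟩ ⟨b, hb⟩
      simp only [Matrix.submatrix_apply, Matrix.mul_apply, emb]
      rw [← Finset.sum_filter_add_sum_filter_not Finset.univ (fun j => d j = d i),
        Finset.sum_eq_zero (s := Finset.univ.filter fun j => ¬ d j = d i) (fun j hj => by
          rw [apply_eq_zero hc (i := j) (j := b) (fun e => (Finset.mem_filter.1 hj).2 (e.trans hb)),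
            mul_zero]), add_zero]
      exact (Finset.sum_subtype _ (by simp) _)
  set B := v.submatrix emb emb with hB
  haveI : CharP (Matrix {j // d j = d i} {j // d j = d i} K) 2 := by
    haveI : Nonempty {j // d j = d i} := ⟨⟨i, rfl⟩⟩
    infer_instance
  have hsub1 : ∀ m : ℕ, B ^ 2 ^ m - 1 = (B - 1) ^ 2 ^ m := fun m => by
    rw [sub_pow_char_pow_of_commute _ _ (Commute.one_right B), one_pow]
  have hnil : IsNilpotent (B - 1) := ⟨2 ^ k, by
    rw [← hsub1, ← hsub, hv, sub_eq_zero]; exact Matrix.submatrix_one _ Subtype.val_injective⟩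
  have hN : (B - 1) ^ Fintype.card {j // d j = d i} = 0 := by
    have h1 := (Matrix.isNilpotent_charpoly_sub_pow_of_isNilpotent hnil).eq_zero
    have h2 := Matrix.aeval_self_charpoly (B - 1)
    rw [sub_eq_zero.1 h1] at h2
    simpa using h2
  have h1 : (v ^ 2 ^ t).submatrix emb emb = 1 := by
    rw [hsub, ← sub_eq_zero, hsub1]
    refine pow_eq_zero_of_le ?_ hN
    rw [Fintype.card_subtype]
    exact ht
  rw [Matrix.mulVec_single_one]
  funext j
  rw [Matrix.col_apply]
  by_cases hj : d j = d i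
  · have := congrFun (congrFun h1 ⟨j, hj⟩) ⟨i, rfl⟩
    rw [Matrix.submatrix_apply] at this
    rw [show (v ^ 2 ^ t) j i = _ from this, Matrix.one_apply]
    by_cases e : j = i <;> simp [Pi.single_apply, e, Subtype.ext_iff]
  · rw [apply_eq_zero (hcm _) hj, Pi.single_eq_of_ne (fun e => hj (by rw [e]))]

/-- the weight spaces of nontrivial weight generate the algebra -/
theorem eq_one_of_fix (v : G2 K) {a b c : K} (h : a * b * c = 1) (hne : ¬ (a = 1 ∧ b = 1))
    (hfix : ∀ i, dd a b c i ≠ 1 → v.1.1 *ᵥ Pi.single i 1 = Pi.single i 1) : v = 1 := by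
  classical
  have ha0 : a ≠ 0 := by rintro rfl; simp at h
  have hb0 : b ≠ 0 := by rintro rfl; simp at h
  have hc0 : c ≠ 0 := by rintro rfl; simp at h
  set P : (Fin 8 → K) → Prop := fun x => v.1.1 *ᵥ x = x with hP
  have hmul : ∀ {x y : Fin 8 → K}, P x → P y → P (zornMul x y) := fun {x y} hx hy => by
    show v.1.1 *ᵥ _ = _
    rw [mem_G2.1 v.2, hx, hy]
  let δ : Fin 8 → Fin 8 → K := fun i => Pi.single i 1
  have p0 : zornMul (δ 1) (δ 4) = δ 0 ∧ zornMul (δ 2) (δ 5) = δ 0 ∧ zornMul (δ 4) (δ 1) = δ 7 ∧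
      zornMul (δ 5) (δ 2) = δ 7 := by
    refine ⟨?_, ?_, ?_, ?_⟩ <;> funext i <;> fin_cases i <;> simp [δ, zornMul, dot3, cross3]
  have pc : zornMul (δ 5) (δ 6) = δ 1 ∧ zornMul (δ 4) (δ 6) = δ 2 ∧ zornMul (δ 4) (δ 5) = δ 3 ∧
      zornMul (δ 2) (δ 3) = δ 4 ∧ zornMul (δ 1) (δ 3) = δ 5 ∧ zornMul (δ 1) (δ 2) = δ 6 := by
    refine ⟨?_, ?_, ?_, ?_, ?_, ?_⟩ <;> funext i <;> fin_cases i <;>
      simp [δ, zornMul, dot3, cross3, CharTwo.neg_eq]
  obtain ⟨q1, q2, q3, q4⟩ := p0
  obtain ⟨c1, c2, c3, c4, c5, c6⟩ := pc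
  have six : P (δ 1) ∧ P (δ 2) ∧ P (δ 3) ∧ P (δ 4) ∧ P (δ 5) ∧ P (δ 6) := by
    have wa : a ≠ 1 → P (δ 1) ∧ P (δ 4) := fun e =>
      ⟨hfix 1 (by simpa [dd] using e), hfix 4 (by simpa [dd] using e)⟩
    have wb : b ≠ 1 → P (δ 2) ∧ P (δ 5) := fun e =>
      ⟨hfix 2 (by simpa [dd] using e), hfix 5 (by simpa [dd] using e)⟩
    have wc : c ≠ 1 → P (δ 3) ∧ P (δ 6) := fun e =>
      ⟨hfix 3 (by simpa [dd] using e), hfix 6 (by simpa [dd] using e)⟩
    by_cases ha : a = 1
    · have hb : b ≠ 1 := fun e => hne ⟨ha, e⟩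
      have hc : c ≠ 1 := fun e => hb (by simpa [ha, e] using h)
      obtain ⟨⟨u2, u5⟩, u3, u6⟩ := And.intro (wb hb) (wc hc)
      exact ⟨c1 ▸ hmul u5 u6, u2, u3, c4 ▸ hmul u2 u3, u5, u6⟩
    by_cases hb : b = 1
    · have hc : c ≠ 1 := fun e => ha (by simpa [hb, e] using h)
      obtain ⟨⟨u1, u4⟩, u3, u6⟩ := And.intro (wa ha) (wc hc)
      exact ⟨u1, c2 ▸ hmul u4 u6, u3, u4, c5 ▸ hmul u1 u3, u6⟩
    obtain ⟨⟨u1, u4⟩, u2, u5⟩ := And.intro (wa ha) (wb hb)
    exact ⟨u1, u2, c3 ▸ hmul u4 u5, u4, u5, c6 ▸ hmul u1 u2⟩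
  obtain ⟨u1, u2, u3, u4, u5, u6⟩ := six
  have all : ∀ i, P (δ i) := by
    intro i
    fin_cases i
    exacts [q1 ▸ hmul u1 u4, u1, u2, u3, u4, u5, u6, q3 ▸ hmul u4 u1]
  refine Subtype.ext (Units.ext (Matrix.ext_of_mulVec_single fun i => ?_))
  rw [show v.1.1 *ᵥ Pi.single i 1 = Pi.single i 1 from all i]
  exact (Matrix.one_mulVec _).symm

end split

/-! ### Element orders -/

variable {F : Type*} [Field F] [Fintype F] [CharP F 2]

/-- the orders of the elements of the automorphism group -/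
theorem order_dvd (h : G2 F) :
    ∃ m ∈ ({8, 12, 2 * (Fintype.card F + 1), 2 * (Fintype.card F - 1), Fintype.card F ^ 2 - 1,
      Fintype.card F ^ 2 + Fintype.card F + 1, Fintype.card F ^ 2 - Fintype.card F + 1} : Set ℕ),
      orderOf h ∣ m := by
  classical
  set q := Fintype.card F with hqdef
  haveI : Finite (G2 F) := inferInstance
  obtain ⟨k, n, hn, hN⟩ := Nat.exists_eq_two_pow_mul_odd (orderOf_pos h).ne'
  -- the two parts
  have hsN : (h ^ 2 ^ k) ^ n = 1 := by rw [← pow_mul, ← hN, pow_orderOf_eq_one]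
  have huK : (h ^ n) ^ 2 ^ k = 1 := by rw [← pow_mul, mul_comm, ← hN, pow_orderOf_eq_one]
  have split : ∀ {A B : ℕ}, (h ^ 2 ^ k) ^ A = 1 → (h ^ n) ^ B = 1 → orderOf h ∣ A * B := fun {A B} e e' => by
    rw [hN]
    rw [← pow_mul, ← orderOf_dvd_iff_pow_eq_one, hN] at e e'
    rw [mul_comm A B]
    refine Nat.mul_dvd_mul ?_ ?_
    · refine (Nat.Coprime.pow_left k (Nat.coprime_two_left.2 hn)).dvd_of_dvd_mul_left ?_
      exact (dvd_mul_right _ _).trans e'
    · refine (Nat.Coprime.pow_right k (Nat.coprime_two_right.2 hn)).dvd_of_dvd_mul_left ?_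
      exact (dvd_mul_left _ _).trans e
  by_cases hs1 : h ^ 2 ^ k = 1
  · refine ⟨8, by simp, ?_⟩
    have e : (h ^ n) ^ 8 = 1 := by
      refine mapG_injective (algebraMap F F) ?_
      rw [map_pow, map_one]
      refine g2_ext fun x => ?_
      refine congrFun (congrArg Matrix.mulVec (Matrix.ext_of_mulVec_single fun i => ?_)) x
      rw [show ((1 : G2 F).1.1 : Matrix (Fin 8) (Fin 8) F) = 1 from rfl, Matrix.one_mulVec]
      have hm : (mapG (algebraMap F F) (h ^ n)).1.1 ^ 2 ^ k = 1 := by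
        have := congrArg (fun g : G2 F => g.1.1) (congrArg (mapG (algebraMap F F)) huK)
        simpa [map_pow] using this
      have := pow_fix (v := (mapG (algebraMap F F) (h ^ n)).1.1) (d := fun _ => (1 : F))
        (by rw [Matrix.diagonal_one, Matrix.mul_one, Matrix.one_mul]) hm (i := i) (t := 3)
        (by simp)
      simpa using this
    simpa using split (A := 1) (by rw [pow_one, hs1]) e
  -- over the algebraic closure
  let K := AlgebraicClosure F
  haveI : CharP K 2 := charP_of_injective_algebraMap (algebraMap F K).injective 2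
  set ι := algebraMap F K
  obtain ⟨g, a, b, c, hP, hd⟩ := exists_diag (mapG ι (h ^ 2 ^ k)) hn (by rw [← map_pow, hsN, map_one])
  set φ : G2 F →* G2 K := (MulAut.conj g).toMonoidHom.comp (mapG ι) with hφ
  have hφi : Function.Injective φ := (MulAut.conj g).injective.comp (mapG_injective ι)
  have hφs : (φ (h ^ 2 ^ k)).1.1 = Matrix.diagonal (dd a b c) := hd
  -- stability under the Frobenius power
  obtain ⟨e, -, hpe⟩ := FiniteField.card F 2
  have hq : q = 2 ^ (e : ℕ) := hpe
  set fr : K →+* K := iterateFrobenius K 2 (e : ℕ) with hfr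
  have hfr' : ∀ x, fr x = x ^ q := fun x => by rw [hfr, iterateFrobenius_def, hq]
  have hchar : Matrix.charpoly (Matrix.diagonal (dd a b c)) =
      ((h ^ 2 ^ k).1.1.charpoly).map ι := by
    rw [← hφs, ← Matrix.charpoly_map]
    rw [hφ, MonoidHom.comp_apply, MulEquiv.coe_toMonoidHom, MulAut.conj_apply, Subgroup.coe_mul,
      Subgroup.coe_mul, Subgroup.coe_inv, Units.val_mul, Units.val_mul, mapG_val,
      Matrix.coe_units_inv, Matrix.charpoly_units_conj]
  have hmult : (Finset.univ.val.map fun i => dd a b c i).map fr = Finset.univ.val.map fun i => dd a b c i := by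
    have hfix : (Matrix.charpoly (Matrix.diagonal (dd a b c))).map fr = Matrix.charpoly (Matrix.diagonal (dd a b c)) := by
      rw [hchar, Polynomial.map_map]
      congr 1
      ext x
      rw [RingHom.comp_apply, hfr', ← map_pow, hqdef, FiniteField.pow_card]
    rw [Matrix.charpoly_diagonal, Polynomial.map_prod] at hfix
    simp only [Polynomial.map_sub, Polynomial.map_X, Polynomial.map_C] at hfix
    have := congrArg Polynomial.roots hfix
    rw [Finset.prod_eq_multiset_prod, Finset.prod_eq_multiset_prod] at this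
    rw [show (Finset.univ.val.map fun i => Polynomial.X - Polynomial.C (fr (dd a b c i))) =
        ((Finset.univ.val.map fun i => fr (dd a b c i)).map fun z => Polynomial.X - Polynomial.C z) by
          rw [Multiset.map_map]; rfl,
      show (Finset.univ.val.map fun i => Polynomial.X - Polynomial.C (dd a b c i)) =
        ((Finset.univ.val.map fun i => dd a b c i).map fun z => Polynomial.X - Polynomial.C z) by
          rw [Multiset.map_map]; rfl,
      Polynomial.roots_multiset_prod_X_sub_C, Polynomial.roots_multiset_prod_X_sub_C] at this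
    rw [Multiset.map_map]
    exact this
  have hcnt : ∀ x, cnt a b c x = Multiset.count x (Finset.univ.val.map fun i => dd a b c i) := fun x => by
    rw [cnt, Multiset.count_map]
    rw [Finset.card_def, Finset.filter_val]
    congr 1
    exact Multiset.filter_congr fun i _ => eq_comm
  have hqpos : 0 < q := Fintype.card_pos
  have hS : Stable q a b c := by
    refine ⟨hP, fun x => ?_, fun x hx => fr.injective ?_, hqpos⟩
    · rw [hcnt, hcnt, ← hfr']
      conv_lhs => rw [← hmult]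
      exact Multiset.count_map_eq_count' _ _ fr.injective _
    · rw [hfr', hx, map_one]
  have hne : ¬ (a = 1 ∧ b = 1) := fun ⟨ha, hb⟩ => hs1 (hφi (by
    rw [map_one]
    refine Subtype.ext (Units.ext ?_)
    rw [hφs]
    show _ = (1 : Matrix (Fin 8) (Fin 8) K)
    have hc : c = 1 := by simpa [ha, hb] using hP
    rw [ha, hb, hc, ← Matrix.diagonal_one]
    congr 1
    funext i; fin_cases i <;> simp [dd]))
  have hsA : ∀ {A : ℕ}, a ^ A = 1 → b ^ A = 1 → (h ^ 2 ^ k) ^ A = 1 := fun {A} ea eb => hφi (by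
    rw [map_pow, map_one]
    refine Subtype.ext (Units.ext ?_)
    rw [SubmonoidClass.coe_pow, Units.val_pow_eq_pow_val, hφs, Matrix.diagonal_pow]
    show _ = (1 : Matrix (Fin 8) (Fin 8) K)
    have ec : c ^ A = 1 := by simpa [mul_pow, ea, eb] using congrArg (· ^ A) hP
    rw [← Matrix.diagonal_one]
    congr 1
    funext i; fin_cases i <;> simp [dd, Pi.pow_apply, ea, eb, ec])
  have hcomm : (φ (h ^ n)).1.1 * Matrix.diagonal (dd a b c) = Matrix.diagonal (dd a b c) * (φ (h ^ n)).1.1 := by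
    rw [← hφs]
    exact congrArg (fun z : G2 K => z.1.1) (((Commute.pow_pow_self h n (2 ^ k)).map φ).eq)
  have hvk : (φ (h ^ n)).1.1 ^ 2 ^ k = 1 := by
    have := congrArg (fun z : G2 K => z.1.1) (congrArg φ huK)
    simpa [map_pow] using this
  -- small weight spaces are fixed by powers
  have hfixpow : ∀ t : ℕ, (∀ x ≠ 1, cnt a b c x ≤ 2 ^ t) → (h ^ n) ^ 2 ^ t = 1 := fun t ht => hφi (by
    rw [map_pow, map_one]
    refine eq_one_of_fix _ hP hne fun i hi => ?_
    rw [SubmonoidClass.coe_pow, Units.val_pow_eq_pow_val]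
    refine pow_fix hcomm hvk ?_
    refine le_trans (le_of_eq ?_) (ht _ hi)
    rw [cnt])
  by_cases h3 : ∃ x ≠ 1, 3 ≤ cnt a b c x
  · obtain ⟨x, hx, hx3⟩ := h3
    obtain ⟨e1, e2⟩ := (hS.of_repeat hx (le_trans (by norm_num) hx3)).2 ⟨x, hx, hx3⟩
    exact ⟨12, by simp, split (hsA e1 e2) (hfixpow 2 fun y hy => (hS.cnt_le_three hy).trans (by norm_num))⟩
  push Not at h3
  by_cases h2 : ∃ x ≠ 1, 2 ≤ cnt a b c x
  · obtain ⟨x, hx, hx2⟩ := h2
    obtain ⟨⟨N, hN', e1, e2⟩, -⟩ := hS.of_repeat hx hx2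
    have := split (hsA e1 e2) (hfixpow 1 fun y hy => Nat.lt_succ_iff.1 (h3 y hy))
    rw [pow_one, mul_comm] at this
    rcases hN' with rfl | rfl
    · exact ⟨2 * (q - 1), by simp, this⟩
    · exact ⟨2 * (q + 1), by simp, this⟩
  push Not at h2
  obtain ⟨N, hN', e1, e2⟩ := hS.exponent
  refine ⟨N, by rcases hN' with rfl | rfl | rfl <;> simp, ?_⟩
  simpa using split (hsA e1 e2) (hfixpow 0 fun y hy => Nat.lt_succ_iff.1 (h2 y hy))

end CfsgLib.Lie.G2Spec
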