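import Cfsg.Agent.Lib.Lie.G2.OctSpec

/-!
# Split octonions in any characteristic: norm, automorphisms from `SL₃`, moving idempotents

All automorphisms fix the unit and preserve trace and norm. When two is invertible every element of
trace one and norm zero is the image of the standard idempotent.
-/

set_option autoImplicit false
set_option linter.unusedSectionVars false

namespace CfsgLib.Lie.G2Oct

open Matrix Cfsg.Lie
open CfsgLib.Classical.G2Quat hiding dd

variable {F : Type*} [Field F]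

local notation "O" => Fin 8 → F

/-- The unit. -/
def uu : Fin 8 → F := ![1, 0, 0, 0, 0, 0, 0, 1]

/-- The trace. -/
def tt (x : Fin 8 → F) : F := x 0 + x 7

/-- The norm. -/
def qn (x : Fin 8 → F) : F := x 0 * x 7 - (x 1 * x 4 + x 2 * x 5 + x 3 * x 6)

theorem mul_uu (x : O) : zornMul x uu = x := by
  funext i; fin_cases i <;> simp [zornMul, uu, dot3, cross3]

theorem uu_mul (x : O) : zornMul uu x = x := by
  funext i; fin_cases i <;> simp [zornMul, uu, dot3, cross3]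

theorem sq_eq (x : O) : zornMul x x = tt x • x - qn x • uu := by
  funext i
  fin_cases i <;> simp [zornMul, uu, dot3, cross3, tt, qn] <;> ring

theorem qn_mul (x y : O) : qn (zornMul x y) = qn x * qn y := by
  simp [zornMul, dot3, cross3, qn]
  ring

theorem qn_smul (c : F) (x : O) : qn (c • x) = c ^ 2 * qn x := by
  simp [qn]; ring

theorem tt_smul (c : F) (x : O) : tt (c • x) = c * tt x := by
  simp [tt]; ring

theorem qn_parallel (x y : O) : qn (x + y) + qn (x - y) = 2 * qn x + 2 * qn y := by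
  simp [qn]; ring

theorem tt_sum {ι : Type*} (s : Finset ι) (v : ι → O) : tt (∑ i ∈ s, v i) = ∑ i ∈ s, tt (v i) := by
  simp [tt, Finset.sum_apply, Finset.sum_add_distrib]

theorem g2_ext {g h : G2 F} (e : ∀ x, g.1.1 *ᵥ x = h.1.1 *ᵥ x) : g = h :=
  Subtype.ext (Units.ext (Matrix.ext_of_mulVec_single fun i => e _))

theorem map_uu (g : G2 F) : g.1.1 *ᵥ uu = uu := by
  have h := mem_G2.1 g.2 uu ((g.1⁻¹).1 *ᵥ uu)
  rw [uu_mul, Matrix.mulVec_mulVec, Units.mul_inv, Matrix.one_mulVec, mul_uu] at h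
  exact h.symm

theorem g_inj (g : G2 F) : Function.Injective (fun x : O => g.1.1 *ᵥ x) :=
  Matrix.mulVec_injective_iff_isUnit.2 g.1.isUnit

theorem g_inv (g : G2 F) (x : O) : (g⁻¹).1.1 *ᵥ (g.1.1 *ᵥ x) = x := by
  show (g.1⁻¹).1 *ᵥ _ = x
  rw [Matrix.mulVec_mulVec, Units.inv_mul, Matrix.one_mulVec]

theorem g_mul (g h : G2 F) (x : O) : (g * h).1.1 *ᵥ x = g.1.1 *ᵥ (h.1.1 *ᵥ x) := by
  rw [Matrix.mulVec_mulVec]; rfl

theorem tt_qn (g : G2 F) (x : O) : tt (g.1.1 *ᵥ x) = tt x ∧ qn (g.1.1 *ᵥ x) = qn x := by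
  by_cases hx : ∃ c : F, x = c • uu
  · obtain ⟨c, rfl⟩ := hx
    rw [Matrix.mulVec_smul, map_uu]
    exact ⟨rfl, rfl⟩
  have h := mem_G2.1 g.2 x x
  rw [sq_eq, sq_eq, Matrix.mulVec_sub, Matrix.mulVec_smul, Matrix.mulVec_smul, map_uu] at h
  set y := g.1.1 *ᵥ x
  have h2 : (tt x - tt y) • y = (qn x - qn y) • uu := by
    rw [sub_smul, sub_smul]
    linear_combination (norm := module) h
  by_cases ht : tt x - tt y = 0
  · refine ⟨(sub_eq_zero.1 ht).symm, ?_⟩
    rw [ht, zero_smul, eq_comm, smul_eq_zero] at h2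
    exact (sub_eq_zero.1 (h2.resolve_right fun h0 => one_ne_zero (congrFun h0 0))).symm
  · exfalso
    refine hx ⟨(tt x - tt y)⁻¹ * (qn x - qn y), g_inj g ?_⟩
    show y = g.1.1 *ᵥ _
    rw [Matrix.mulVec_smul, map_uu, ← smul_smul, ← h2, smul_smul, inv_mul_cancel₀ ht, one_smul]

/-! ### Automorphisms from three by three matrices -/

/-- The map on the algebra attached to a matrix of size three. -/
def actT (T : Matrix (Fin 3) (Fin 3) F) : (Fin 8 → F) →ₗ[F] (Fin 8 → F) where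
  toFun x := ![x 0, (T *ᵥ zA F x) 0, (T *ᵥ zA F x) 1, (T *ᵥ zA F x) 2,
    (T.adjugateᵀ *ᵥ zB F x) 0, (T.adjugateᵀ *ᵥ zB F x) 1, (T.adjugateᵀ *ᵥ zB F x) 2, x 7]
  map_add' x y := by funext i; fin_cases i <;> simp [Matrix.mulVec, dotProduct, Fin.sum_univ_three] <;> ring
  map_smul' c x := by funext i; fin_cases i <;> simp [Matrix.mulVec, dotProduct, Fin.sum_univ_three] <;> ring

theorem actT_apply (T : Matrix (Fin 3) (Fin 3) F) (x : O) :
    actT T x = ![x 0, (T *ᵥ zA F x) 0, (T *ᵥ zA F x) 1, (T *ᵥ zA F x) 2,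
      (T.adjugateᵀ *ᵥ zB F x) 0, (T.adjugateᵀ *ᵥ zB F x) 1, (T.adjugateᵀ *ᵥ zB F x) 2, x 7] := rfl

theorem dot_act {T : Matrix (Fin 3) (Fin 3) F} (hT : T.det = 1) (u v : Fin 3 → F) :
    dot3 (T *ᵥ u) (T.adjugateᵀ *ᵥ v) = dot3 u v := by
  have h : (T *ᵥ u) ⬝ᵥ (T.adjugateᵀ *ᵥ v) = u ⬝ᵥ v := by
    rw [Matrix.dotProduct_mulVec, Matrix.vecMul_transpose, Matrix.mulVec_mulVec, Matrix.adjugate_mul, hT,
      one_smul, Matrix.one_mulVec]
  simpa [dot3, dotProduct, Fin.sum_univ_three] using h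

theorem cross_act (T : Matrix (Fin 3) (Fin 3) F) (u v : Fin 3 → F) :
    cross3 (T *ᵥ u) (T *ᵥ v) = T.adjugateᵀ *ᵥ cross3 u v := by
  funext i
  fin_cases i <;>
    simp [cross3, Matrix.mulVec, dotProduct, Fin.sum_univ_three, Matrix.adjugate_fin_three] <;> ring

theorem cross_adj {T : Matrix (Fin 3) (Fin 3) F} (hT : T.det = 1) (u v : Fin 3 → F) :
    cross3 (T.adjugateᵀ *ᵥ u) (T.adjugateᵀ *ᵥ v) = T *ᵥ cross3 u v := by
  rw [cross_act, Matrix.adjugate_transpose, Matrix.transpose_transpose, Matrix.adjugate_adjugate T (by simp)]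
  simp [hT]

theorem actT_mul {T : Matrix (Fin 3) (Fin 3) F} (hT : T.det = 1) (x y : O) :
    actT T (zornMul x y) = zornMul (actT T x) (actT T y) := by
  have eA : ∀ z : O, zA F (actT T z) = T *ᵥ zA F z := fun z => by
    funext i; fin_cases i <;> rfl
  have eB : ∀ z : O, zB F (actT T z) = T.adjugateᵀ *ᵥ zB F z := fun z => by
    funext i; fin_cases i <;> rfl
  have e0 : ∀ z : O, actT T z 0 = z 0 := fun z => rfl
  have e7 : ∀ z : O, actT T z 7 = z 7 := fun z => rfl
  have mA : zA F (zornMul x y) = x 0 • zA F y + y 7 • zA F x - cross3 (zB F x) (zB F y) := by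
    funext i; fin_cases i <;> rfl
  have mB : zB F (zornMul x y) = y 0 • zB F x + x 7 • zB F y + cross3 (zA F x) (zA F y) := by
    funext i; fin_cases i <;> rfl
  rw [actT_apply, mA, mB, Matrix.mulVec_sub, Matrix.mulVec_add, Matrix.mulVec_add, Matrix.mulVec_add,
    Matrix.mulVec_smul, Matrix.mulVec_smul, Matrix.mulVec_smul, Matrix.mulVec_smul,
    ← cross_adj hT, ← cross_act]
  funext i
  show _ = zornMul (actT T x) (actT T y) i
  unfold zornMul
  simp only [eA, eB, e0, e7, dot_act hT]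
  fin_cases i <;> simp [dot3]
  · have := dot_act hT (zA F y) (zB F x)
    simp [dot3] at this
    linear_combination -this

theorem exists_G2_T {T : Matrix (Fin 3) (Fin 3) F} (hT : T.det = 1) :
    ∃ g : G2 F, ∀ x, g.1.1 *ᵥ x = actT T x := by
  have hinj : Function.Injective (actT T) := by
    refine (injective_iff_map_eq_zero _).2 fun x hx => ?_
    have hu : ∀ S : Matrix (Fin 3) (Fin 3) F, S.det = 1 → ∀ v, S *ᵥ v = 0 → v = 0 := fun S hS v hv =>
      Matrix.eq_zero_of_mulVec_eq_zero (by rw [hS]; exact one_ne_zero) hv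
    have ha : zA F x = 0 := hu T hT _ (by funext i; fin_cases i; exacts [congrFun hx 1, congrFun hx 2, congrFun hx 3])
    have hb : zB F x = 0 := hu T.adjugateᵀ (by rw [Matrix.det_transpose, Matrix.det_adjugate, hT, one_pow]) _
      (by funext i; fin_cases i; exacts [congrFun hx 4, congrFun hx 5, congrFun hx 6])
    funext i
    fin_cases i
    exacts [congrFun hx 0, congrFun ha 0, congrFun ha 1, congrFun ha 2, congrFun hb 0, congrFun hb 1, congrFun hb 2,
      congrFun hx 7]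
  let Tm : GL (Fin 8) F := Matrix.GeneralLinearGroup.toLin.symm
    (LinearMap.GeneralLinearGroup.ofLinearEquiv (LinearEquiv.ofInjectiveEndo (actT T) hinj))
  have hTm : ∀ x, Tm.1 *ᵥ x = actT T x := fun x => by
    have h := (Matrix.GeneralLinearGroup.toLin (n := Fin 8) (R := F)).apply_symm_apply
      (LinearMap.GeneralLinearGroup.ofLinearEquiv (LinearEquiv.ofInjectiveEndo (actT T) hinj))
    exact congrArg (fun L : LinearMap.GeneralLinearGroup F (Fin 8 → F) => L.val x) h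
  exact ⟨⟨Tm, mem_G2.2 fun x y => by rw [hTm, hTm, hTm, actT_mul hT]⟩, hTm⟩

theorem actT_comp (T T' : Matrix (Fin 3) (Fin 3) F) (x : Fin 8 → F) :
    actT T (actT T' x) = actT (T * T') x := by
  have eA : zA F (actT T' x) = T' *ᵥ zA F x := by funext i; fin_cases i <;> rfl
  have eB : zB F (actT T' x) = T'.adjugateᵀ *ᵥ zB F x := by funext i; fin_cases i <;> rfl
  rw [actT_apply T, actT_apply (T * T'), eA, eB, Matrix.mulVec_mulVec, Matrix.mulVec_mulVec,
    Matrix.adjugate_mul_distrib, Matrix.transpose_mul]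
  rfl

/-- A matrix with prescribed first two rows. -/
theorem exists_T {a r0 r1 : Fin 3 → F} (h0 : dot3 r0 a = 1) (h1 : dot3 r1 a = 0) (hr : r1 ≠ 0) :
    ∃ T : Matrix (Fin 3) (Fin 3) F, T.det = 1 ∧ T *ᵥ a = ![1, 0, 0] ∧
      T.adjugateᵀ *ᵥ r0 = ![1, 0, 0] ∧ T.adjugateᵀ *ᵥ r1 = ![0, 1, 0] := by
  obtain ⟨i, hi⟩ := Function.ne_iff.1 hr
  simp only [Pi.zero_apply] at hi
  let u : Fin 3 → F := Pi.single i (r1 i)⁻¹
  have hu : dot3 r1 u = 1 := by fin_cases i <;> simp at hi <;> simp [dot3, u, hi]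
  let r2 := cross3 a u
  let T : Matrix (Fin 3) (Fin 3) F := Matrix.of ![r0, r1, r2]
  have hd : T.det = 1 := by
    simp only [dot3] at h0 h1 hu
    simp [T, r2, Matrix.det_fin_three, cross3]
    linear_combination (r1 0 * u 0 + r1 1 * u 1 + r1 2 * u 2) * h0 -
      (r0 0 * u 0 + r0 1 * u 1 + r0 2 * u 2) * h1 + hu
  have key : ∀ w : Fin 3 → F, T.adjugateᵀ *ᵥ (Tᵀ *ᵥ w) = w := fun w => by
    rw [Matrix.mulVec_mulVec, ← Matrix.transpose_mul, Matrix.mul_adjugate, hd, one_smul, Matrix.transpose_one,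
      Matrix.one_mulVec]
  refine ⟨T, hd, ?_, ?_, ?_⟩
  · simp only [dot3] at h0 h1
    funext j
    fin_cases j <;> simp [T, r2, cross3, Matrix.mulVec, dotProduct, Fin.sum_univ_three] <;>
      first | linear_combination h0 | linear_combination h1 | ring1
  · rw [← key ![1, 0, 0]]
    congr 1
    funext j
    fin_cases j <;> simp [T, Matrix.mulVec, dotProduct, Fin.sum_univ_three]
  · rw [← key ![0, 1, 0]]
    congr 1
    funext j
    fin_cases j <;> simp [T, Matrix.mulVec, dotProduct, Fin.sum_univ_three]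

theorem exists_perp {a : Fin 3 → F} (ha : a ≠ 0) : ∃ r : Fin 3 → F, r ≠ 0 ∧ dot3 r a = 0 := by
  by_cases h : a 0 = 0
  · exact ⟨![1, 0, 0], fun h' => one_ne_zero (congrFun h' 0), by simp [dot3, h]⟩
  · exact ⟨![-a 1, a 0, 0], fun h' => h (congrFun h' 1), by simp [dot3]; ring⟩

theorem exists_dual {a : Fin 3 → F} (ha : a ≠ 0) : ∃ r : Fin 3 → F, dot3 r a = 1 := by
  obtain ⟨i, hi⟩ := Function.ne_iff.1 ha
  exact ⟨Pi.single i (a i)⁻¹, by fin_cases i <;> simp at hi <;> simp [dot3, hi]⟩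

/-- In the quaternion block. -/
theorem move_block {e : O} (h2 : e 2 = 0) (h3 : e 3 = 0) (h5 : e 5 = 0) (h6 : e 6 = 0) (ht : tt e = 1)
    (hn : qn e = 0) : ∃ g : G2 F, g.1.1 *ᵥ e = Pi.single 0 1 := by
  let M : Matrix (Fin 2) (Fin 2) F := !![e 0, e 4; e 1, e 7]
  let Cm : Matrix (Fin 2) (Fin 2) F := !![1, 0; 0, 0]
  have ht' : e 0 + e 7 = 1 := ht
  have hn' : e 0 * e 7 - e 1 * e 4 = 0 := by rw [← hn]; simp [qn, h2, h3, h5, h6]
  obtain ⟨P, hMP⟩ : ∃ P : GL (Fin 2) F, M * P.1 = P.1 * Cm := by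
    by_cases h0 : e 0 = 0
    · refine ⟨Matrix.GeneralLinearGroup.mkOfDetNeZero !![e 4, 1; 1, -e 1] ?_, ?_⟩
      · rw [Matrix.det_fin_two_of]
        intro hd
        exact one_ne_zero (show (1 : F) = 0 by linear_combination -hd + hn' - e 7 * h0)
      · ext i j
        fin_cases i <;> fin_cases j <;>
          simp [M, Cm, Matrix.GeneralLinearGroup.mkOfDetNeZero, Matrix.mul_apply, Fin.sum_univ_two] <;>
          first
            | linear_combination e 4 * h0
            | exact Or.inl h0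
            | linear_combination h0 + hn' - e 7 * h0
            | linear_combination ht' - hn' + (e 7 - 1) * h0
            | linear_combination e 1 * h0
            | linear_combination -e 1 * ht' + e 1 * h0
    · refine ⟨Matrix.GeneralLinearGroup.mkOfDetNeZero !![e 0, -e 4; e 1, e 0] ?_, ?_⟩
      · rw [Matrix.det_fin_two_of]
        intro hd
        exact h0 (by linear_combination hd + hn' - e 0 * ht')
      · ext i j
        fin_cases i <;> fin_cases j <;>
          simp [M, Cm, Matrix.GeneralLinearGroup.mkOfDetNeZero, Matrix.mul_apply, Fin.sum_univ_two] <;>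
          first
            | ring1
            | linear_combination e 0 * ht' - hn'
            | linear_combination e 1 * ht'
            | linear_combination hn'
  refine ⟨Phi ⟨(P⁻¹, P⁻¹), mem_Pairs.2 rfl⟩, L.injective ?_⟩
  rw [Phi_mulVec]
  have hL : L e = (M, 0) := by
    refine Prod.ext rfl ?_
    ext i j; fin_cases i <;> fin_cases j <;> simp [L, h2, h3, h5, h6]
  have hR : L (Pi.single 0 1 : O) = (Cm, 0) := by
    refine Prod.ext ?_ ?_ <;> ext i j <;> fin_cases i <;> fin_cases j <;> simp [L, Cm]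
  rw [hL, hR]
  refine Prod.ext ?_ (by simp [actL])
  show (P⁻¹).1 * M * ((P⁻¹)⁻¹).1 = Cm
  rw [inv_inv, Matrix.mul_assoc, hMP, ← Matrix.mul_assoc, Units.inv_mul, Matrix.one_mul]

/-- With the vectors in position for the block, after a matrix. -/
theorem move_dot {e : O} (ht : tt e = 1) (hn : qn e = 0) (hd : dot3 (zA F e) (zB F e) ≠ 0 ∨ zA F e = 0 ∨ zB F e = 0) :
    ∃ g : G2 F, g.1.1 *ᵥ e = Pi.single 0 1 := by
  by_cases hboth : zA F e = 0 ∧ zB F e = 0
  · exact move_block (congrFun hboth.1 1) (congrFun hboth.1 2) (congrFun hboth.2 1) (congrFun hboth.2 2) ht hn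
  obtain ⟨T, hT, c, d, hA, hB⟩ : ∃ (T : Matrix (Fin 3) (Fin 3) F), T.det = 1 ∧ ∃ c d : F,
      T *ᵥ zA F e = ![c, 0, 0] ∧ T.adjugateᵀ *ᵥ zB F e = ![d, 0, 0] := by
    by_cases ha : zA F e = 0
    · have hb : zB F e ≠ 0 := fun h => hboth ⟨ha, h⟩
      obtain ⟨a', ha'⟩ := exists_dual hb
      have hd' : dot3 (zB F e) a' = 1 := by rw [← ha']; simp [dot3]; ring
      obtain ⟨r1, hr1, hr1'⟩ := exists_perp (a := a') (fun h => by simp [dot3, h] at hd')
      obtain ⟨T, hT, -, h0, -⟩ := exists_T hd' hr1' hr1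
      exact ⟨T, hT, 0, 1, by rw [ha, Matrix.mulVec_zero]; funext j; fin_cases j <;> rfl, h0⟩
    obtain ⟨r1, hr1, hr1'⟩ := exists_perp ha
    by_cases hb : zB F e = 0
    · obtain ⟨r0, hr0⟩ := exists_dual ha
      obtain ⟨T, hT, h, -, -⟩ := exists_T hr0 hr1' hr1
      exact ⟨T, hT, 1, 0, h, by rw [hb, Matrix.mulVec_zero]; funext j; fin_cases j <;> rfl⟩
    have hd0 := (hd.resolve_right (fun h => h.elim ha hb))
    set d := dot3 (zA F e) (zB F e) with hdd
    obtain ⟨T, hT, h, h0, -⟩ := exists_T (r0 := d⁻¹ • zB F e) (a := zA F e) (by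
      rw [← inv_mul_cancel₀ hd0]; simp [dot3, hdd]; ring) hr1' hr1
    refine ⟨T, hT, 1, d, h, ?_⟩
    rw [Matrix.mulVec_smul, inv_smul_eq_iff₀ hd0] at h0
    rw [h0]
    funext j; fin_cases j <;> simp
  obtain ⟨g, hg⟩ := exists_G2_T hT
  obtain ⟨g', hg'⟩ := move_block (e := g.1.1 *ᵥ e)
    (by rw [hg, actT_apply]; exact congrFun hA 1) (by rw [hg, actT_apply]; exact congrFun hA 2)
    (by rw [hg, actT_apply]; exact congrFun hB 1) (by rw [hg, actT_apply]; exact congrFun hB 2)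
    (by rw [(tt_qn g e).1, ht]) (by rw [(tt_qn g e).2, hn])
  exact ⟨g' * g, by rw [g_mul, hg']⟩

/-- A trace one element of norm zero is the image of the standard idempotent. -/
theorem move (h2F : (2 : F) ≠ 0) {e : O} (ht : tt e = 1) (hn : qn e = 0) :
    ∃ g : G2 F, g.1.1 *ᵥ e = Pi.single 0 1 := by
  by_cases hd : dot3 (zA F e) (zB F e) ≠ 0 ∨ zA F e = 0 ∨ zB F e = 0
  · exact move_dot ht hn hd
  push Not at hd
  obtain ⟨hd0, ha, hb⟩ := hd
  obtain ⟨r0, hr0⟩ := exists_dual ha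
  obtain ⟨T, hT, hA, -, hB⟩ := exists_T (a := zA F e) hr0 (r1 := zB F e) (by rw [← hd0]; simp [dot3]; ring) hb
  obtain ⟨g, hg⟩ := exists_G2_T hT
  have ht' : e 0 + e 7 = 1 := ht
  have hαβ : e 0 * e 7 = 0 := by
    have h0 : e 1 * e 4 + e 2 * e 5 + e 3 * e 6 = 0 := by rw [← hd0]; simp [dot3]
    simp only [qn] at hn
    linear_combination hn + h0
  set t := e 0 - e 7 with htdef
  have htt : t * t = 1 := by rw [htdef]; linear_combination (e 0 + e 7 + 1) * ht' - 4 * hαβ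
  let Q : GL (Fin 2) F := Matrix.GeneralLinearGroup.mkOfDetNeZero !![1, t; 0, 1]
    (by rw [Matrix.det_fin_two_of]; simp)
  have hQi : (Q⁻¹).1 = !![1, -t; 0, 1] := by
    refine left_inv_eq_right_inv (a := Q.1) (Units.inv_mul Q) ?_
    ext i j; fin_cases i <;> fin_cases j <;> simp [Q, Matrix.mul_apply, Fin.sum_univ_two]
  set f := Phi ⟨(Q, Q), mem_Pairs.2 rfl⟩ with hf
  have hfe : f.1.1 *ᵥ (g.1.1 *ᵥ e) =
      ![e 0 + t, 1, 0, -t, t * e 7 - t * (e 0 + t), 1, 0, -t + e 7] := by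
    refine L.injective ?_
    have hge : g.1.1 *ᵥ e = ![e 0, 1, 0, 0, 0, 1, 0, e 7] := by
      rw [hg, actT_apply, hA, hB]
      simp
    rw [hf, Phi_mulVec, hge]
    refine Prod.ext ?_ ?_
    · show Q.1 * (L ![e 0, 1, 0, 0, 0, 1, 0, e 7]).1 * (Q⁻¹).1 = _
      rw [hQi]
      ext i j; fin_cases i <;> fin_cases j <;> simp [L, Q, Matrix.mul_apply, Fin.sum_univ_two] <;> ring
    · show Q.1 * (L ![e 0, 1, 0, 0, 0, 1, 0, e 7]).2 * (Q⁻¹).1 = _
      rw [hQi]
      ext i j; fin_cases i <;> fin_cases j <;> simp [L, Q, Matrix.mul_apply, Fin.sum_univ_two]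
  obtain ⟨h, hh⟩ := move_dot (e := f.1.1 *ᵥ (g.1.1 *ᵥ e)) (by rw [(tt_qn f _).1, (tt_qn g _).1, ht])
    (by rw [(tt_qn f _).2, (tt_qn g _).2, hn]) (Or.inl (by
    rw [hfe]
    simp [dot3]
    intro h0
    exact h2F (by linear_combination -h0 - 2 * htt)))
  exact ⟨h * f * g, by rw [g_mul, g_mul, hh]⟩

/-- fixing the standard idempotent means acting by a matrix of size three -/
theorem exists_actT (s : G2 F) (h0 : s.1.1 *ᵥ (Pi.single 0 1) = Pi.single 0 1) :
    ∃ T : Matrix (Fin 3) (Fin 3) F, T.det = 1 ∧ ∀ x, s.1.1 *ᵥ x = actT T x := by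
  classical
  set A := s.1.1 with hA
  have hm := mem_G2.1 s.2
  have hu : A *ᵥ uu = uu := map_uu s
  have hδ : (Pi.single 7 1 : Fin 8 → F) = uu - Pi.single 0 1 := by
    funext i; fin_cases i <;> simp [uu]
  have h7 : A *ᵥ (Pi.single 7 1) = Pi.single 7 1 := by rw [hδ, Matrix.mulVec_sub, hu, h0]
  -- the two three-dimensional spaces
  have hL : ∀ x : Fin 8 → F, zornMul (Pi.single 0 1) x = ![x 0, x 1, x 2, x 3, 0, 0, 0, 0] := fun x => by
    funext i; fin_cases i <;> simp [zornMul, dot3, cross3]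
  have hR : ∀ x : Fin 8 → F, zornMul x (Pi.single 0 1) = ![x 0, 0, 0, 0, x 4, x 5, x 6, 0] := fun x => by
    funext i; fin_cases i <;> simp [zornMul, dot3, cross3]
  have spA : ∀ u : Fin 3 → F, ∀ i : Fin 8, i = 0 ∨ i = 4 ∨ i = 5 ∨ i = 6 ∨ i = 7 →
      (A *ᵥ ![0, u 0, u 1, u 2, 0, 0, 0, 0]) i = 0 := fun u => by
    set v : Fin 8 → F := ![0, u 0, u 1, u 2, 0, 0, 0, 0] with hv
    have e1 : zornMul (Pi.single 0 1) (A *ᵥ v) = A *ᵥ v := by
      conv_lhs => rw [← h0]
      rw [← hm, hL]; rfl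
    have e2 : zornMul (A *ᵥ v) (Pi.single 0 1) = 0 := by
      conv_lhs => rw [← h0]
      rw [← hm, hR, show (![v 0, 0, 0, 0, v 4, v 5, v 6, 0] : Fin 8 → F) = 0 by
        funext i; fin_cases i <;> simp [hv], Matrix.mulVec_zero]
    rw [hL] at e1; rw [hR] at e2
    rintro i (rfl | rfl | rfl | rfl | rfl)
    exacts [congrFun e2 0, congrFun e2 4, congrFun e2 5, congrFun e2 6, (congrFun e1 7).symm]
  have spB : ∀ u : Fin 3 → F, ∀ i : Fin 8, i = 0 ∨ i = 1 ∨ i = 2 ∨ i = 3 ∨ i = 7 →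
      (A *ᵥ ![0, 0, 0, 0, u 0, u 1, u 2, 0]) i = 0 := fun u => by
    set v : Fin 8 → F := ![0, 0, 0, 0, u 0, u 1, u 2, 0] with hv
    have e1 : zornMul (A *ᵥ v) (Pi.single 0 1) = A *ᵥ v := by
      conv_lhs => rw [← h0]
      rw [← hm, hR]; rfl
    have e2 : zornMul (Pi.single 0 1) (A *ᵥ v) = 0 := by
      conv_lhs => rw [← h0]
      rw [← hm, hL, show (![v 0, v 1, v 2, v 3, 0, 0, 0, 0] : Fin 8 → F) = 0 by
        funext i; fin_cases i <;> simp [hv], Matrix.mulVec_zero]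
    rw [hR] at e1; rw [hL] at e2
    rintro i (rfl | rfl | rfl | rfl | rfl)
    exacts [congrFun e2 0, congrFun e2 1, congrFun e2 2, congrFun e2 3, (congrFun e1 7).symm]
  let T : Matrix (Fin 3) (Fin 3) F := Matrix.of fun i j =>
    ![![A 1 1, A 1 2, A 1 3], ![A 2 1, A 2 2, A 2 3], ![A 3 1, A 3 2, A 3 3]] i j
  let U : Matrix (Fin 3) (Fin 3) F := Matrix.of fun i j =>
    ![![A 4 4, A 4 5, A 4 6], ![A 5 4, A 5 5, A 5 6], ![A 6 4, A 6 5, A 6 6]] i j
  have hTa : ∀ u : Fin 3 → F, A *ᵥ ![0, u 0, u 1, u 2, 0, 0, 0, 0] =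
      ![0, (T *ᵥ u) 0, (T *ᵥ u) 1, (T *ᵥ u) 2, 0, 0, 0, 0] := fun u => by
    funext i
    fin_cases i
    · exact spA u 0 (by simp)
    · simp [T, Matrix.mulVec, dotProduct, Fin.sum_univ_eight, Fin.sum_univ_three]
    · simp [T, Matrix.mulVec, dotProduct, Fin.sum_univ_eight, Fin.sum_univ_three]
    · simp [T, Matrix.mulVec, dotProduct, Fin.sum_univ_eight, Fin.sum_univ_three]
    · exact spA u 4 (by simp)
    · exact spA u 5 (by simp)
    · exact spA u 6 (by simp)
    · exact spA u 7 (by simp)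
  have hUb : ∀ u : Fin 3 → F, A *ᵥ ![0, 0, 0, 0, u 0, u 1, u 2, 0] =
      ![0, 0, 0, 0, (U *ᵥ u) 0, (U *ᵥ u) 1, (U *ᵥ u) 2, 0] := fun u => by
    funext i
    fin_cases i
    · exact spB u 0 (by simp)
    · exact spB u 1 (by simp)
    · exact spB u 2 (by simp)
    · exact spB u 3 (by simp)
    · simp [U, Matrix.mulVec, dotProduct, Fin.sum_univ_eight, Fin.sum_univ_three]
    · simp [U, Matrix.mulVec, dotProduct, Fin.sum_univ_eight, Fin.sum_univ_three]
    · simp [U, Matrix.mulVec, dotProduct, Fin.sum_univ_eight, Fin.sum_univ_three]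
    · exact spB u 7 (by simp)
  -- the invariance of the scalar and vector products
  have hdot : ∀ u w : Fin 3 → F, dot3 (T *ᵥ u) (U *ᵥ w) = dot3 u w := fun u w => by
    have e := congrFun (hm ![0, u 0, u 1, u 2, 0, 0, 0, 0] ![0, 0, 0, 0, w 0, w 1, w 2, 0]) 0
    rw [hTa, hUb, show zornMul ![0, u 0, u 1, u 2, 0, 0, 0, 0] ![0, 0, 0, 0, w 0, w 1, w 2, 0] =
      dot3 u w • (Pi.single 0 1 : Fin 8 → F) by
        funext i; fin_cases i <;> simp [zornMul, dot3, cross3], Matrix.mulVec_smul, h0] at e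
    simp [zornMul, dot3] at e
    simpa [dot3] using e.symm
  have hcr : ∀ u w : Fin 3 → F, cross3 (T *ᵥ u) (T *ᵥ w) = U *ᵥ cross3 u w := fun u w => by
    have e := hm ![0, u 0, u 1, u 2, 0, 0, 0, 0] ![0, w 0, w 1, w 2, 0, 0, 0, 0]
    rw [hTa, hTa, show zornMul ![0, u 0, u 1, u 2, 0, 0, 0, 0] ![0, w 0, w 1, w 2, 0, 0, 0, 0] =
      ![0, 0, 0, 0, (cross3 u w) 0, (cross3 u w) 1, (cross3 u w) 2, 0] by
        funext i; fin_cases i <;> simp [zornMul, dot3, cross3], hUb] at e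
    funext i
    fin_cases i
    · simpa [zornMul, cross3] using (congrFun e 4).symm
    · simpa [zornMul, cross3] using (congrFun e 5).symm
    · simpa [zornMul, cross3] using (congrFun e 6).symm
  have hdet : T.det = 1 := by
    have h := hdot ![1, 0, 0] (cross3 ![0, 1, 0] ![0, 0, 1])
    rw [← hcr] at h
    simp [dot3, cross3, Matrix.mulVec, dotProduct, Fin.sum_univ_three] at h
    rw [Matrix.det_fin_three]
    linear_combination h
  have hUT : U = T.adjugateᵀ := by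
    have h : Tᵀ * U = 1 := by
      ext i j
      have := hdot (Pi.single i 1) (Pi.single j 1)
      simp [dot3, Matrix.mulVec, dotProduct, Fin.sum_univ_three] at this
      rw [Matrix.mul_apply, Fin.sum_univ_three]
      fin_cases i <;> fin_cases j <;> simpa [Matrix.transpose_apply] using this
    calc U = (T.adjugateᵀ * Tᵀ) * U := by
          rw [← Matrix.transpose_mul, Matrix.mul_adjugate, hdet, one_smul, Matrix.transpose_one, Matrix.one_mul]
      _ = T.adjugateᵀ := by rw [Matrix.mul_assoc, h, Matrix.mul_one]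
  refine ⟨T, hdet, fun x => ?_⟩
  have hx : x = x 0 • (Pi.single 0 1 : Fin 8 → F) + x 7 • (Pi.single 7 1 : Fin 8 → F) +
      (![0, zA F x 0, zA F x 1, zA F x 2, 0, 0, 0, 0] + ![0, 0, 0, 0, zB F x 0, zB F x 1, zB F x 2, 0]) := by
    funext i; fin_cases i <;> simp
  conv_lhs => rw [hx]
  rw [Matrix.mulVec_add, Matrix.mulVec_add, Matrix.mulVec_add, Matrix.mulVec_smul, Matrix.mulVec_smul,
    h0, h7, hTa, hUb, hUT, actT_apply]
  funext i
  fin_cases i <;> simp

end CfsgLib.Lie.G2Oct
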