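import Cfsg.Agent.Lib.Lie.G2.EvenWeights

/-!
# Weights of the natural module of `G₂` in odd characteristic that are stable under a Frobenius power
-/

set_option autoImplicit false
set_option linter.unusedSectionVars false

namespace CfsgLib.Lie.G2OddWeights

open CfsgLib.Lie.G2Weights

variable {K : Type*} [Field K] {q : ℕ} {a b c : K}

/-- a weight is one or two weights agree -/
def Rep (a b c : K) : Prop := a = 1 ∨ b = 1 ∨ c = 1 ∨ a = b ∨ a = c ∨ b = c

/-- a weight equal to one -/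
theorem of_one (h : Stable q a b c) (hc : c = 1) :
    ∃ N, (N = q - 1 ∨ N = q + 1) ∧ a ^ N = 1 ∧ b ^ N = 1 := by
  classical
  obtain ⟨ha0, -, -⟩ := h.ne_zero
  have hb : b = a⁻¹ := eq_inv_of_mul_eq_one_right (by simpa [hc] using h.prod)
  rcases eq_or_ne a 1 with rfl | ha1
  · exact ⟨q + 1, Or.inr rfl, one_pow _, by simp [hb]⟩
  have hx : a ^ q ≠ 1 := fun e => ha1 (h.inj a e)
  have hpos : 0 < cnt a b c (a ^ q) := by
    rw [h.stab, cnt_eq, if_pos rfl]; omega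
  have hcase : a ^ q = a ∨ a ^ q = a⁻¹ := by
    by_contra hno
    push Not at hno
    rw [cnt_eq, hb, hc] at hpos
    simp only [inv_inv, inv_one, hx.symm, hno.1.symm, hno.2.symm, if_false] at hpos
    omega
  rw [hb]
  rcases hcase with e | e
  · exact ⟨q - 1, Or.inl rfl, pow_sub_one ha0 h.pos e,
      by rw [inv_pow, pow_sub_one ha0 h.pos e, inv_one]⟩
  · exact ⟨q + 1, Or.inr rfl, pow_add_one ha0 e, by rw [inv_pow, pow_add_one ha0 e, inv_one]⟩

theorem eq_of_pow_eq (h : Stable q a b c) {x y : K} (hy : y ≠ 0) (e : x ^ q = y ^ q) : x = y := by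
  have := h.inj (x / y) (by rw [div_pow, e, div_self (pow_ne_zero _ hy)])
  rwa [div_eq_one_iff_eq hy] at this

/-- two equal weights -/
theorem of_eq (h : Stable q a b c) (hq : Odd q) (hab : a = b) :
    ∃ N, (N = q - 1 ∨ N = q + 1) ∧ a ^ N = 1 ∧ b ^ N = 1 := by
  classical
  subst hab
  by_cases hc1 : c = 1
  · exact of_one h hc1
  obtain ⟨ha0, -, hc0⟩ := h.ne_zero
  rcases eq_or_ne a 1 with rfl | ha1
  · exact ⟨q + 1, Or.inr rfl, one_pow _, one_pow _⟩
  have hx : a ^ q ≠ 1 := fun e => ha1 (h.inj a e)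
  have hcase : a ^ q = a ∨ a ^ q = a⁻¹ := by
    by_contra hno
    push Not at hno
    have h2 : 2 ≤ cnt a a c (a ^ q) := by
      rw [h.stab, cnt_eq, if_pos rfl]; omega
    rw [cnt_eq, if_neg hx.symm, if_neg hno.1.symm, if_neg hno.2.symm] at h2
    have hcc : c = a ^ q ∧ c⁻¹ = a ^ q := by
      split_ifs at h2 with e e'
      · exact ⟨e, e'⟩
      all_goals omega
    have hc2 : c * c = 1 := by
      nth_rw 1 [hcc.1, ← hcc.2]
      exact inv_mul_cancel₀ hc0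
    have hc' : c = -1 := (mul_self_eq_one_iff.1 hc2).resolve_left hc1
    have ha' : a = -1 := eq_of_pow_eq h (neg_ne_zero.2 one_ne_zero) (by rw [← hcc.1, hc', hq.neg_one_pow])
    refine hc1 ?_
    have hp := h.prod
    rwa [ha', neg_mul_neg, one_mul, one_mul] at hp
  rcases hcase with e | e
  · exact ⟨q - 1, Or.inl rfl, pow_sub_one ha0 h.pos e, pow_sub_one ha0 h.pos e⟩
  · exact ⟨q + 1, Or.inr rfl, pow_add_one ha0 e, pow_add_one ha0 e⟩

theorem third {x y z : K} {N : ℕ} (h : x * y * z = 1) (hx : x ^ N = 1) (hy : y ^ N = 1) : z ^ N = 1 := by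
  have := congrArg (· ^ N) h
  simpa [mul_pow, hx, hy] using this

/-- a repeated weight forces the exponent `q ± 1` -/
theorem of_rep (h : Stable q a b c) (hq : Odd q) (hR : Rep a b c) :
    ∃ N, (N = q - 1 ∨ N = q + 1) ∧ a ^ N = 1 ∧ b ^ N = 1 := by
  have hP := h.prod
  rcases hR with e | e | e | e | e | e
  · obtain ⟨N, hN, e1, -⟩ := of_one h.swap₁.swap₂ e
    exact ⟨N, hN, by rw [e, one_pow], e1⟩
  · obtain ⟨N, hN, e1, -⟩ := of_one h.swap₂ e
    exact ⟨N, hN, e1, by rw [e, one_pow]⟩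
  · exact of_one h e
  · exact of_eq h hq e
  · obtain ⟨N, hN, e1, e2⟩ := of_eq h.swap₂ hq e
    exact ⟨N, hN, e1, third h.swap₂.prod e1 e2⟩
  · obtain ⟨N, hN, e1, e2⟩ := of_eq h.swap₁.swap₂ hq e
    exact ⟨N, hN, third h.swap₁.swap₂.prod e1 e2, e1⟩

/-- three weights from distinct pairs with product one have equal signs -/
theorem signs {A B C X Y Z : K} (hA : A ≠ 1) (hB : B ≠ 1) (hC : C ≠ 1) (hA' : A ≠ -1) (hB' : B ≠ -1) (hC' : C ≠ -1) (h : A * B * C = 1)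
    (hX : X = A ∨ X = A⁻¹) (hY : Y = B ∨ Y = B⁻¹) (hZ : Z = C ∨ Z = C⁻¹) (hP : X * Y * Z = 1) :
    (X = A ∧ Y = B ∧ Z = C) ∨ (X = A⁻¹ ∧ Y = B⁻¹ ∧ Z = C⁻¹) := by
  have hA0 : A ≠ 0 := by rintro rfl; simp at h
  have hB0 : B ≠ 0 := by rintro rfl; simp at h
  have hC0 : C ≠ 0 := by rintro rfl; simp at h
  rcases hX with hX | hX <;> rcases hY with hY | hY <;> rcases hZ with hZ | hZ <;>
    rw [hX, hY, hZ] at hP
  · exact Or.inl ⟨hX, hY, hZ⟩
  · refine absurd ((mul_self_eq_one_iff.1 ?_).resolve_right hC') hC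
    field_simp at hP
    linear_combination h - C * hP
  · refine absurd ((mul_self_eq_one_iff.1 ?_).resolve_right hB') hB
    field_simp at hP
    linear_combination h - B * hP
  · refine absurd ((mul_self_eq_one_iff.1 ?_).resolve_right hA') hA
    field_simp at hP
    linear_combination h + A * hP
  · refine absurd ((mul_self_eq_one_iff.1 ?_).resolve_right hA') hA
    field_simp at hP
    linear_combination h - A * hP
  · refine absurd ((mul_self_eq_one_iff.1 ?_).resolve_right hB') hB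
    field_simp at hP
    linear_combination h + B * hP
  · refine absurd ((mul_self_eq_one_iff.1 ?_).resolve_right hC') hC
    field_simp at hP
    linear_combination h + C * hP
  · exact Or.inr ⟨hX, hY, hZ⟩

theorem dist_of_not_rep (h : Stable q a b c) (hR : ¬ Rep a b c) :
    (a ≠ b ∧ a ≠ b⁻¹) ∧ (a ≠ c ∧ a ≠ c⁻¹) ∧ (b ≠ c ∧ b ≠ c⁻¹) := by
  simp only [Rep, not_or] at hR
  obtain ⟨ha1, hb1, hc1, hab, hac, hbc⟩ := hR
  have hP := h.prod
  obtain ⟨ha0, hb0, hc0⟩ := h.ne_zero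
  refine ⟨⟨hab, fun e => hc1 ?_⟩, ⟨hac, fun e => hb1 ?_⟩, hbc, fun e => ha1 ?_⟩
  · rw [e, inv_mul_cancel₀ hb0, one_mul] at hP; exact hP
  · rw [e, mul_comm (c⁻¹) b, mul_assoc, inv_mul_cancel₀ hc0, mul_one] at hP; exact hP
  · rw [e, mul_assoc, inv_mul_cancel₀ hc0, mul_one] at hP; exact hP

/-- a weight equal to minus one when no two agree -/
theorem of_neg_one (h : Stable q a b c) (hq : Odd q) (hR : ¬ Rep a b c) (ha : a = -1) :
    a ^ (q ^ 2 - 1) = 1 ∧ b ^ (q ^ 2 - 1) = 1 := by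
  classical
  obtain ⟨⟨d1, -⟩, -, -⟩ := dist_of_not_rep h hR
  simp only [Rep, not_or] at hR
  obtain ⟨ha1, hb1, hc1, -, -, -⟩ := hR
  obtain ⟨ha0, hb0, -⟩ := h.ne_zero
  have hc : c = -b⁻¹ := by
    have hP := h.prod
    rw [ha, neg_one_mul, neg_mul, neg_eq_iff_eq_neg] at hP
    rw [← inv_neg]
    exact eq_inv_of_mul_eq_one_right (by rw [neg_mul, hP, neg_neg])
  refine ⟨?_, pow_sub_one hb0 (pow_pos h.pos 2) ?_⟩
  · rw [ha]
    exact Even.neg_one_pow (Nat.Odd.sub_odd hq.pow odd_one)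
  have hx : b ^ q ≠ 1 := fun e => hb1 (h.inj b e)
  have hne : b ^ q ≠ -1 := fun e => d1 (by
    rw [ha]
    exact (eq_of_pow_eq h (neg_ne_zero.2 one_ne_zero) (by rw [e, hq.neg_one_pow])).symm)
  have hpos : 0 < cnt a b c (b ^ q) := by
    rw [h.stab, cnt_eq, if_pos rfl]; omega
  have hcase : b ^ q = b ∨ b ^ q = b⁻¹ ∨ b ^ q = -b⁻¹ ∨ b ^ q = -b := by
    by_contra hno
    push Not at hno
    rw [cnt_eq, hc, ha] at hpos
    simp only [inv_neg, inv_inv, inv_one, hx.symm, hne.symm, hno.1.symm, hno.2.1.symm, hno.2.2.1.symm,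
      hno.2.2.2.symm, if_false] at hpos
    omega
  rw [pow_two, pow_mul]
  rcases hcase with e | e | e | e <;> rw [e]
  · exact e
  · rw [inv_pow, e, inv_inv]
  · rw [hq.neg_pow, inv_pow, e, inv_neg, inv_inv, neg_neg]
  · rw [hq.neg_pow, e, neg_neg]

/-- the exponent when no weight is one and no two agree -/
theorem of_not_rep (h : Stable q a b c) (hq : Odd q) (hR : ¬ Rep a b c) :
    ∃ N, (N = q ^ 2 - 1 ∨ N = q ^ 2 + q + 1 ∨ N = q ^ 2 - q + 1) ∧ a ^ N = 1 ∧ b ^ N = 1 := by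
  classical
  have hP := h.prod
  by_cases na : a = -1
  · exact ⟨_, Or.inl rfl, of_neg_one h hq hR na⟩
  by_cases nb : b = -1
  · obtain ⟨e1, e2⟩ := of_neg_one h.swap₁ hq (fun hR' => hR (by unfold Rep at hR' ⊢; tauto)) nb
    exact ⟨_, Or.inl rfl, e2, e1⟩
  by_cases nc : c = -1
  · have hS := h.swap₂.swap₁
    obtain ⟨e1, e2⟩ := of_neg_one hS hq (fun hR' => hR (by
      unfold Rep at hR' ⊢
      rcases hR' with e | e | e | e | e | e <;> simp [e])) nc
    exact ⟨_, Or.inl rfl, e2, third hS.prod e1 e2⟩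
  obtain ⟨dab, dac, dbc⟩ := dist_of_not_rep h hR
  simp only [Rep, not_or] at hR
  obtain ⟨ha1, hb1, hc1, -, -, -⟩ := hR
  obtain ⟨ha0, hb0, hc0⟩ := h.ne_zero
  have hex : ∀ x, x ≠ 1 → 0 < cnt a b c x →
      ((x = a ∨ x = a⁻¹) ∨ (x = b ∨ x = b⁻¹) ∨ (x = c ∨ x = c⁻¹)) := fun x hx hpos => by
    by_contra hno
    push Not at hno
    obtain ⟨⟨n1, n2⟩, ⟨n3, n4⟩, n5, n6⟩ := hno
    rw [cnt_eq, if_neg (Ne.symm hx), if_neg n1.symm, if_neg n2.symm, if_neg n3.symm, if_neg n4.symm,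
      if_neg n5.symm, if_neg n6.symm] at hpos
    omega
  have him : ∀ x, x ≠ 1 → 0 < cnt a b c x →
      ((x ^ q = a ∨ x ^ q = a⁻¹) ∨ (x ^ q = b ∨ x ^ q = b⁻¹) ∨ (x ^ q = c ∨ x ^ q = c⁻¹)) :=
    fun x hx hpos => hex _ (fun e => hx (h.inj x e)) (by rw [h.stab]; exact hpos)
  have hinj : ∀ {x y : K}, y ≠ 0 → x ^ q = y ^ q → x = y := fun {x y} hy e => by
    have := h.inj (x / y) (by rw [div_pow, e, div_self (pow_ne_zero _ hy)])
    rwa [div_eq_one_iff_eq hy] at this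
  -- images of distinct pairs lie in distinct pairs
  have hsep : ∀ {x y : K}, y ≠ 0 → x ≠ y → x ≠ y⁻¹ → ∀ p : K,
      (x ^ q = p ∨ x ^ q = p⁻¹) → (y ^ q = p ∨ y ^ q = p⁻¹) → False := fun {x y} hy n1 n2 p hx' hy' => by
    rcases hx' with e | e <;> rcases hy' with e' | e'
    · exact n1 (hinj hy (e.trans e'.symm))
    · exact n2 (hinj (inv_ne_zero hy) (by rw [inv_pow, e', inv_inv, e]))
    · exact n2 (hinj (inv_ne_zero hy) (by rw [inv_pow, e', e]))
    · exact n1 (hinj hy (e.trans e'.symm))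
  have hPq : a ^ q * b ^ q * c ^ q = 1 := by rw [← mul_pow, ← mul_pow, hP, one_pow]
  have him_a := him a ha1 (by rw [cnt_eq, if_pos rfl]; omega)
  have him_b := him b hb1 (by rw [cnt_eq, if_pos rfl]; omega)
  have him_c := him c hc1 (by rw [cnt_eq, if_pos rfl]; omega)
  have q2 : ∀ {x y : K}, x ^ q = y → x ^ (q ^ 2) = y ^ q := fun {x y} e => by rw [pow_two, pow_mul, e]
  have fix2 : ∀ {x : K}, x ≠ 0 → x ^ (q ^ 2) = x → x ^ (q ^ 2 - 1) = 1 := fun {x} hx e =>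
    pow_sub_one hx (pow_pos h.pos 2) e
  have split : ∀ {x : K}, x ^ q = x ∨ x ^ q = x⁻¹ → x ^ (q ^ 2) = x := fun {x} e => by
    rcases e with e | e
    · rw [q2 e, e]
    · rw [q2 e, inv_pow, e, inv_inv]
  have two : ∀ {x y : K}, (x ^ q = y ∧ y ^ q = x) ∨ (x ^ q = y⁻¹ ∧ y ^ q = x⁻¹) → x ^ (q ^ 2) = x :=
    fun {x y} e => by
      rcases e with ⟨e, e'⟩ | ⟨e, e'⟩
      · rw [q2 e, e']
      · rw [q2 e, inv_pow, e', inv_inv]
  have cyc_pos : ∀ {x y z : K}, x ^ q = y → y ^ q = z → x * y * z = 1 → x ^ (q ^ 2 + q + 1) = 1 :=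
    fun {x y z} e e' hp => by
      rw [pow_succ, pow_add, q2 e, e', e, ← hp]; ring
  have cyc_neg : ∀ {x y z : K}, x ^ q = y⁻¹ → y ^ q = z⁻¹ → x * y * z = 1 → y ≠ 0 →
      x ^ (q ^ 2 - q + 1) = 1 := fun {x y z} e e' hp hy => by
      refine mul_right_cancel₀ (pow_ne_zero q (show x ≠ 0 by rintro rfl; simp at hp)) ?_
      rw [← pow_add, one_mul, show q ^ 2 - q + 1 + q = q ^ 2 + 1 by
        have : q ≤ q ^ 2 := Nat.le_self_pow (by norm_num) q
        omega, pow_succ, q2 e, inv_pow, e', inv_inv, e]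
      refine eq_inv_of_mul_eq_one_left ?_
      rw [← hp]; ring
  rcases him_a with ea | ea | ea <;> rcases him_b with eb | eb | eb
  all_goals first
    | exact (hsep hb0 dab.1 dab.2 _ ea eb).elim
    | skip
  all_goals rcases him_c with ec | ec | ec
  all_goals first
    | exact (hsep hc0 dac.1 dac.2 _ ea ec).elim
    | exact (hsep hc0 dbc.1 dbc.2 _ eb ec).elim
    | skip
  · -- identity
    exact ⟨_, Or.inl rfl, fix2 ha0 (split ea), fix2 hb0 (split eb)⟩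
  · -- a fixed
    rcases signs ha1 hc1 hb1 na nc nb (by rw [mul_right_comm]; exact hP) ea eb ec hPq with ⟨-, e, e'⟩ | ⟨-, e, e'⟩
    · exact ⟨_, Or.inl rfl, fix2 ha0 (split ea), fix2 hb0 (two (Or.inl ⟨e, e'⟩))⟩
    · exact ⟨_, Or.inl rfl, fix2 ha0 (split ea), fix2 hb0 (two (Or.inr ⟨e, e'⟩))⟩
  · -- c fixed
    rcases signs hb1 ha1 hc1 nb na nc (by rw [mul_comm b a]; exact hP) ea eb ec hPq with ⟨e, e', -⟩ | ⟨e, e', -⟩
    · exact ⟨_, Or.inl rfl, fix2 ha0 (two (Or.inl ⟨e, e'⟩)), fix2 hb0 (two (Or.inl ⟨e', e⟩))⟩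
    · exact ⟨_, Or.inl rfl, fix2 ha0 (two (Or.inr ⟨e, e'⟩)), fix2 hb0 (two (Or.inr ⟨e', e⟩))⟩
  · -- a to b to c
    have hP' : b * c * a = 1 := by rw [← hP]; ring
    rcases signs hb1 hc1 ha1 nb nc na hP' ea eb ec hPq with ⟨e, e', e''⟩ | ⟨e, e', e''⟩
    · exact ⟨_, Or.inr (Or.inl rfl), cyc_pos e e' hP, cyc_pos e' e'' hP'⟩
    · exact ⟨_, Or.inr (Or.inr rfl), cyc_neg e e' hP hb0, cyc_neg e' e'' hP' hc0⟩
  · -- a to c to b
    have hP' : c * a * b = 1 := by rw [← hP]; ring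
    rcases signs hc1 ha1 hb1 nc na nb hP' ea eb ec hPq with ⟨e, e', e''⟩ | ⟨e, e', e''⟩
    · exact ⟨_, Or.inr (Or.inl rfl), cyc_pos e e'' (by rw [← hP]; ring), cyc_pos e' e (by rw [← hP]; ring)⟩
    · exact ⟨_, Or.inr (Or.inr rfl), cyc_neg e e'' (by rw [← hP]; ring) hc0,
        cyc_neg e' e (by rw [← hP]; ring) ha0⟩
  · -- b fixed
    rcases signs hc1 hb1 ha1 nc nb na (by rw [← hP]; ring) ea eb ec hPq with ⟨e, -, e'⟩ | ⟨e, -, e'⟩
    · exact ⟨_, Or.inl rfl, fix2 ha0 (two (Or.inl ⟨e, e'⟩)), fix2 hb0 (split eb)⟩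
    · exact ⟨_, Or.inl rfl, fix2 ha0 (two (Or.inr ⟨e, e'⟩)), fix2 hb0 (split eb)⟩

/-- a nontrivial weight has multiplicity at most three unless two are minus one -/
theorem cnt_le_three (h : Stable q a b c)
    (hI : ¬ ((a = -1 ∧ b = -1) ∨ (a = -1 ∧ c = -1) ∨ (b = -1 ∧ c = -1))) {x : K} (hx : x ≠ 1) :
    cnt a b c x ≤ 3 := by
  classical
  have h1 := cnt_inv a b c x
  obtain ⟨ha0, hb0, hc0⟩ := h.ne_zero
  rcases eq_or_ne x 0 with rfl | h0
  · simp [cnt_eq, ha0, hb0, hc0]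
  by_cases hn : x = x⁻¹
  · have hx2 : x * x = 1 := by nth_rw 2 [hn]; exact mul_inv_cancel₀ h0
    have hx' : x = -1 := (mul_self_eq_one_iff.1 hx2).resolve_left hx
    subst hx'
    rw [cnt_eq, if_neg (Ne.symm hx)]
    simp only [inv_eq_iff_eq_inv, inv_neg, inv_one]
    split_ifs <;> first | omega | exact (hI (by tauto)).elim
  have hxi : x⁻¹ ≠ 1 := fun e => hx (inv_eq_one.1 e)
  rw [cnt_eq, cnt_eq, if_neg (Ne.symm hx), if_neg (Ne.symm hxi)] at h1
  rw [cnt_eq, if_neg (Ne.symm hx)]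
  have ex : ∀ w : K, (if w = x then 1 else 0) + (if w = x⁻¹ then 1 else 0) ≤ 1 := fun w => by
    split_ifs with e e' <;> simp
    exact hn (e.symm.trans e')
  have := ex a; have := ex b; have := ex c; have := ex a⁻¹; have := ex b⁻¹; have := ex c⁻¹
  omega

/-- when no two agree a weight other than `±1` is simple -/
theorem cnt_le_one (h : Stable q a b c) (hR : ¬ Rep a b c) {x : K} (hx : x ≠ 1) (hx' : x ≠ -1) :
    cnt a b c x ≤ 1 := by
  classical
  obtain ⟨dab, dac, dbc⟩ := dist_of_not_rep h hR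
  rw [cnt_eq, if_neg (Ne.symm hx)]
  obtain ⟨ha0, hb0, hc0⟩ := h.ne_zero
  have self : ∀ {w : K}, w ≠ 0 → w = x → w⁻¹ = x → False := fun {w} h0 e e' => by
    subst e
    have h2 : w * w = 1 := by nth_rw 1 [← e']; exact inv_mul_cancel₀ h0
    rcases mul_self_eq_one_iff.1 h2 with u | u
    · exact hx u
    · exact hx' u
  have tri : ∀ {u v : K}, u ≠ v → u ≠ v⁻¹ →
      (if u = x then 1 else 0) + (if u⁻¹ = x then 1 else 0) = 0 ∨
        (if v = x then 1 else 0) + (if v⁻¹ = x then 1 else 0) = 0 := fun {u v} n1 n2 => by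
    by_contra hno
    simp only [not_or, Nat.add_eq_zero_iff, ite_eq_right_iff, one_ne_zero, imp_false, not_and_or,
      not_not] at hno
    rcases hno.1 with e | e <;> rcases hno.2 with e' | e'
    · exact n1 (e.trans e'.symm)
    · exact n2 (e.trans e'.symm)
    · exact n2 (by rw [← inv_inv u, e, ← e'])
    · exact n1 (inv_injective (e.trans e'.symm))
  have one : ∀ {w : K}, w ≠ 0 → (if w = x then 1 else 0) + (if w⁻¹ = x then 1 else 0) ≤ 1 := fun {w} h0 => by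
    split_ifs with e e' <;> simp
    exact (self h0 e e').elim
  have := one ha0; have := one hb0; have := one hc0
  have := tri dab.1 dab.2; have := tri dac.1 dac.2; have := tri dbc.1 dbc.2
  omega

end CfsgLib.Lie.G2OddWeights
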