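import Cfsg.Agent.Lib.Lie.G2.OddBase
import Cfsg.Agent.Lib.Lie.G2.OddWeights

/-!
# Automorphisms of the split octonions of finite order in odd characteristic

An element of order prime to the characteristic fixes an idempotent, obtained as the normalised product
of two eigenvectors with inverse eigenvalues, and is diagonal in a suitable basis. A commuting unipotent
element preserves the weight spaces, and two pairs of them generate the algebra.
-/

set_option autoImplicit false
set_option linter.unusedSectionVars false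

namespace CfsgLib.Lie.G2Odd

open Matrix Cfsg.Lie CfsgLib.Lie.G2Oct CfsgLib.Lie.G2Weights
open CfsgLib.Classical.G2Quat hiding dd

variable {K : Type*} [Field K]

theorem actT_diagonal {a b c : K} (h : a * b * c = 1) (x : Fin 8 → K) :
    actT (Matrix.diagonal ![a, b, c]) x = Matrix.diagonal (dd a b c) *ᵥ x := by
  have ha : a ≠ 0 := by rintro rfl; simp at h
  have hb : b ≠ 0 := by rintro rfl; simp at h
  have hc : c ≠ 0 := by rintro rfl; simp at h
  have e1 : a⁻¹ = b * c := inv_eq_of_mul_eq_one_right (by rwa [← mul_assoc])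
  have e2 : b⁻¹ = a * c := inv_eq_of_mul_eq_one_right (by rw [← h]; ring)
  have e3 : c⁻¹ = a * b := inv_eq_of_mul_eq_one_right (by rw [← h]; ring)
  funext i
  rw [actT_apply, Matrix.mulVec_diagonal]
  fin_cases i <;>
    simp [dd, Matrix.adjugate_fin_three, Matrix.mulVec, dotProduct, Fin.sum_univ_three, Matrix.diagonal,
      e1, e2, e3]

/-- a matrix commuting with a diagonal one preserves its eigenspaces -/
theorem apply_eq_zero {ι : Type*} [Fintype ι] [DecidableEq ι] {d : ι → K} {v : Matrix ι ι K}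
    (hc : v * Matrix.diagonal d = Matrix.diagonal d * v) {i j : ι} (h : d i ≠ d j) : v i j = 0 := by
  have e := congrFun (congrFun hc i) j
  rw [Matrix.mul_diagonal, Matrix.diagonal_mul, mul_comm] at e
  by_contra hne
  exact h (mul_right_cancel₀ hne e).symm

variable [IsAlgClosed K]

/-- a matrix of finite order prime to the characteristic is diagonalisable -/
theorem exists_conj_diag_three {T : Matrix (Fin 3) (Fin 3) K} {n : ℕ} (hn : (n : K) ≠ 0)
    (hT : T ^ n = 1) :
    ∃ (P : Matrix (Fin 3) (Fin 3) K) (d : Fin 3 → K), P.det = 1 ∧ T * P = P * Matrix.diagonal d := by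
  classical
  set L : Module.End K (Fin 3 → K) := Matrix.toLinAlgEquiv' T with hL
  have hLn : L ^ n = 1 := by rw [hL, ← map_pow, hT, map_one]
  have hn0 : n ≠ 0 := fun e => hn (by rw [e, Nat.cast_zero])
  have hss : L.IsSemisimple := by
    refine Module.End.isSemisimple_of_squarefree_aeval_eq_zero
      (Polynomial.separable_X_pow_sub_C (1 : K) hn one_ne_zero).squarefree ?_
    simp [hLn]
  have htop : ⨆ μ : K, Module.End.eigenspace L μ = ⊤ := by
    have := Module.End.iSup_maxGenEigenspace_eq_top L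
    simpa [hss.isFinitelySemisimple.maxGenEigenspace_eq_eigenspace] using this
  have hint : DirectSum.IsInternal (fun μ : K => Module.End.eigenspace L μ) :=
    DirectSum.isInternal_submodule_of_iSupIndep_of_iSup_eq_top
      (Module.End.eigenspaces_iSupIndep L) htop
  let B := hint.collectedBasis fun μ => Module.finBasis K (Module.End.eigenspace L μ)
  haveI : Finite (Σ μ : K, Fin (Module.finrank K (Module.End.eigenspace L μ))) :=
    Module.Finite.finite_basis B
  haveI := Fintype.ofFinite (Σ μ : K, Fin (Module.finrank K (Module.End.eigenspace L μ)))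
  let f := Fintype.equivFinOfCardEq (n := 3)
    ((Module.finrank_eq_card_basis B).symm.trans (Module.finrank_fin_fun K))
  let b := B.reindex f
  have hb : ∀ i, T *ᵥ b i = (f.symm i).1 • b i := fun i => by
    have hmem := hint.collectedBasis_mem
      (fun μ => Module.finBasis K (Module.End.eigenspace L μ)) (f.symm i)
    rw [show b i = B (f.symm i) from Module.Basis.reindex_apply _ _ _]
    exact Module.End.mem_eigenspace_iff.mp hmem
  set P₀ : Matrix (Fin 3) (Fin 3) K := (Pi.basisFun K (Fin 3)).toMatrix b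
  have hP₀ : P₀.det ≠ 0 := by
    haveI := (Pi.basisFun K (Fin 3)).invertibleToMatrix b
    exact (Matrix.isUnit_det_of_invertible P₀).ne_zero
  have hP : ∀ i j, P₀ i j = b j i := fun i j => by
    show (Pi.basisFun K (Fin 3)).repr (b j) i = _
    rw [Pi.basisFun_repr]
  have hTP : T * P₀ = P₀ * Matrix.diagonal fun i => (f.symm i).1 := by
    ext i j
    rw [Matrix.mul_diagonal, hP]
    have := congrFun (hb j) i
    rw [Pi.smul_apply, smul_eq_mul, mul_comm] at this
    rw [← this, Matrix.mul_apply]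
    simp [Matrix.mulVec, dotProduct, hP]
  refine ⟨P₀ * Matrix.diagonal ![P₀.det⁻¹, 1, 1], fun i => (f.symm i).1, ?_, ?_⟩
  · rw [Matrix.det_mul, Matrix.det_diagonal, Fin.prod_univ_three]
    simp [mul_inv_cancel₀ hP₀]
  · rw [← Matrix.mul_assoc, hTP, Matrix.mul_assoc, Matrix.mul_assoc, Matrix.diagonal_mul_diagonal,
      Matrix.diagonal_mul_diagonal]
    simp_rw [mul_comm]

/-- an isotropic eigenvector -/
theorem exists_isotropic_eigen (s : G2 K) (h2 : (2 : K) ≠ 0) {n : ℕ} (hn : (n : K) ≠ 0) (hs : s ^ n = 1) :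
    ∃ (l : K) (a : Fin 8 → K), a ≠ 0 ∧ s.1.1 *ᵥ a = l • a ∧ qn a = 0 := by
  classical
  set A := s.1.1 with hA
  by_cases hev : ∃ (l : K) (a : Fin 8 → K), a ≠ 0 ∧ A *ᵥ a = l • a ∧ l * l ≠ 1
  · obtain ⟨l, a, ha, he, hl⟩ := hev
    refine ⟨l, a, ha, he, ?_⟩
    have e := (tt_qn s a).2
    rw [← hA, he, qn_smul] at e
    by_contra h
    exact hl (mul_right_cancel₀ h (by rw [one_mul, ← pow_two]; exact e))
  push Not at hev
  set E : Module.End K (Fin 8 → K) := Matrix.toLinAlgEquiv' A with hE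
  have hAn : A ^ n = 1 := by
    have := congrArg (fun g : G2 K => g.1.1) hs
    simpa [hA] using this
  have hEn : E ^ n = 1 := by rw [hE, ← map_pow, hAn, map_one]
  have hn0 : n ≠ 0 := fun e => hn (by rw [e, Nat.cast_zero])
  have hss : E.IsSemisimple := by
    refine Module.End.isSemisimple_of_squarefree_aeval_eq_zero
      (Polynomial.separable_X_pow_sub_C (1 : K) hn one_ne_zero).squarefree ?_
    simp [hEn]
  have htop : ⨆ μ : K, Module.End.eigenspace E μ = ⊤ := by
    have := Module.End.iSup_maxGenEigenspace_eq_top E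
    simpa [hss.isFinitelySemisimple.maxGenEigenspace_eq_eigenspace] using this
  have hsq : ∀ x, A *ᵥ (A *ᵥ x) = x := by
    intro x
    refine Submodule.iSup_induction (motive := fun x => A *ᵥ (A *ᵥ x) = x) _
      (htop ▸ Submodule.mem_top : x ∈ ⨆ μ : K, Module.End.eigenspace E μ) (fun μ y hy => ?_)
      (by simp) (fun y z hy hz => by rw [Matrix.mulVec_add, Matrix.mulVec_add, hy, hz])
    have e : A *ᵥ y = μ • y := Module.End.mem_eigenspace_iff.mp hy
    by_cases hy0 : y = 0
    · simp [hy0]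
    · rw [e, Matrix.mulVec_smul, e, smul_smul, hev μ y hy0 e, one_smul]
  -- a totally isotropic plane meets the quadric of the symmetric part
  set U := (Pi.single 1 1 : Fin 8 → K) + A *ᵥ Pi.single 1 1 with hU
  set W := (Pi.single 2 1 : Fin 8 → K) + A *ᵥ Pi.single 2 1 with hW
  obtain ⟨y, hy0, hyq, hyz⟩ : ∃ y : Fin 8 → K, y ≠ 0 ∧ qn y = 0 ∧ qn (y + A *ᵥ y) = 0 := by
    by_cases hW0 : qn W = 0
    · exact ⟨Pi.single 2 1, fun h => one_ne_zero (α := K) (by simpa using congrFun h 2),
        by simp [qn], hW0⟩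
    obtain ⟨t, ht⟩ := IsAlgClosed.exists_root
      (Polynomial.C (qn W) * Polynomial.X ^ 2 +
        Polynomial.C (qn (U + W) - qn U - qn W) * Polynomial.X + Polynomial.C (qn U))
      (by rw [Polynomial.degree_quadratic hW0]; decide)
    simp only [Polynomial.IsRoot.def, Polynomial.eval_add, Polynomial.eval_mul, Polynomial.eval_C,
      Polynomial.eval_pow, Polynomial.eval_X] at ht
    refine ⟨Pi.single 1 1 + t • Pi.single 2 1,
      fun h => one_ne_zero (α := K) (by simpa using congrFun h 1), by simp [qn], ?_⟩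
    rw [Matrix.mulVec_add, Matrix.mulVec_smul, add_add_add_comm, ← hU, ← smul_add, ← hW, ← ht]
    simp [qn]; ring
  have hm : qn (y - A *ᵥ y) = 0 := by
    have e := qn_parallel y (A *ᵥ y)
    rw [hyz, (tt_qn s y).2, hyq] at e
    simpa using e
  by_cases hp : y + A *ᵥ y = 0
  · refine ⟨-1, y - A *ᵥ y, ?_, ?_, hm⟩
    · rw [eq_neg_of_add_eq_zero_right hp, sub_neg_eq_add, ← two_smul K]
      exact smul_ne_zero h2 hy0
    · rw [Matrix.mulVec_sub, hsq, neg_one_smul, neg_sub]
  · exact ⟨1, _, hp, by rw [Matrix.mulVec_add, hsq, one_smul, add_comm], hyz⟩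

/-- an element of order prime to the characteristic fixes an idempotent, which can be moved to the
standard one -/
theorem exists_fix_idem (s : G2 K) (h2 : (2 : K) ≠ 0) {n : ℕ} (hn : (n : K) ≠ 0) (hs : s ^ n = 1) :
    ∃ g : G2 K, (g * s * g⁻¹).1.1 *ᵥ (Pi.single 0 1) = Pi.single 0 1 := by
  classical
  obtain ⟨l, a, ha, he, hq⟩ := exists_isotropic_eigen s h2 hn hs
  obtain ⟨y, hy⟩ : ∃ y, tt (zornMul a y) ≠ 0 := by
    by_contra h
    push Not at h
    refine ha (funext fun i => ?_)
    have h0 := h (Pi.single 0 1); have h7 := h (Pi.single 7 1)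
    have h1 := h (Pi.single 1 1); have h4 := h (Pi.single 4 1)
    have h2' := h (Pi.single 2 1); have h5 := h (Pi.single 5 1)
    have h3 := h (Pi.single 3 1); have h6 := h (Pi.single 6 1)
    simp [tt, zornMul, dot3, cross3] at h0 h1 h2' h3 h4 h5 h6 h7
    fin_cases i <;> assumption
  have hpow : ∀ i : ℕ, (s ^ i).1.1 *ᵥ a = l ^ i • a := by
    intro i
    induction i with
    | zero =>
      rw [pow_zero, pow_zero, one_smul]
      exact Matrix.one_mulVec a
    | succ i ih => rw [pow_succ', g_mul, ih, Matrix.mulVec_smul, he, smul_smul, ← pow_succ]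
  have hl : l ^ n = 1 := by
    have := hpow n
    rw [hs, show ((1 : G2 K).1.1 : Matrix (Fin 8) (Fin 8) K) = 1 from rfl, Matrix.one_mulVec] at this
    by_contra hne
    refine ha ?_
    have e : (l ^ n - 1) • a = 0 := by rw [sub_smul, one_smul, ← this, sub_self]
    exact (smul_eq_zero.1 e).resolve_left (sub_ne_zero.2 hne)
  have hn0 : n ≠ 0 := fun e => hn (by rw [e, Nat.cast_zero])
  have hl0 : l ≠ 0 := fun e => by rw [e, zero_pow hn0] at hl; exact zero_ne_one hl
  set b := ∑ i ∈ Finset.range n, l ^ i • ((s ^ i).1.1 *ᵥ y) with hb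
  have hsb : s.1.1 *ᵥ b = l⁻¹ • b := by
    rw [eq_inv_smul_iff₀ hl0, hb, Matrix.mulVec_sum, Finset.smul_sum]
    have e : ∀ i, l • (s.1.1 *ᵥ (l ^ i • ((s ^ i).1.1 *ᵥ y))) = l ^ (i + 1) • ((s ^ (i + 1)).1.1 *ᵥ y) :=
      fun i => by rw [Matrix.mulVec_smul, smul_smul, ← pow_succ', pow_succ' s, g_mul]
    rw [Finset.sum_congr rfl fun i _ => e i]
    have h1 := Finset.sum_range_succ' (fun i => l ^ i • ((s ^ i).1.1 *ᵥ y)) n
    have h2 := Finset.sum_range_succ (fun i => l ^ i • ((s ^ i).1.1 *ᵥ y)) n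
    rw [h2, hs, hl, pow_zero, pow_zero] at h1
    exact (add_right_cancel h1).symm
  set x := zornMul a b with hx
  have hzs : ∀ (c : K) (u v : Fin 8 → K), zornMul (c • u) v = c • zornMul u v := fun c u v => by
    rw [← G2Spec.zm_apply, map_smul]; rfl
  have hzs' : ∀ (c : K) (u v : Fin 8 → K), zornMul u (c • v) = c • zornMul u v := fun c u v => by
    rw [← G2Spec.zm_apply, map_smul]; rfl
  have hsx : s.1.1 *ᵥ x = x := by
    rw [hx, mem_G2.1 s.2, he, hsb, hzs, hzs', smul_smul, mul_inv_cancel₀ hl0, one_smul]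
  have htx : tt x = n * tt (zornMul a y) := by
    have e : x = ∑ i ∈ Finset.range n, (s ^ i).1.1 *ᵥ zornMul a y := by
      rw [hx, hb, ← G2Spec.zm_apply, map_sum]
      refine Finset.sum_congr rfl fun i _ => ?_
      rw [G2Spec.zm_apply, mem_G2.1 (s ^ i).2, hpow, hzs, hzs']
    rw [e, tt_sum, Finset.sum_congr rfl fun i _ => (tt_qn (s ^ i) _).1, Finset.sum_const,
      Finset.card_range, nsmul_eq_mul]
  have htx0 : tt x ≠ 0 := by rw [htx]; exact mul_ne_zero hn hy
  set f := (tt x)⁻¹ • x with hf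
  have hft : tt f = 1 := by rw [hf, tt_smul, inv_mul_cancel₀ htx0]
  have hfn : qn f = 0 := by rw [hf, qn_smul, hx, qn_mul, hq, zero_mul, mul_zero]
  have hfs : s.1.1 *ᵥ f = f := by rw [hf, Matrix.mulVec_smul, hsx]
  obtain ⟨g, hg⟩ := move h2 hft hfn
  refine ⟨g, ?_⟩
  rw [g_mul, g_mul, show (g⁻¹).1.1 *ᵥ Pi.single 0 1 = f by rw [← hg, g_inv], hfs, hg]

/-- an element of order prime to the characteristic is conjugate to a diagonal one -/
theorem exists_diag (s : G2 K) {n : ℕ} (h2 : (2 : K) ≠ 0) (hn1 : (n : K) ≠ 0) (hs : s ^ n = 1) :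
    ∃ (g : G2 K) (a b c : K), a * b * c = 1 ∧ (g * s * g⁻¹).1.1 = Matrix.diagonal (dd a b c) := by
  classical
  obtain ⟨g₁, hg₁⟩ := exists_fix_idem s h2 hn1 hs
  set s₁ := g₁ * s * g₁⁻¹ with hs₁
  obtain ⟨T, hT, hTs⟩ := exists_actT s₁ hg₁
  have hpow : ∀ (k : ℕ) x, (s₁ ^ k).1.1 *ᵥ x = actT (T ^ k) x := by
    intro k
    induction k with
    | zero =>
      intro x
      rw [pow_zero, pow_zero, actT_apply]
      show (1 : Matrix (Fin 8) (Fin 8) K) *ᵥ x = _
      rw [Matrix.one_mulVec]
      funext i; fin_cases i <;> simp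
    | succ k ih => intro x; rw [pow_succ, g_mul, hTs, ih, actT_comp, pow_succ]
  have hTn : T ^ n = 1 := by
    refine Matrix.ext_of_mulVec_single fun j => ?_
    have e : s₁ ^ n = 1 := by rw [hs₁, conj_pow, hs, mul_one, mul_inv_cancel]
    have h := hpow n ![0, (Pi.single j 1 : Fin 3 → K) 0, (Pi.single j 1 : Fin 3 → K) 1,
      (Pi.single j 1 : Fin 3 → K) 2, 0, 0, 0, 0]
    rw [e, show ((1 : G2 K).1.1 : Matrix (Fin 8) (Fin 8) K) = 1 from rfl, Matrix.one_mulVec, actT_apply] at h
    have hz : zA K ![0, (Pi.single j 1 : Fin 3 → K) 0, (Pi.single j 1 : Fin 3 → K) 1,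
        (Pi.single j 1 : Fin 3 → K) 2, 0, 0, 0, 0] = Pi.single j 1 := by
      funext i; fin_cases i <;> simp
    rw [hz] at h
    rw [Matrix.one_mulVec]
    funext i
    fin_cases i
    · simpa using (congrFun h 1).symm
    · simpa using (congrFun h 2).symm
    · simpa using (congrFun h 3).symm
  obtain ⟨P, d, hP, hTP⟩ := exists_conj_diag_three hn1 hTn
  have hd : d 0 * d 1 * d 2 = 1 := by
    have := congrArg Matrix.det hTP
    rw [Matrix.det_mul, Matrix.det_mul, hT, hP, one_mul, one_mul, Matrix.det_diagonal,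
      Fin.prod_univ_three] at this
    exact this.symm
  obtain ⟨g₂, hg₂⟩ := exists_G2_T hP
  refine ⟨g₂⁻¹ * g₁, d 0, d 1, d 2, hd, Matrix.ext_of_mulVec_single fun j => ?_⟩
  rw [show g₂⁻¹ * g₁ * s * (g₂⁻¹ * g₁)⁻¹ = g₂⁻¹ * (s₁ * g₂) by rw [hs₁]; group, g_mul, g_mul, hTs,
    hg₂, actT_comp, hTP, ← actT_comp, ← hg₂, g_inv]
  have e := actT_diagonal hd (Pi.single j 1)
  rw [show ![d 0, d 1, d 2] = d by funext i; fin_cases i <;> rfl] at e
  exact e

end CfsgLib.Lie.G2Odd
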