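import Cfsg.Agent.Lib.Lie.G2.OctInt
import Cfsg.Agent.Lib.Lie.Chev.SL2Root
import Cfsg.Agent.Lib.Lie.Chev.SylowU
import Cfsg.Agent.Lib.Lie.Chev.TwoGen
import Cfsg.Agent.Lib.Lie.Chev.Tw.Tools
import Cfsg.Agent.Lib.Classical.PSL2Spectrum
import Cfsg.Agent.Lib.Perm.Dickson.Minimal

/-!
# `G₂(q)`, `q` odd: elements of the maximal orders

Products in the commuting `SL₂`'s of a long root and a short one perpendicular to it, the image of a
Singer cycle of the `GL₂` of a long root, generators of the two tori of cyclic type, and for the primes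
three and five a product of two simple root elements.
-/

set_option autoImplicit false
set_option maxRecDepth 100000
set_option maxHeartbeats 1000000
set_option linter.unusedSectionVars false

namespace CfsgLib.Lie.G2OddExist

open Matrix Cfsg.Lie CfsgLib.Lie.Chev CfsgLib.Lie.CoxTorus CfsgLib.Lie.SL2Rel

/-- a root index -/
def ri (k : ℕ) (h : k < 12 := by norm_num) : Fin chevG2.nroots := ⟨k, h⟩

/-- a vector of the adjoint module from its coordinates -/
def vec (n : ℕ) (l : List ℕ) : chevG2.Idx → ZMod n := fun i => ((l.getD (pos chevG2 i) 0 : ℕ) : ZMod n)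

/-- multiplication by the word `x_a(1) x_b(1)` -/
def step (n : ℕ) (v : chevG2.Idx → ZMod n) : chevG2.Idx → ZMod n :=
  xg (ZMod n) (ri 7) 1 *ᵥ (xg (ZMod n) (ri 6) 1 *ᵥ v)

theorem chain_three :
    step 3 (vec 3 [1,0,0,0,0,0,0,0,0,0,0,0,0,0]) = vec 3 [1,0,0,0,0,0,0,0,0,1,0,0,0,0] ∧
    step 3 (vec 3 [1,0,0,0,0,0,0,0,0,1,0,0,0,0]) = vec 3 [1,0,0,0,0,0,0,0,0,2,1,1,0,0] ∧
    step 3 (vec 3 [1,0,0,0,0,0,0,0,0,2,1,1,0,0]) = vec 3 [1,0,0,0,0,0,0,0,0,0,0,1,0,0] ∧
    vec 3 [1,0,0,0,0,0,0,0,0,0,0,1,0,0] ≠ vec 3 [1,0,0,0,0,0,0,0,0,0,0,0,0,0] := by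
  refine ⟨?_, ?_, ?_, ?_⟩ <;> decide +kernel

theorem chain_five :
    step 5 (vec 5 [0,1,0,0,0,0,0,0,0,0,0,0,0,0]) = vec 5 [0,1,0,0,0,0,0,0,3,1,2,3,3,0] ∧
    step 5 (vec 5 [0,1,0,0,0,0,0,0,3,1,2,3,3,0]) = vec 5 [0,1,0,0,0,0,0,0,1,2,2,3,4,3] ∧
    step 5 (vec 5 [0,1,0,0,0,0,0,0,1,2,2,3,4,3]) = vec 5 [0,1,0,0,0,0,0,0,4,3,0,4,0,2] ∧
    step 5 (vec 5 [0,1,0,0,0,0,0,0,4,3,0,4,0,2]) = vec 5 [0,1,0,0,0,0,0,0,2,4,1,0,0,2] ∧
    step 5 (vec 5 [0,1,0,0,0,0,0,0,2,4,1,0,0,2]) = vec 5 [0,1,0,0,0,0,0,0,0,0,0,0,0,2] ∧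
    vec 5 [0,1,0,0,0,0,0,0,0,0,0,0,0,2] ≠ vec 5 [0,1,0,0,0,0,0,0,0,0,0,0,0,0] := by
  refine ⟨?_, ?_, ?_, ?_, ?_, ?_⟩ <;> decide +kernel

theorem step_three : ∃ v : chevG2.Idx → ZMod 3, (step 3)^[3] v ≠ v := by
  obtain ⟨e1, e2, e3, hne⟩ := chain_three
  refine ⟨vec 3 [1,0,0,0,0,0,0,0,0,0,0,0,0,0], ?_⟩
  simp only [Function.iterate_succ_apply, Function.iterate_zero_apply, e1, e2, e3]
  exact hne

theorem step_five : ∃ v : chevG2.Idx → ZMod 5, (step 5)^[5] v ≠ v := by
  obtain ⟨e1, e2, e3, e4, e5, hne⟩ := chain_five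
  refine ⟨vec 5 [0,1,0,0,0,0,0,0,0,0,0,0,0,0], ?_⟩
  simp only [Function.iterate_succ_apply, Function.iterate_zero_apply, e1, e2, e3, e4, e5]
  exact hne

variable {F : Type*} [Field F]

/-- the word of two simple root elements -/
noncomputable def word (F : Type*) [Field F] : GL chevG2.Idx F := cG2.G.xu (ri 7) 1 * cG2.G.xu (ri 6) 1

theorem word_mem_pos : word F ∈ chevG2.posUnipotent F :=
  mul_mem (cG2.G.xu_mem_U (by decide +kernel) _) (cG2.G.xu_mem_U (by decide +kernel) _)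

theorem word_pow_ne (p : ℕ) [Fact p.Prime] [CharP F p] (h : p = 3 ∨ p = 5) : word F ^ p ≠ 1 := by
  intro he
  set M : Matrix chevG2.Idx chevG2.Idx (ZMod p) := xg (ZMod p) (ri 7) 1 * xg (ZMod p) (ri 6) 1 with hM
  set f : ZMod p →+* F := ZMod.castHom dvd_rfl F
  have hv : (word F : Matrix chevG2.Idx chevG2.Idx F) = f.mapMatrix M := by
    rw [hM, map_mul, word, Units.val_mul]
    show xg F _ 1 * xg F _ 1 = (xg (ZMod p) _ 1).map f * (xg (ZMod p) _ 1).map f
    rw [xg_map, xg_map, map_one]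
  have hMp : M ^ p = 1 := by
    refine Matrix.map_injective f.injective (show f.mapMatrix (M ^ p) = f.mapMatrix 1 from ?_)
    rw [map_pow, map_one, ← hv, ← Units.val_pow_eq_pow_val, he, Units.val_one]
  have hit : ∀ (k : ℕ) (v : chevG2.Idx → ZMod p), (step p)^[k] v = (M ^ k) *ᵥ v := by
    intro k
    induction k with
    | zero => intro v; rw [Function.iterate_zero_apply, pow_zero, Matrix.one_mulVec]
    | succ k ih =>
      intro v
      rw [Function.iterate_succ_apply', ih, pow_succ', ← Matrix.mulVec_mulVec, step, Matrix.mulVec_mulVec, hM]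
  obtain rfl | rfl := h
  · obtain ⟨v, hv⟩ := step_three
    exact hv (by rw [hit, hMp, Matrix.one_mulVec])
  · obtain ⟨v, hv⟩ := step_five
    exact hv (by rw [hit, hMp, Matrix.one_mulVec])

/-! ### The homomorphisms from `SL₂` -/

local notation "S2" => Matrix.SpecialLinearGroup (Fin 2) F

/-- the homomorphism of a root -/
noncomputable def rHom (r : Fin chevG2.nroots) : S2 →* GL chevG2.Idx F :=
  (cG2.G.sl2Fam r).hom (cG2.G.sl2Fam_mult r)

theorem rHom_upper (r : Fin chevG2.nroots) (t : F) : rHom r (Fam.upper t) = cG2.G.xu r t := by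
  rw [rHom, Fam.hom_upper]; rfl

theorem rHom_lower (r : Fin chevG2.nroots) (t : F) : rHom r (Fam.lower t) = cG2.G.xu (cG2.G.negr r) t := by
  rw [rHom, Fam.hom_lower]; rfl

theorem rHom_mem (r : Fin chevG2.nroots) (g : S2) : rHom r g ∈ chevG2.group F := by
  have h : rHom r g ∈ (rHom (F := F) r).range := ⟨g, rfl⟩
  rw [rHom, CfsgLib.Lie.SL2Rel.Fam.hom_range] at h
  refine (Subgroup.closure_le _).2 ?_ h
  rintro _ (⟨t, rfl⟩ | ⟨t, rfl⟩) <;> exact cG2.G.xu_mem _ _

theorem rHom_diag (r : Fin chevG2.nroots) (c : Fˣ) (g : S2)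
    (hg : g.1 = !![(c : F), 0; 0, ((c⁻¹ : Fˣ) : F)]) : rHom r g = cG2.G.hd r c := by
  show (cG2.G.sl2Fam r).val g = _
  rw [Fam.val_eq_zero _ (a := (c : F)) (b := 0) (by rw [hg]; rfl) (by rw [hg]; rfl) (by rw [hg]; rfl),
    zero_div, Fam.x_zero, mul_one]
  exact cG2.G.hE_eq r c

/-- the torus element with coordinates `a`, `b` -/
noncomputable def tau (a b : Fˣ) : GL chevG2.Idx F :=
  cG2.G.torθ (fun i => if i.val = 0 then a else b)

theorem tau_mul (a b a' b' : Fˣ) : tau a b * tau a' b' = tau (a * a') (b * b') := by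
  rw [tau, tau, ← map_mul]
  congr 1
  funext i
  by_cases h : i.val = 0 <;> simp [h]

theorem tau_mem (a b : Fˣ) : tau a b ∈ chevG2.group F := by
  rw [tau, cG2.G.torθ_eq_prod]
  refine list_prod_mem fun x hx => ?_
  obtain ⟨i, -, rfl⟩ := List.mem_map.1 hx
  exact TwoGen.hd_mem cG2 _ _

theorem cart_facts :
    (∀ i : Fin chevG2.rank, cart chevG2 i (ri 11) = if i.val = 0 then 0 else 1) ∧
    (∀ i : Fin chevG2.rank, cart chevG2 i (ri 0) = if i.val = 0 then 0 else -1) ∧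
    (∀ i : Fin chevG2.rank, cart chevG2 i (ri 3) = if i.val = 0 then 1 else -1) ∧
    (∀ i : Fin chevG2.rank, (chevG2.coroot.getD (ri 11).val #[]).getD i.val 0 = if i.val = 0 then 1 else 2) ∧
    (∀ i : Fin chevG2.rank, (chevG2.coroot.getD (ri 7).val #[]).getD i.val 0 = if i.val = 0 then 1 else 0) := by
  refine ⟨?_, ?_, ?_, ?_, ?_⟩ <;> decide +kernel

theorem tau_conj (a b : Fˣ) (r : Fin chevG2.nroots) {m n : ℤ}
    (hr : ∀ i : Fin chevG2.rank, cart chevG2 i r = if i.val = 0 then m else n) (t : F) :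
    tau a b * cG2.G.xu r t * (tau a b)⁻¹ = cG2.G.xu r (((a ^ m * b ^ n : Fˣ) : F) * t) := by
  rw [tau, cG2.G.torθ_conj_xu]
  congr 2
  have : ∀ f : Fin chevG2.rank → Fˣ, ∏ i, f i = f ⟨0, by decide⟩ * f ⟨1, by decide⟩ := fun f => by
    exact Fin.prod_univ_two (f := (f : Fin 2 → Fˣ))
  rw [this, hr, hr]
  rfl

theorem eq_one_of_tau {c : Fˣ} (h : tau c 1 = 1) : c = 1 := by
  have e := tau_conj c 1 (ri 3) cart_facts.2.2.1 1
  rw [h, one_mul, inv_one, mul_one, mul_one, zpow_one, _root_.one_zpow, mul_one] at e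
  exact Units.ext (cG2.G.xu_injective _ e).symm

theorem hd_long (c : Fˣ) : cG2.G.hd (ri 11) c = tau c (c ^ 2) := by
  rw [cG2.G.hd_eq_torθ, tau]
  congr 1
  funext i
  rw [cart_facts.2.2.2.1 i]
  by_cases h : i.val = 0 <;> simp [h, zpow_ofNat]

theorem hd_short (c : Fˣ) : cG2.G.hd (ri 7) c = tau c 1 := by
  rw [cG2.G.hd_eq_torθ, tau]
  congr 1
  funext i
  rw [cart_facts.2.2.2.2 i]
  by_cases h : i.val = 0 <;> simp [h]

theorem negr_eleven : cG2.G.negr (ri 11) = ri 0 ∧ cG2.G.negr (ri 7) = ri 4 := by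
  constructor <;> refine Fin.ext ((cG2.G.negr_val _).trans ?_) <;> decide +kernel

variable [Fintype F]

theorem rHom_injective (h4 : 4 ≤ Fintype.card F) (h2 : (2 : F) ≠ 0) {r : Fin chevG2.nroots}
    (hr : r = ri 11 ∨ r = ri 7) : Function.Injective (rHom (F := F) r) := by
  classical
  rw [← MonoidHom.ker_eq_bot_iff, Subgroup.eq_bot_iff_forall]
  set π : S2 →* Matrix.ProjectiveSpecialLinearGroup (Fin 2) F := QuotientGroup.mk' _ with hπ
  have hcen : ∀ g : S2, π g = 1 → g = 1 ∨ g.1 = -1 := fun g hg => by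
    obtain ⟨c, hc2, hc⟩ := Matrix.SpecialLinearGroup.mem_center_iff.1 ((QuotientGroup.eq_one_iff g).1 hg)
    rw [Fintype.card_fin, pow_two] at hc2
    rcases mul_self_eq_one_iff.1 hc2 with e | e
    · left; refine Subtype.ext ?_; rw [← hc, e]; simp
    · right; rw [← hc, e, map_neg, map_one]
  have hneg : ∀ g : S2, g.1 = -1 → rHom r g ≠ 1 := fun g hg he => by
    have hg' : g.1 = !![((-1 : Fˣ) : F), 0; 0, (((-1 : Fˣ)⁻¹ : Fˣ) : F)] := by
      rw [hg]; ext i j; fin_cases i <;> fin_cases j <;> simp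
    rw [rHom_diag r (-1) g hg'] at he
    have : (-1 : Fˣ) = 1 := by
      refine eq_one_of_tau ?_
      rcases hr with rfl | rfl
      · rwa [hd_long, show ((-1 : Fˣ)) ^ 2 = 1 by simp] at he
      · rwa [hd_short] at he
    have h' : (-1 : F) = 1 := by simpa using congrArg Units.val this
    exact h2 (by linear_combination -h')
  haveI := (CfsgLib.Perm.Dickson.psl_simple_noncomm (F := F) (by rw [Nat.card_eq_fintype_card]; exact h4)).1
  have hn : ((rHom (F := F) r).ker.map π).Normal :=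
    Subgroup.Normal.map inferInstance π (QuotientGroup.mk'_surjective _)
  rcases hn.eq_bot_or_eq_top with h | h
  · intro g hg
    have : π g = 1 := by
      have hm : π g ∈ (rHom (F := F) r).ker.map π := ⟨g, hg, rfl⟩
      rwa [h, Subgroup.mem_bot] at hm
    exact (hcen g this).resolve_right fun e => hneg g e hg
  · exfalso
    obtain ⟨g, hg, e⟩ := (h ▸ Subgroup.mem_top _ :
      π (Fam.upper 1) ∈ (rHom (F := F) r).ker.map π)
    set z := g⁻¹ * Fam.upper (1 : F) with hz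
    have hz2 : z * z = 1 := by
      rcases hcen z (by rw [hz, map_mul, map_inv, e, inv_mul_cancel]) with e' | e'
      · rw [e', mul_one]
      · refine Subtype.ext ?_
        rw [Matrix.SpecialLinearGroup.coe_mul, e']; simp
    have hu : rHom r (Fam.upper (1 : F)) = rHom r z := by
      rw [hz, map_mul, map_inv, MonoidHom.mem_ker.1 hg, inv_one, one_mul]
    have h22 : cG2.G.xu r (2 : F) = 1 := by
      rw [← one_add_one_eq_two, cG2.G.xu_add, ← rHom_upper, hu, ← map_mul, hz2, map_one]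
    exact h2 (cG2.G.xu_injective r (h22.trans (cG2.G.xu_zero r).symm))

theorem pair_lists : ∀ a ∈ [ri 11, ri 0], ∀ b ∈ [ri 7, ri 4],
    b ≠ a ∧ b.val ≠ chevG2.neg a.val ∧ chevG2.commTerms a.val b.val = [] := by decide +kernel

theorem rHom_commute (g h : S2) : Commute (rHom (ri 11) g) (rHom (ri 7) h) := by
  have h1 : rHom (ri 11) g ∈ (rHom (F := F) (ri 11)).range := ⟨g, rfl⟩
  have h2 : rHom (ri 7) h ∈ (rHom (F := F) (ri 7)).range := ⟨h, rfl⟩
  rw [rHom, CfsgLib.Lie.SL2Rel.Fam.hom_range] at h1 h2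
  have hle : Subgroup.closure (Set.range (cG2.G.sl2Fam (K := F) (ri 11)).x ∪ Set.range (cG2.G.sl2Fam (K := F) (ri 11)).y) ≤
      Subgroup.centralizer (Subgroup.closure
        (Set.range (cG2.G.sl2Fam (K := F) (ri 7)).x ∪ Set.range (cG2.G.sl2Fam (K := F) (ri 7)).y) : Subgroup _) := by
    rw [Subgroup.centralizer_closure, Subgroup.closure_le]
    intro u hu
    rw [SetLike.mem_coe, Subgroup.mem_centralizer_iff]
    intro v hv
    have mk : ∀ {a b : Fin chevG2.nroots}, a ∈ [ri 11, ri 0] → b ∈ [ri 7, ri 4] → ∀ s t : F,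
        cG2.G.xu b t * cG2.G.xu a s = cG2.G.xu a s * cG2.G.xu b t := fun {a b} ha hb s t => by
      obtain ⟨n1, n2, n3⟩ := pair_lists a ha b hb
      exact (cG2.xu_commute n1 (fun e => n2 ((congrArg Fin.val e).trans (cG2.G.negr_val a))) n3 s t).eq.symm
    obtain ⟨n11, n7⟩ := negr_eleven
    rcases hu with ⟨s, rfl⟩ | ⟨s, rfl⟩ <;> rcases hv with ⟨t, rfl⟩ | ⟨t, rfl⟩
    · exact mk (by simp) (by simp) s t
    · show cG2.G.xu (cG2.G.negr (ri 7)) t * cG2.G.xu (ri 11) s = _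
      rw [n7]
      show _ = cG2.G.xu (ri 11) s * cG2.G.xu (cG2.G.negr (ri 7)) t
      rw [n7]; exact mk (by simp) (by simp) s t
    · show cG2.G.xu (ri 7) t * cG2.G.xu (cG2.G.negr (ri 11)) s = cG2.G.xu (cG2.G.negr (ri 11)) s * cG2.G.xu (ri 7) t
      rw [n11]; exact mk (by simp) (by simp) s t
    · show cG2.G.xu (cG2.G.negr (ri 7)) t * cG2.G.xu (cG2.G.negr (ri 11)) s =
        cG2.G.xu (cG2.G.negr (ri 11)) s * cG2.G.xu (cG2.G.negr (ri 7)) t
      rw [n11, n7]; exact mk (by simp) (by simp) s t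
  exact (Subgroup.mem_centralizer_iff.1 (hle h1) _ h2).symm

/-- products in the two commuting `SL₂`'s -/
theorem order_pair (h4 : 4 ≤ Fintype.card F) (h2 : (2 : F) ≠ 0) {A B : S2}
    (hco : (orderOf A).Coprime (orderOf B)) : ∃ g : ↥(chevG2.group F), orderOf g = orderOf A * orderOf B := by
  have i1 := orderOf_injective _ (rHom_injective h4 h2 (Or.inl rfl)) A
  have i2 := orderOf_injective _ (rHom_injective h4 h2 (Or.inr rfl)) B
  refine ⟨⟨rHom (ri 11) A * rHom (ri 7) B, mul_mem (rHom_mem _ _) (rHom_mem _ _)⟩, ?_⟩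
  rw [← Subgroup.orderOf_coe]
  show orderOf (rHom (ri 11) A * rHom (ri 7) B) = _
  rw [(rHom_commute A B).orderOf_mul_eq_mul_orderOf_of_coprime (by rwa [i1, i2]), i1, i2]

theorem order_p_mul {p : ℕ} [hp : Fact p.Prime] [CharP F p] (h4 : 4 ≤ Fintype.card F) (h2 : (2 : F) ≠ 0) :
    (∃ g : ↥(chevG2.group F), orderOf g = p * (Fintype.card F + 1)) ∧
      ∃ g : ↥(chevG2.group F), orderOf g = p * (Fintype.card F - 1) := by
  obtain ⟨P, hP⟩ := CfsgLib.Classical.PSL2Spectrum.exists_order_add_one (F := F)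
  obtain ⟨M, hM⟩ := CfsgLib.Classical.PSL2Spectrum.exists_order_sub_one (F := F)
  obtain ⟨e, -, he⟩ := FiniteField.card F p
  have hd : p ∣ Fintype.card F := he ▸ dvd_pow_self _ e.pos.ne'
  have hu : orderOf (Fam.upper (1 : F) : S2) = p := by
    have hpow : ∀ k : ℕ, (Fam.upper (1 : F) : S2) ^ k = Fam.upper (k : F) := fun k => by
      induction k with
      | zero =>
        rw [pow_zero, Nat.cast_zero]
        refine Subtype.ext ?_
        simp [Fam.upper, Matrix.one_fin_two]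
      | succ k ih =>
        rw [pow_succ, ih]
        refine Subtype.ext ?_
        rw [Matrix.SpecialLinearGroup.coe_mul]
        simp [Fam.upper, add_comm]
    refine orderOf_eq_prime ?_ fun h => ?_
    · rw [hpow, CharP.cast_eq_zero]
      refine Subtype.ext ?_
      simp [Fam.upper, Matrix.one_fin_two]
    · simpa [Fam.upper] using congrArg (fun M : S2 => M.1 0 1) h
  have c1 : Nat.Coprime p (Fintype.card F + 1) := hp.out.coprime_iff_not_dvd.2 fun h =>
    hp.out.ne_one (Nat.dvd_one.1 ((Nat.dvd_add_right hd).1 h))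
  have c2 : Nat.Coprime p (Fintype.card F - 1) := hp.out.coprime_iff_not_dvd.2 fun h => by
    have h1 := Nat.dvd_sub hd h
    rw [Nat.sub_sub_self (Fintype.card_pos (α := F))] at h1
    exact hp.out.ne_one (Nat.dvd_one.1 h1)
  refine ⟨?_, ?_⟩
  · obtain ⟨g, hg⟩ := order_pair h4 h2 (A := Fam.upper (1 : F)) (B := P) (by rw [hu, hP]; exact c1)
    exact ⟨g, by rw [hg, hu, hP]⟩
  · obtain ⟨g, hg⟩ := order_pair h4 h2 (A := Fam.upper (1 : F)) (B := M) (by rw [hu, hM]; exact c2)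
    exact ⟨g, by rw [hg, hu, hM]⟩

/-! ### The `GL₂` of the long root -/

/-- the diagonal matrix with entries `d`, one -/
def dg (d : F) : Matrix (Fin 2) (Fin 2) F := !![d, 0; 0, 1]

theorem dg_mul (a b : F) : dg a * dg b = dg (a * b) := by
  ext i j; fin_cases i <;> fin_cases j <;> simp [dg]

theorem dg_one : dg (1 : F) = 1 := by
  ext i j; fin_cases i <;> fin_cases j <;> simp [dg]

/-- conjugation by a diagonal matrix -/
def cd (d : Fˣ) (S : S2) : S2 :=
  ⟨dg (d : F) * S.1 * dg ((d⁻¹ : Fˣ) : F), by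
    rw [Matrix.det_mul, Matrix.det_mul, S.2, mul_one, ← Matrix.det_mul, dg_mul, Units.mul_inv, dg_one,
      Matrix.det_one]⟩

theorem cd_mul (d : Fˣ) (S T : S2) : cd d (S * T) = cd d S * cd d T := by
  refine Subtype.ext ?_
  show dg (d : F) * (S.1 * T.1) * dg ((d⁻¹ : Fˣ) : F) =
    dg (d : F) * S.1 * dg ((d⁻¹ : Fˣ) : F) * (dg (d : F) * T.1 * dg ((d⁻¹ : Fˣ) : F))
  simp only [Matrix.mul_assoc]
  rw [← Matrix.mul_assoc (dg ((d⁻¹ : Fˣ) : F)) (dg (d : F)), dg_mul, Units.inv_mul, dg_one, Matrix.one_mul]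

theorem tau_rHom (d : Fˣ) (S : S2) :
    tau 1 d * rHom (ri 11) S = rHom (ri 11) (cd d S) * tau 1 d := by
  have up : ∀ t, tau 1 d * rHom (ri 11) (Fam.upper t) = rHom (ri 11) (cd d (Fam.upper t)) * tau 1 d := by
    intro t
    have e := tau_conj 1 d (ri 11) cart_facts.1 t
    rw [_root_.one_zpow, one_mul, zpow_one, mul_inv_eq_iff_eq_mul] at e
    rw [rHom_upper, e, show cd d (Fam.upper t) = Fam.upper ((d : F) * t) from Subtype.ext (by
      ext i j; fin_cases i <;> fin_cases j <;> simp [cd, dg, Fam.upper]), rHom_upper]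
  have low : ∀ t, tau 1 d * rHom (ri 11) (Fam.lower t) = rHom (ri 11) (cd d (Fam.lower t)) * tau 1 d := by
    intro t
    have e := tau_conj 1 d (ri 0) cart_facts.2.1 t
    rw [_root_.one_zpow, one_mul, _root_.zpow_neg_one, mul_inv_eq_iff_eq_mul] at e
    rw [rHom_lower, negr_eleven.1, e, show cd d (Fam.lower t) = Fam.lower (((d⁻¹ : Fˣ) : F) * t) from
      Subtype.ext (by ext i j; fin_cases i <;> fin_cases j <;> simp [cd, dg, Fam.lower, mul_comm]),
      rHom_lower, negr_eleven.1]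
  have hmul : ∀ a b : S2, tau 1 d * rHom (ri 11) a = rHom (ri 11) (cd d a) * tau 1 d →
      tau 1 d * rHom (ri 11) b = rHom (ri 11) (cd d b) * tau 1 d →
      tau 1 d * rHom (ri 11) (a * b) = rHom (ri 11) (cd d (a * b)) * tau 1 d := fun a b ha hb => by
    rw [map_mul, ← mul_assoc, ha, mul_assoc, hb, cd_mul, map_mul, mul_assoc]
  refine Fam.mem_gens (P := fun S => tau 1 d * rHom (ri 11) S = rHom (ri 11) (cd d S) * tau 1 d)
    hmul up ?_ S
  have ew : (Fam.wel : S2) = Fam.lower 1 * Fam.upper (-1) * Fam.lower 1 := by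
    refine Subtype.ext ?_
    rw [Matrix.SpecialLinearGroup.coe_mul, Matrix.SpecialLinearGroup.coe_mul]
    ext i j; fin_cases i <;> fin_cases j <;> simp [Fam.wel, Fam.upper, Fam.lower, Matrix.mul_apply]
  rw [ew]
  exact hmul _ _ (hmul _ _ (low _) (up _)) (low _)

/-- the part of determinant one -/
noncomputable def sPart (M : GL (Fin 2) F) : S2 :=
  ⟨M.1 * dg ((((Matrix.GeneralLinearGroup.det M)⁻¹ : Fˣ)) : F), by
    rw [Matrix.det_mul]
    simp [dg, Matrix.det_fin_two]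
    rw [← Matrix.det_fin_two]
    exact mul_inv_cancel₀ ((Matrix.isUnit_iff_isUnit_det _).1 M.isUnit).ne_zero⟩

/-- the homomorphism from `GL₂` -/
noncomputable def glHom : GL (Fin 2) F →* GL chevG2.Idx F :=
  MonoidHom.mk' (fun M => rHom (ri 11) (sPart M) * tau 1 (Matrix.GeneralLinearGroup.det M)) fun M N => by
    have e : sPart (M * N) = sPart M * cd (Matrix.GeneralLinearGroup.det M) (sPart N) := by
      refine Subtype.ext ?_
      show (M * N).1 * dg _ = M.1 * dg _ * (dg _ * (N.1 * dg _) * dg _)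
      simp only [Matrix.mul_assoc, dg_mul, ← Matrix.mul_assoc (dg _) (dg _), Units.val_mul,
        map_mul, _root_.mul_inv_rev, Units.inv_mul, dg_one, Matrix.one_mul]
    show rHom (ri 11) (sPart (M * N)) * _ = _
    rw [e, map_mul (rHom (ri 11)), map_mul Matrix.GeneralLinearGroup.det,
      ← one_mul (1 : Fˣ), ← tau_mul, one_mul, mul_assoc, ← mul_assoc _ (tau 1 _) (tau 1 _), ← tau_rHom]
    simp only [mul_assoc]

theorem glHom_mem (M : GL (Fin 2) F) : glHom M ∈ chevG2.group F :=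
  mul_mem (rHom_mem _ _) (tau_mem _ _)

theorem glHom_toGL (S : S2) : glHom (Matrix.SpecialLinearGroup.toGL S) = rHom (ri 11) S := by
  have hd : Matrix.GeneralLinearGroup.det (Matrix.SpecialLinearGroup.toGL S) = 1 := Units.ext S.2
  show rHom (ri 11) (sPart _) * tau 1 _ = _
  rw [hd, show tau (1 : Fˣ) (1 : Fˣ) = 1 by rw [tau]; simp [show (fun _ : Fin chevG2.rank => (1 : Fˣ)) = 1 from rfl],
    mul_one]
  congr 1
  refine Subtype.ext ?_
  show S.1 * dg _ = S.1
  rw [hd]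
  simp [dg_one]

theorem glHom_injective (h4 : 4 ≤ Fintype.card F) (h2 : (2 : F) ≠ 0) : Function.Injective (glHom (F := F)) := by
  rw [← MonoidHom.ker_eq_bot_iff, Subgroup.eq_bot_iff_forall]
  intro M hM
  have hc : ∀ S : S2, M.1 * S.1 = S.1 * M.1 := fun S => by
    obtain ⟨S', hS'⟩ : ∃ S' : S2, Matrix.SpecialLinearGroup.toGL S' = M * Matrix.SpecialLinearGroup.toGL S * M⁻¹ :=
      ⟨⟨(M * Matrix.SpecialLinearGroup.toGL S * M⁻¹).1, by
        rw [Units.val_mul, Units.val_mul, Matrix.det_units_conj]; exact S.2⟩, Units.ext rfl⟩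
    have : S' = S := rHom_injective h4 h2 (Or.inl rfl) (by
      rw [← glHom_toGL, ← glHom_toGL, hS', map_mul, map_mul, map_inv, MonoidHom.mem_ker.1 hM]; simp)
    rw [this, eq_mul_inv_iff_mul_eq] at hS'
    exact (congrArg Units.val hS').symm
  obtain ⟨e01, e10, e00⟩ : M.1 0 1 = 0 ∧ M.1 1 0 = 0 ∧ M.1 0 0 = M.1 1 1 :=
    CfsgLib.Classical.G2Quat.scalar_of_commute_pair (hc (Fam.upper 1)) (hc (Fam.lower 1)) fun h => by
      have := congrFun (congrFun h 0) 0
      simp [Fam.upper, Fam.lower, Matrix.mul_apply] at this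
  set c := M.1 0 0 with hcdef
  have hdet : ((Matrix.GeneralLinearGroup.det M : Fˣ) : F) = c * c := by
    show M.1.det = _
    rw [Matrix.det_fin_two, e01, ← e00]; ring
  have hc0 : c ≠ 0 := fun h => (Matrix.GeneralLinearGroup.det M).ne_zero (by rw [hdet, h, mul_zero])
  set u := Units.mk0 c hc0
  have hdu : Matrix.GeneralLinearGroup.det M = u * u := Units.ext hdet
  have hS : rHom (ri 11) (sPart M) = cG2.G.hd (ri 11) u⁻¹ := by
    refine rHom_diag _ _ _ ?_
    show M.1 * dg _ = _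
    rw [hdu]
    ext i j
    fin_cases i <;> fin_cases j <;> simp [dg, u, Matrix.mul_apply, e01, e10, ← e00, ← hcdef] <;> field_simp
  have h1 : tau u⁻¹ 1 = 1 := by
    have := MonoidHom.mem_ker.1 hM
    rw [show glHom M = rHom (ri 11) (sPart M) * tau 1 (Matrix.GeneralLinearGroup.det M) from rfl, hS,
      hd_long, tau_mul, mul_one, hdu, ← pow_two, inv_pow, inv_mul_cancel] at this
    exact this
  have hu : u = 1 := inv_eq_one.1 (eq_one_of_tau h1)
  have hc1 : c = 1 := congrArg Units.val hu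
  refine Units.ext (Matrix.ext fun i j => ?_)
  fin_cases i <;> fin_cases j <;> simp [e01, e10, ← e00, hc1, ← hcdef]

/-- a Singer cycle of `GL₂` -/
theorem exists_singer : ∃ M : GL (Fin 2) F, orderOf M = Fintype.card F ^ 2 - 1 := by
  classical
  obtain ⟨p, hc⟩ := CharP.exists F
  obtain ⟨e, hp, -⟩ := FiniteField.card F p
  haveI := Fact.mk hp
  haveI : Finite (FiniteField.Extension F p 2) := inferInstance
  let b : Module.Basis (Fin 2) F (FiniteField.Extension F p 2) :=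
    (Module.finBasis F (FiniteField.Extension F p 2)).reindex
      (finCongr (FiniteField.finrank_extension (k := F) (p := p) (n := 2)))
  let f : (FiniteField.Extension F p 2)ˣ →* GL (Fin 2) F := Units.map (Algebra.leftMulMatrix b).toRingHom.toMonoidHom
  have hf : Function.Injective f := Units.map_injective (Algebra.leftMulMatrix_injective b)
  obtain ⟨x, hx⟩ := IsCyclic.exists_ofOrder_eq_natCard (α := (FiniteField.Extension F p 2)ˣ)
  refine ⟨f x, ?_⟩
  rw [orderOf_injective f hf, hx, Nat.card_units, Module.natCard_eq_pow_finrank (K := F),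
    FiniteField.finrank_extension, Nat.card_eq_fintype_card]

theorem order_sq_sub_one (h4 : 4 ≤ Fintype.card F) (h2 : (2 : F) ≠ 0) :
    ∃ g : ↥(chevG2.group F), orderOf g = Fintype.card F ^ 2 - 1 := by
  obtain ⟨M, hM⟩ := exists_singer (F := F)
  refine ⟨⟨glHom M, glHom_mem M⟩, ?_⟩
  rw [← Subgroup.orderOf_coe]
  show orderOf (glHom M) = _
  rw [orderOf_injective _ (glHom_injective h4 h2), hM]

theorem eval_cyclotomic_six' (x : ℤ) : (Polynomial.cyclotomic 6 ℤ).eval x = x ^ 2 - x + 1 := by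
  rw [Polynomial.cyclotomic_six]; simp

/-- the torus of order `q² - q + 1` -/
theorem cox_six [Fintype F] (hq : 4 ≤ Fintype.card F) :
    ∃ H : Subgroup ↥(chevG2.group F), IsCyclic ↥H ∧
      Nat.card ↥H = Fintype.card F ^ 2 - Fintype.card F + 1 := by
  set q := Fintype.card F
  have hqq : q ≤ q ^ 2 := Nat.le_self_pow two_ne_zero q
  have hev : (Polynomial.cyclotomic 6 ℤ).eval (q : ℤ) = ((q ^ 2 - q + 1 : ℕ) : ℤ) := by
    rw [eval_cyclotomic_six']; push_cast [Nat.cast_sub hqq]; ring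
  have h9 : ¬ 3 ^ 2 ∣ q ^ 2 - q + 1 := fun h => by
    have h0 : ((q ^ 2 - q + 1 : ℕ) : ZMod 9) = 0 := (ZMod.natCast_eq_zero_iff _ _).2 h
    push_cast [Nat.cast_sub hqq] at h0
    generalize (q : ZMod 9) = z at h0
    revert h0; revert z; decide +kernel
  have h2' : ¬ 2 ∣ q ^ 2 - q + 1 := fun h => by
    have h0 : ((q ^ 2 - q + 1 : ℕ) : ZMod 2) = 0 := (ZMod.natCast_eq_zero_iff _ _).2 h
    push_cast [Nat.cast_sub hqq] at h0
    generalize (q : ZMod 2) = z at h0
    revert h0; revert z; decide +kernel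
  obtain ⟨r, hr, hrd, hr3⟩ := exists_prime_ne
    (show 3 < q ^ 2 - q + 1 by
      have : 4 * q ≤ q ^ 2 := by rw [pow_two]; exact Nat.mul_le_mul hq le_rfl
      omega) Nat.prime_three h9
  have hr6 : ¬ r ∣ 6 := fun hd => by
    rcases (Nat.Prime.dvd_mul hr).1 (show r ∣ 2 * 3 from hd) with h' | h'
    · exact h2' ((Nat.prime_dvd_prime_iff_eq hr Nat.prime_two).1 h' ▸ hrd)
    · exact hr3 h'
  obtain ⟨hprim, hdvd⟩ := primitive_of_dvd_eval hr hr6 (q := q)
    (by rw [hev]; exact Int.natCast_dvd_natCast.2 hrd)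
  have hr7 : 7 ≤ r := by
    have h2 := hr.two_le
    by_contra hlt
    interval_cases r <;> first | (norm_num at hr; done) | omega
  obtain ⟨H, hH, hcard, -⟩ := exists_cox_subgroup (F := F) cG2 kerG2_ok rfl degG2 (h := 6) (by norm_num)
    (by decide +kernel) ⟨⟨1, by decide +kernel⟩, by decide +kernel⟩ hr
    (fun i hd => by
      have hb : ∀ i : Fin chevG2.rank, 0 < vecOfList [2, 6] i ∧ vecOfList [2, 6] i < 7 := by
        decide +kernel
      exact absurd (Nat.le_of_dvd (hb i).1 hd) (by have := (hb i).2; omega))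
    uG2 uG2_tri (vecOfList [1, 3]) (B := 12) (by unfold qlen; decide +kernel)
    (bound_mono (r₀ := 7) (by decide +kernel) hr7) hprim (fun ℓ hℓ hℓ6 => by
      rw [hev, Int.natAbs_natCast]
      rcases (Nat.Prime.dvd_mul hℓ).1 (show ℓ ∣ 2 * 3 from hℓ6) with h' | h'
      · rw [(Nat.prime_dvd_prime_iff_eq hℓ Nat.prime_two).1 h']
        exact fun h => h2' ((dvd_pow_self 2 two_ne_zero).trans h)
      · rw [(Nat.prime_dvd_prime_iff_eq hℓ Nat.prime_three).1 h']
        exact h9)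
  rw [hev, Int.natAbs_natCast] at hcard
  exact ⟨H, hH, hcard⟩

theorem exists_of_cyclic {G : Type*} [Group G] {H : Subgroup G} [Finite H] (hH : IsCyclic H) :
    ∃ g : G, orderOf g = Nat.card H := by
  haveI := hH
  obtain ⟨y, hy⟩ := IsCyclic.exists_ofOrder_eq_natCard (α := H)
  exact ⟨y, by rw [Subgroup.orderOf_coe, hy]⟩

theorem order_cyclic (hq : 4 ≤ Fintype.card F) :
    (∃ g : ↥(chevG2.group F), orderOf g = Fintype.card F ^ 2 + Fintype.card F + 1) ∧
      ∃ g : ↥(chevG2.group F), orderOf g = Fintype.card F ^ 2 - Fintype.card F + 1 := by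
  refine ⟨?_, ?_⟩
  · obtain ⟨H, hH, hcard, -⟩ := coxG2 (F := F) (by omega)
    obtain ⟨g, hg⟩ := exists_of_cyclic hH
    exact ⟨g, hg.trans hcard⟩
  · obtain ⟨H, hH, hcard⟩ := cox_six hq
    obtain ⟨g, hg⟩ := exists_of_cyclic hH
    exact ⟨g, hg.trans hcard⟩

/-- the order of the word is a power of the characteristic, at least its square -/
theorem order_word (p : ℕ) [hp : Fact p.Prime] [CharP F p] (h : p = 3 ∨ p = 5) :
    ∃ g : ↥(chevG2.group F), ∃ j, orderOf g = p ^ j ∧ 2 ≤ j := by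
  obtain ⟨e, -, he⟩ := FiniteField.card F p
  refine ⟨⟨word F, cG2.G.posUnipotent_le_group word_mem_pos⟩, ?_⟩
  rw [← Subgroup.orderOf_coe]
  show ∃ j, orderOf (word F) = p ^ j ∧ 2 ≤ j
  have hd : orderOf (word F) ∣ Nat.card (chevG2.posUnipotent F) :=
    Subgroup.orderOf_dvd_natCard _ word_mem_pos
  rw [cG2.posUnipotent_card, he, ← pow_mul] at hd
  obtain ⟨j, -, hj⟩ := (Nat.dvd_prime_pow hp.out).1 hd
  refine ⟨j, hj, ?_⟩
  by_contra hlt
  refine word_pow_ne (F := F) p h (orderOf_dvd_iff_pow_eq_one.1 ?_)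
  rw [hj]
  exact (pow_dvd_pow p (show j ≤ 1 by omega)).trans (pow_one p).dvd

end CfsgLib.Lie.G2OddExist
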