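import Cfsg.Agent.Lib.Lie.G2.OddDiag

/-!
# Element orders of the automorphism group of the split octonions in odd characteristic
-/

set_option autoImplicit false
set_option linter.unusedSectionVars false

namespace CfsgLib.Lie.G2Odd

open Matrix Cfsg.Lie CfsgLib.Lie.G2Oct CfsgLib.Lie.G2Weights
open CfsgLib.Classical.G2Quat hiding dd

section split

variable {K : Type*} [Field K]

/-- powers of a unipotent matrix on an eigenspace of small dimension -/
theorem pow_fix {p : ℕ} [hp : Fact p.Prime] [CharP K p] {v : Matrix (Fin 8) (Fin 8) K} {d : Fin 8 → K}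
    (hc : v * Matrix.diagonal d = Matrix.diagonal d * v) {k : ℕ} (hv : v ^ p ^ k = 1) {i : Fin 8}
    {t : ℕ} [DecidablePred fun j => d j = d i]
    (ht : (Finset.univ.filter fun j => d j = d i).card ≤ p ^ t) :
    (v ^ p ^ t) *ᵥ Pi.single i 1 = Pi.single i 1 := by
  classical
  let emb : {j // d j = d i} → Fin 8 := Subtype.val
  have hcm : ∀ m : ℕ, v ^ m * Matrix.diagonal d = Matrix.diagonal d * v ^ m := fun m =>
    ((Commute.pow_left (show Commute v (Matrix.diagonal d) from hc) m)).eq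
  have hsub : ∀ m : ℕ, (v ^ m).submatrix emb emb = (v.submatrix emb emb) ^ m := by
    intro m
    induction m with
    | zero =>
      rw [pow_zero, pow_zero]
      exact Matrix.submatrix_one _ Subtype.val_injective
    | succ m ih =>
      rw [pow_succ, pow_succ, ← ih]
      ext ⟨a, ha⟩ ⟨b, hb⟩
      simp only [Matrix.submatrix_apply, Matrix.mul_apply, emb]
      rw [← Finset.sum_filter_add_sum_filter_not Finset.univ (fun j => d j = d i),
        Finset.sum_eq_zero (s := Finset.univ.filter fun j => ¬ d j = d i) (fun j hj => by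
          rw [apply_eq_zero hc (i := j) (j := b) (fun e => (Finset.mem_filter.1 hj).2 (e.trans hb)),
            mul_zero]), add_zero]
      exact (Finset.sum_subtype _ (by simp) _)
  set B := v.submatrix emb emb with hB
  haveI : CharP (Matrix {j // d j = d i} {j // d j = d i} K) p := by
    haveI : Nonempty {j // d j = d i} := ⟨⟨i, rfl⟩⟩
    infer_instance
  have hsub1 : ∀ m : ℕ, B ^ p ^ m - 1 = (B - 1) ^ p ^ m := fun m => by
    rw [sub_pow_char_pow_of_commute _ _ (Commute.one_right B), one_pow]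
  have hnil : IsNilpotent (B - 1) := ⟨p ^ k, by
    rw [← hsub1, ← hsub, hv, sub_eq_zero]; exact Matrix.submatrix_one _ Subtype.val_injective⟩
  have hN : (B - 1) ^ Fintype.card {j // d j = d i} = 0 := by
    have h1 := (Matrix.isNilpotent_charpoly_sub_pow_of_isNilpotent hnil).eq_zero
    have h2 := Matrix.aeval_self_charpoly (B - 1)
    rw [sub_eq_zero.1 h1] at h2
    simpa using h2
  have h1 : (v ^ p ^ t).submatrix emb emb = 1 := by
    rw [hsub, ← sub_eq_zero, hsub1]
    refine pow_eq_zero_of_le ?_ hN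
    rw [Fintype.card_subtype]
    exact ht
  rw [Matrix.mulVec_single_one]
  funext j
  rw [Matrix.col_apply]
  by_cases hj : d j = d i
  · have := congrFun (congrFun h1 ⟨j, hj⟩) ⟨i, rfl⟩
    rw [Matrix.submatrix_apply] at this
    rw [show (v ^ p ^ t) j i = _ from this, Matrix.one_apply]
    by_cases e : j = i <;> simp [Pi.single_apply, e, Subtype.ext_iff]
  · rw [apply_eq_zero (hcm _) hj, Pi.single_eq_of_ne (fun e => hj (by rw [e]))]

/-- the weight spaces of two pairs generate the algebra -/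
theorem eq_one_of_fix (v : G2 K)
    (hfix : (v.1.1 *ᵥ Pi.single 1 1 = Pi.single 1 1 ∧ v.1.1 *ᵥ Pi.single 4 1 = Pi.single 4 1 ∧
        v.1.1 *ᵥ Pi.single 2 1 = Pi.single 2 1 ∧ v.1.1 *ᵥ Pi.single 5 1 = Pi.single 5 1) ∨
      (v.1.1 *ᵥ Pi.single 1 1 = Pi.single 1 1 ∧ v.1.1 *ᵥ Pi.single 4 1 = Pi.single 4 1 ∧
        v.1.1 *ᵥ Pi.single 3 1 = Pi.single 3 1 ∧ v.1.1 *ᵥ Pi.single 6 1 = Pi.single 6 1) ∨
      (v.1.1 *ᵥ Pi.single 2 1 = Pi.single 2 1 ∧ v.1.1 *ᵥ Pi.single 5 1 = Pi.single 5 1 ∧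
        v.1.1 *ᵥ Pi.single 3 1 = Pi.single 3 1 ∧ v.1.1 *ᵥ Pi.single 6 1 = Pi.single 6 1)) : v = 1 := by
  classical
  set P : (Fin 8 → K) → Prop := fun x => v.1.1 *ᵥ x = x with hP
  have hmul : ∀ {x y : Fin 8 → K}, P x → P y → P (zornMul x y) := fun {x y} hx hy => by
    show v.1.1 *ᵥ _ = _
    rw [mem_G2.1 v.2, hx, hy]
  have hneg : ∀ {x : Fin 8 → K}, P (-x) → P x := fun {x} hx => by
    have := hx
    simp only [hP, Matrix.mulVec_neg, neg_inj] at this
    exact this
  let δ : Fin 8 → Fin 8 → K := fun i => Pi.single i 1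
  have p0 : zornMul (δ 1) (δ 4) = δ 0 ∧ zornMul (δ 2) (δ 5) = δ 0 ∧ zornMul (δ 4) (δ 1) = δ 7 ∧
      zornMul (δ 5) (δ 2) = δ 7 := by
    refine ⟨?_, ?_, ?_, ?_⟩ <;> funext i <;> fin_cases i <;> simp [δ, zornMul, dot3, cross3]
  have pc : zornMul (δ 5) (δ 6) = -δ 1 ∧ zornMul (δ 4) (δ 6) = δ 2 ∧ zornMul (δ 4) (δ 5) = -δ 3 ∧
      zornMul (δ 2) (δ 3) = δ 4 ∧ zornMul (δ 1) (δ 3) = -δ 5 ∧ zornMul (δ 1) (δ 2) = δ 6 := by
    refine ⟨?_, ?_, ?_, ?_, ?_, ?_⟩ <;> funext i <;> fin_cases i <;>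
      simp [δ, zornMul, dot3, cross3]
  obtain ⟨q1, q2, q3, q4⟩ := p0
  obtain ⟨c1, c2, c3, c4, c5, c6⟩ := pc
  have six : P (δ 1) ∧ P (δ 2) ∧ P (δ 3) ∧ P (δ 4) ∧ P (δ 5) ∧ P (δ 6) := by
    rcases hfix with ⟨u1, u4, u2, u5⟩ | ⟨u1, u4, u3, u6⟩ | ⟨u2, u5, u3, u6⟩
    · exact ⟨u1, u2, hneg (c3 ▸ hmul u4 u5), u4, u5, c6 ▸ hmul u1 u2⟩
    · exact ⟨u1, c2 ▸ hmul u4 u6, u3, u4, hneg (c5 ▸ hmul u1 u3), u6⟩
    · exact ⟨hneg (c1 ▸ hmul u5 u6), u2, u3, c4 ▸ hmul u2 u3, u5, u6⟩
  obtain ⟨u1, u2, u3, u4, u5, u6⟩ := six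
  have all : ∀ i, P (δ i) := by
    intro i
    fin_cases i
    exacts [q1 ▸ hmul u1 u4, u1, u2, u3, u4, u5, u6, q3 ▸ hmul u4 u1]
  refine Subtype.ext (Units.ext (Matrix.ext_of_mulVec_single fun i => ?_))
  rw [show v.1.1 *ᵥ Pi.single i 1 = Pi.single i 1 from all i]
  exact (Matrix.one_mulVec _).symm

/-- a unipotent matrix of size two -/
theorem pow_char_two {p : ℕ} [hp : Fact p.Prime] [CharP K p] {M : Matrix (Fin 2) (Fin 2) K} {k : ℕ}
    (h : M ^ p ^ k = 1) : M ^ p = 1 := by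
  haveI : CharP (Matrix (Fin 2) (Fin 2) K) p := inferInstance
  have hs : ∀ m : ℕ, M ^ p ^ m - 1 = (M - 1) ^ p ^ m := fun m => by
    rw [sub_pow_char_pow_of_commute _ _ (Commute.one_right M), one_pow]
  have hnil : IsNilpotent (M - 1) := ⟨p ^ k, by rw [← hs, h, sub_self]⟩
  have hN : (M - 1) ^ Fintype.card (Fin 2) = 0 := by
    have h1 := (Matrix.isNilpotent_charpoly_sub_pow_of_isNilpotent hnil).eq_zero
    have h2 := Matrix.aeval_self_charpoly (M - 1)
    rw [sub_eq_zero.1 h1] at h2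
    simpa using h2
  have := hs 1
  rw [pow_one, pow_eq_zero_of_le (by rw [Fintype.card_fin]; exact hp.out.two_le) hN] at this
  exact sub_eq_zero.1 this

/-- a unipotent element commuting with the doubling involution -/
theorem pow_eq_one_of_invol [IsAlgClosed K] {p : ℕ} [hp : Fact p.Prime] [CharP K p] (h2 : (2 : K) ≠ 0)
    {v : G2 K} (hc : Commute v (Phi negPair)) {k : ℕ} (hv : v ^ p ^ k = 1) : v ^ p = 1 := by
  obtain ⟨w, rfl⟩ := mem_range_of_commute h2 hc
  rw [← map_pow] at hv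
  obtain ⟨e, c, hcs⟩ := mem_ker_Phi hv
  obtain ⟨d, hd⟩ := IsAlgClosed.exists_pow_nat_eq c (pow_pos hp.out.pos k)
  have hc0 : c ≠ 0 := by
    intro h0
    have := ((Matrix.isUnit_iff_isUnit_det _).1 (w ^ p ^ k).1.1.isUnit).ne_zero
    rw [hcs, h0, zero_smul, Matrix.det_zero] at this
    exact this rfl
  have hd0 : d ≠ 0 := fun h0 => hc0 (by rw [← hd, h0, zero_pow (pow_pos hp.out.pos k).ne'])
  have key : ∀ g : GL (Fin 2) K, (g ^ p ^ k).1 = c • 1 → (g ^ p).1 = d ^ p • 1 := fun g hg => by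
    have h1 : (d⁻¹ • g.1) ^ p = 1 := by
      refine pow_char_two (k := k) ?_
      rw [smul_pow, ← Units.val_pow_eq_pow_val, hg, smul_smul, inv_pow, hd, inv_mul_cancel₀ hc0, one_smul]
    rw [smul_pow, inv_pow, inv_smul_eq_iff₀ (pow_ne_zero _ hd0)] at h1
    rw [Units.val_pow_eq_pow_val, h1]
  have e1 := key w.1.1 hcs
  have e2 := key w.1.2 (by rw [← hcs, e]; rfl)
  rw [← map_pow]
  refine g2_ext fun x => L.injective ?_
  rw [Phi_mulVec, OneMemClass.coe_one, Units.val_one, Matrix.one_mulVec]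
  have he : (w ^ p).1.1 = (w ^ p).1.2 := Units.ext (show (w.1.1 ^ p).1 = (w.1.2 ^ p).1 by rw [e1, e2])
  have hk : ∀ M : Matrix (Fin 2) (Fin 2) K, (w ^ p).1.1.1 * M * (((w ^ p).1.1)⁻¹).1 = M := fun M => by
    have hcm : (w ^ p).1.1.1 * M = M * (w ^ p).1.1.1 := by
      show (w.1.1 ^ p).1 * M = M * (w.1.1 ^ p).1
      rw [e1, Matrix.smul_mul, Matrix.mul_smul, Matrix.one_mul, Matrix.mul_one]
    rw [hcm, Matrix.mul_assoc, Units.mul_inv, Matrix.mul_one]
  refine Prod.ext (hk _) ?_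
  show (w ^ p).1.1.1 * _ * (((w ^ p).1.2)⁻¹).1 = _
  rw [← he]
  exact hk _

/-- the doubling involution in diagonal form -/
theorem phi_negPair : (Phi (negPair (F := K))).1.1 = Matrix.diagonal (dd (1 : K) (-1) (-1)) := by
  refine Matrix.ext_of_mulVec_single fun i => L.injective ?_
  rw [Phi_mulVec, actL_negPair, Matrix.diagonal_mulVec_single, mul_one]
  fin_cases i <;> refine Prod.ext ?_ ?_ <;> ext r s <;> fin_cases r <;> fin_cases s <;>
    simp [L, dd, inv_neg]

/-- cyclic permutation of the three weights -/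
theorem exists_rot {a b c : K} (h : a * b * c = 1) :
    ∃ g : G2 K, g.1.1 * Matrix.diagonal (dd a b c) = Matrix.diagonal (dd b c a) * g.1.1 := by
  let T : Matrix (Fin 3) (Fin 3) K := !![0, 1, 0; 0, 0, 1; 1, 0, 0]
  obtain ⟨g, hg⟩ := exists_G2_T (T := T) (by simp [T, Matrix.det_fin_three])
  refine ⟨g, Matrix.ext_of_mulVec_single fun i => ?_⟩
  rw [← Matrix.mulVec_mulVec, ← Matrix.mulVec_mulVec, hg, hg, ← actT_diagonal h,
    ← actT_diagonal (show b * c * a = 1 by rw [← h]; ring), actT_comp, actT_comp]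
  rw [show T * Matrix.diagonal ![a, b, c] = Matrix.diagonal ![b, c, a] * T by
    ext r s
    fin_cases r <;> fin_cases s <;> simp [T, Matrix.mul_apply, Fin.sum_univ_three, Matrix.diagonal]]

/-- a unipotent element commuting with a diagonal involution -/
theorem pow_eq_one_of_two_neg [IsAlgClosed K] {p : ℕ} [hp : Fact p.Prime] [CharP K p] (h2 : (2 : K) ≠ 0)
    {s v : G2 K} {a b c : K} (h : a * b * c = 1) (hs : s.1.1 = Matrix.diagonal (dd a b c))
    (hI : (a = -1 ∧ b = -1) ∨ (a = -1 ∧ c = -1) ∨ (b = -1 ∧ c = -1)) (hc : Commute v s) {k : ℕ}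
    (hv : v ^ p ^ k = 1) : v ^ p = 1 := by
  obtain ⟨g₁, hg₁⟩ := exists_rot h
  obtain ⟨g₂, hg₂⟩ := exists_rot (show b * c * a = 1 by rw [← h]; ring)
  have go : ∀ g : G2 K, (g * s * g⁻¹).1.1 = Matrix.diagonal (dd 1 (-1) (-1)) → v ^ p = 1 := fun g e => by
    have e' : MulAut.conj g s = Phi negPair := Subtype.ext (Units.ext (by
      rw [phi_negPair, ← e]; rfl))
    have := pow_eq_one_of_invol h2 (v := MulAut.conj g v) (by rw [← e']; exact hc.map (MulAut.conj g).toMonoidHom)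
      (k := k) (by rw [← map_pow, hv, map_one])
    rwa [← map_pow, map_eq_one_iff _ (MulAut.conj g).injective] at this
  have conjval : ∀ (g t : G2 K) (D D' : Matrix (Fin 8) (Fin 8) K), t.1.1 = D → g.1.1 * D = D' * g.1.1 →
      (g * t * g⁻¹).1.1 = D' := fun g t D D' e e' => by
    rw [Subgroup.coe_mul, Subgroup.coe_mul, Units.val_mul, Units.val_mul, e, e', Subgroup.coe_inv,
      Matrix.mul_assoc, Units.mul_inv, Matrix.mul_one]
  rcases hI with ⟨ha, hb⟩ | ⟨ha, hc'⟩ | ⟨hb, hc'⟩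
  · have hc1 : c = 1 := by simpa [ha, hb] using h
    refine go (g₂ * g₁) ?_
    rw [show g₂ * g₁ * s * (g₂ * g₁)⁻¹ = g₂ * (g₁ * s * g₁⁻¹) * g₂⁻¹ by group,
      conjval g₂ _ _ _ (conjval g₁ s _ _ hs hg₁) hg₂, ha, hb, hc1]
  · have hb1 : b = 1 := by simpa [ha, hc'] using h
    refine go g₁ ?_
    rw [conjval g₁ s _ _ hs hg₁, ha, hb1, hc']
  · have ha1 : a = 1 := by simpa [hb, hc'] using h
    refine go 1 ?_
    rw [one_mul, inv_one, mul_one, hs, ha1, hb, hc']

end split

/-! ### Element orders -/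

variable {F : Type*} [Field F] [Fintype F]

/-- unipotent elements -/
theorem pow_unip {p : ℕ} [hp : Fact p.Prime] [CharP F p] (h2 : (2 : F) ≠ 0) {u : G2 F} {k : ℕ}
    (hu : u ^ p ^ k = 1) : u ^ p ^ 2 = 1 ∧ (7 ≤ p → u ^ p = 1) := by
  classical
  set N : Module.End F (Fin 8 → F) := Matrix.toLinAlgEquiv' u.1.1 - 1 with hN
  haveI : CharP (Module.End F (Fin 8 → F)) p :=
    charP_of_injective_algebraMap (FaithfulSMul.algebraMap_injective F _) p
  have hs : ∀ m : ℕ, Matrix.toLinAlgEquiv' (u ^ p ^ m).1.1 - 1 = N ^ p ^ m := fun m => by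
    rw [hN, sub_pow_char_pow_of_commute _ _ (Commute.one_right _), one_pow, ← map_pow]
    simp
  have hnil : IsNilpotent N := ⟨p ^ k, by rw [← hs, hu]; simp⟩
  let W : Submodule F (Fin 8 → F) :=
    { carrier := {x | tt x = 0}
      add_mem' := fun {x y} hx hy => by
        simp only [Set.mem_setOf_eq, tt, Pi.add_apply] at hx hy ⊢
        linear_combination hx + hy
      zero_mem' := by simp [tt]
      smul_mem' := fun c x hx => by
        simp only [Set.mem_setOf_eq] at hx ⊢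
        rw [tt_smul, hx, mul_zero] }
  have happ : ∀ x, N x = u.1.1 *ᵥ x - x := fun x => by
    simp [hN, Matrix.toLinAlgEquiv'_apply]
  have himg : ∀ x, N x ∈ W := fun x => by
    show tt (N x) = 0
    have : tt (u.1.1 *ᵥ x - x) = tt (u.1.1 *ᵥ x) - tt x := by simp [tt]; ring
    rw [happ, this, (tt_qn u x).1, sub_self]
  set M := N.restrict (p := W) (q := W) (fun x _ => himg x) with hM
  have hMnil : IsNilpotent M := Module.End.isNilpotent.restrict _ hnil
  have hW7 : Module.finrank F W ≤ 7 := by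
    have hlt : W < ⊤ := lt_of_le_of_ne le_top fun e => by
      have : (uu : Fin 8 → F) ∈ W := e ▸ Submodule.mem_top
      exact h2 (by
        have h : tt (uu : Fin 8 → F) = 0 := this
        simpa [tt, uu, one_add_one_eq_two] using h)
    have := Submodule.finrank_lt_finrank_of_lt hlt
    rw [finrank_top, Module.finrank_fin_fun] at this
    omega
  have hM7 : M ^ 7 = 0 := by
    have h := LinearMap.aeval_self_charpoly M
    rw [(LinearMap.isNilpotent_iff_charpoly M).1 hMnil] at h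
    refine pow_eq_zero_of_le hW7 ?_
    simpa using h
  have hmain : ∀ x, (N ^ 7) x = 0 := fun x => by
    set t := tt x / 2 with ht
    have hsplit : x = t • (uu : Fin 8 → F) + (x - t • uu) := by abel
    have hy : x - t • uu ∈ W := by
      show tt _ = 0
      simp [tt, uu, ht]
      field_simp
      ring
    have hNu : N (uu : Fin 8 → F) = 0 := by rw [happ, map_uu, sub_self]
    have h7 : (N ^ 7) (uu : Fin 8 → F) = 0 := by
      rw [pow_succ, Module.End.mul_apply, hNu, map_zero]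
    rw [hsplit, map_add, map_smul, h7, smul_zero, zero_add]
    have := congrArg (fun L : Module.End F W => (L ⟨_, hy⟩).1) hM7
    rw [hM, Module.End.pow_restrict _] at this
    simpa using this
  have fin : ∀ m, 7 ≤ p ^ m → u ^ p ^ m = 1 := fun m hm => by
    have e : N ^ p ^ m = 0 := by
      refine pow_eq_zero_of_le hm (LinearMap.ext fun x => ?_)
      simpa using hmain x
    rw [← hs, sub_eq_zero] at e
    refine Subtype.ext (Units.ext ?_)
    exact Matrix.toLinAlgEquiv'.injective (by rw [e]; simp)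
  refine ⟨fin 2 ?_, fun h7 => by simpa using fin 1 (by simpa using h7)⟩
  have h3 : 3 ≤ p := by
    rcases hp.out.eq_two_or_odd with e | e
    · exact absurd (by subst e; exact_mod_cast CharP.cast_eq_zero F 2) h2
    · have := hp.out.two_le; omega
  nlinarith

/-- the orders of the elements of the automorphism group -/
theorem order_dvd {p : ℕ} [hp : Fact p.Prime] [CharP F p] (hp2 : p ≠ 2) (h : G2 F) :
    ∃ m ∈ ({p * (Fintype.card F + 1), p * (Fintype.card F - 1), Fintype.card F ^ 2 - 1,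
      Fintype.card F ^ 2 + Fintype.card F + 1, Fintype.card F ^ 2 - Fintype.card F + 1} : Set ℕ) ∪
      (if p = 3 ∨ p = 5 then ({p ^ 2} : Set ℕ) else ∅), orderOf h ∣ m := by
  classical
  set q := Fintype.card F with hqdef
  have hpr := hp.out
  have hp3 : 3 ≤ p := by have := hpr.two_le; omega
  have hpo : Odd p := hpr.odd_of_ne_two hp2
  have h2F : (2 : F) ≠ 0 := Ring.two_ne_zero (by rw [ringChar.eq F p]; exact hp2)
  haveI : Finite (G2 F) := inferInstance
  obtain ⟨k, n, hnp, hN⟩ := Nat.exists_eq_pow_mul_and_not_dvd (orderOf_pos h).ne' p hpr.ne_one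
  have hn0 : n ≠ 0 := fun e => hnp (e ▸ dvd_zero p)
  have hcop : p.Coprime n := hpr.coprime_iff_not_dvd.2 hnp
  have hsN : (h ^ p ^ k) ^ n = 1 := by rw [← pow_mul, ← hN, pow_orderOf_eq_one]
  have huK : (h ^ n) ^ p ^ k = 1 := by rw [← pow_mul, mul_comm, ← hN, pow_orderOf_eq_one]
  have split : ∀ {A B : ℕ}, (h ^ p ^ k) ^ A = 1 → (h ^ n) ^ B = 1 → orderOf h ∣ B * A := fun {A B} e e' => by
    rw [hN]
    rw [← pow_mul, ← orderOf_dvd_iff_pow_eq_one, hN] at e e'
    refine Nat.mul_dvd_mul ?_ ?_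
    · exact ((hcop.pow_left k)).dvd_of_dvd_mul_left ((dvd_mul_right _ _).trans e')
    · exact ((hcop.symm.pow_right k)).dvd_of_dvd_mul_left ((dvd_mul_left _ _).trans e)
  by_cases hs1 : h ^ p ^ k = 1
  · obtain ⟨e2, e7⟩ := pow_unip h2F huK
    by_cases h35 : p = 3 ∨ p = 5
    · refine ⟨p ^ 2, Or.inr (by rw [if_pos h35]; rfl), ?_⟩
      simpa using split (A := 1) (by rw [pow_one, hs1]) e2
    · refine ⟨p * (q - 1), Or.inl (by simp), ?_⟩
      have h7 : 7 ≤ p := by
        by_contra hlt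
        interval_cases p <;> first | omega | (norm_num at hpr)
      exact (split (A := 1) (by rw [pow_one, hs1]) (e7 h7)).trans (Nat.mul_dvd_mul_left p (one_dvd _))
  -- over the algebraic closure
  let K := AlgebraicClosure F
  haveI : CharP K p := charP_of_injective_algebraMap (algebraMap F K).injective p
  have h2 : (2 : K) ≠ 0 := by
    rw [← map_ofNat (algebraMap F K) 2]
    exact (map_ne_zero_iff _ (algebraMap F K).injective).2 h2F
  have hn1 : (n : K) ≠ 0 := fun e => hnp ((CharP.cast_eq_zero_iff K p n).1 e)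
  set ι := algebraMap F K
  obtain ⟨g, a, b, c, hP, hd⟩ := exists_diag (G2Spec.mapG ι (h ^ p ^ k)) h2 hn1
    (by rw [← map_pow, hsN, map_one])
  set φ : G2 F →* G2 K := (MulAut.conj g).toMonoidHom.comp (G2Spec.mapG ι) with hφ
  have hφi : Function.Injective φ := (MulAut.conj g).injective.comp (G2Spec.mapG_injective ι)
  have hφs : (φ (h ^ p ^ k)).1.1 = Matrix.diagonal (dd a b c) := hd
  -- stability under the Frobenius power
  obtain ⟨e, -, hpe⟩ := FiniteField.card F p
  have hq : q = p ^ (e : ℕ) := hpe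
  set fr : K →+* K := iterateFrobenius K p (e : ℕ) with hfr
  have hfr' : ∀ x, fr x = x ^ q := fun x => by rw [hfr, iterateFrobenius_def, hq]
  have hchar : Matrix.charpoly (Matrix.diagonal (dd a b c)) =
      ((h ^ p ^ k).1.1.charpoly).map ι := by
    rw [← hφs, ← Matrix.charpoly_map]
    rw [hφ, MonoidHom.comp_apply, MulEquiv.coe_toMonoidHom, MulAut.conj_apply, Subgroup.coe_mul,
      Subgroup.coe_mul, Subgroup.coe_inv, Units.val_mul, Units.val_mul, G2Spec.mapG_val,
      Matrix.coe_units_inv, Matrix.charpoly_units_conj]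
  have hmult : (Finset.univ.val.map fun i => dd a b c i).map fr = Finset.univ.val.map fun i => dd a b c i := by
    have hfix : (Matrix.charpoly (Matrix.diagonal (dd a b c))).map fr = Matrix.charpoly (Matrix.diagonal (dd a b c)) := by
      rw [hchar, Polynomial.map_map]
      congr 1
      ext x
      rw [RingHom.comp_apply, hfr', ← map_pow, hqdef, FiniteField.pow_card]
    rw [Matrix.charpoly_diagonal, Polynomial.map_prod] at hfix
    simp only [Polynomial.map_sub, Polynomial.map_X, Polynomial.map_C] at hfix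
    have := congrArg Polynomial.roots hfix
    rw [Finset.prod_eq_multiset_prod, Finset.prod_eq_multiset_prod] at this
    rw [show (Finset.univ.val.map fun i => Polynomial.X - Polynomial.C (fr (dd a b c i))) =
        ((Finset.univ.val.map fun i => fr (dd a b c i)).map fun z => Polynomial.X - Polynomial.C z) by
          rw [Multiset.map_map]; rfl,
      show (Finset.univ.val.map fun i => Polynomial.X - Polynomial.C (dd a b c i)) =
        ((Finset.univ.val.map fun i => dd a b c i).map fun z => Polynomial.X - Polynomial.C z) by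
          rw [Multiset.map_map]; rfl,
      Polynomial.roots_multiset_prod_X_sub_C, Polynomial.roots_multiset_prod_X_sub_C] at this
    rw [Multiset.map_map]
    exact this
  have hcnt : ∀ x, cnt a b c x = Multiset.count x (Finset.univ.val.map fun i => dd a b c i) := fun x => by
    rw [cnt, Multiset.count_map]
    rw [Finset.card_def, Finset.filter_val]
    congr 1
    exact Multiset.filter_congr fun i _ => eq_comm
  have hqpos : 0 < q := Fintype.card_pos
  have hS : Stable q a b c := by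
    refine ⟨hP, fun x => ?_, fun x hx => fr.injective ?_, hqpos⟩
    · rw [hcnt, hcnt, ← hfr']
      conv_lhs => rw [← hmult]
      exact Multiset.count_map_eq_count' _ _ fr.injective _
    · rw [hfr', hx, map_one]
  have hne : ¬ (a = 1 ∧ b = 1) := fun ⟨ha, hb⟩ => hs1 (hφi (by
    rw [map_one]
    refine Subtype.ext (Units.ext ?_)
    rw [hφs]
    show _ = (1 : Matrix (Fin 8) (Fin 8) K)
    have hc : c = 1 := by simpa [ha, hb] using hP
    rw [ha, hb, hc, ← Matrix.diagonal_one]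
    congr 1
    funext i; fin_cases i <;> simp [dd]))
  have hsA : ∀ {A : ℕ}, a ^ A = 1 → b ^ A = 1 → (h ^ p ^ k) ^ A = 1 := fun {A} ea eb => hφi (by
    rw [map_pow, map_one]
    refine Subtype.ext (Units.ext ?_)
    rw [SubmonoidClass.coe_pow, Units.val_pow_eq_pow_val, hφs, Matrix.diagonal_pow]
    show _ = (1 : Matrix (Fin 8) (Fin 8) K)
    have ec : c ^ A = 1 := by simpa [mul_pow, ea, eb] using congrArg (· ^ A) hP
    rw [← Matrix.diagonal_one]
    congr 1
    funext i; fin_cases i <;> simp [dd, Pi.pow_apply, ea, eb, ec])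
  have hcomm : (φ (h ^ n)).1.1 * Matrix.diagonal (dd a b c) = Matrix.diagonal (dd a b c) * (φ (h ^ n)).1.1 := by
    rw [← hφs]
    exact congrArg (fun z : G2 K => z.1.1) (((Commute.pow_pow_self h n (p ^ k)).map φ).eq)
  have hvk : (φ (h ^ n)).1.1 ^ p ^ k = 1 := by
    have := congrArg (fun z : G2 K => z.1.1) (congrArg φ huK)
    simpa [map_pow] using this
  have hqo : Odd q := hq ▸ hpo.pow
  have hcomm' : Commute (φ (h ^ n)) (φ (h ^ p ^ k)) := (Commute.pow_pow_self h n (p ^ k)).map φ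
  -- small weight spaces are fixed by powers
  have hfix : ∀ (t : ℕ) (i : Fin 8), cnt a b c (dd a b c i) ≤ p ^ t →
      ((φ ((h ^ n) ^ p ^ t))).1.1 *ᵥ Pi.single i 1 = Pi.single i 1 := fun t i hi => by
    rw [map_pow φ (h ^ n), SubmonoidClass.coe_pow, Units.val_pow_eq_pow_val]
    refine pow_fix hcomm hvk ?_
    exact le_trans (le_of_eq (by rw [cnt])) hi
  obtain ⟨ha0, hb0, hc0⟩ := hS.ne_zero
  have hmul : ∀ {N B : ℕ}, a ^ N = 1 → b ^ N = 1 → (h ^ n) ^ B = 1 → orderOf h ∣ B * N :=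
    fun e1 e2 e3 => split (hsA e1 e2) e3
  by_cases hR : G2OddWeights.Rep a b c
  · obtain ⟨N, hN', e1, e2⟩ := G2OddWeights.of_rep hS hqo hR
    have hu : (h ^ n) ^ p = 1 := by
      by_cases hI : (a = -1 ∧ b = -1) ∨ (a = -1 ∧ c = -1) ∨ (b = -1 ∧ c = -1)
      · refine hφi ?_
        rw [map_pow, map_one]
        exact pow_eq_one_of_two_neg h2 hP hφs hI hcomm' (k := k) (by rw [← map_pow, huK, map_one])
      have key : ∀ i, dd a b c i ≠ 1 → (φ ((h ^ n) ^ p)).1.1 *ᵥ Pi.single i 1 = Pi.single i 1 := fun i hi => by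
        simpa using hfix 1 i (by rw [pow_one]; exact (G2OddWeights.cnt_le_three hS hI hi).trans hp3)
      refine hφi ?_
      rw [map_one]
      refine eq_one_of_fix _ ?_
      have wa : a ≠ 1 → dd a b c 1 ≠ 1 ∧ dd a b c 4 ≠ 1 := fun e => by simp [dd, e]
      have wb : b ≠ 1 → dd a b c 2 ≠ 1 ∧ dd a b c 5 ≠ 1 := fun e => by simp [dd, e]
      have wc : c ≠ 1 → dd a b c 3 ≠ 1 ∧ dd a b c 6 ≠ 1 := fun e => by simp [dd, e]
      by_cases ha : a = 1
      · have hb : b ≠ 1 := fun e => hne ⟨ha, e⟩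
        have hc : c ≠ 1 := fun e => hb (by simpa [ha, e] using hP)
        exact Or.inr (Or.inr ⟨key _ (wb hb).1, key _ (wb hb).2, key _ (wc hc).1, key _ (wc hc).2⟩)
      by_cases hb : b = 1
      · have hc : c ≠ 1 := fun e => ha (by simpa [hb, e] using hP)
        exact Or.inr (Or.inl ⟨key _ (wa ha).1, key _ (wa ha).2, key _ (wc hc).1, key _ (wc hc).2⟩)
      exact Or.inl ⟨key _ (wa ha).1, key _ (wa ha).2, key _ (wb hb).1, key _ (wb hb).2⟩
    refine ⟨p * N, Or.inl (by rcases hN' with rfl | rfl <;> simp), hmul e1 e2 hu⟩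
  obtain ⟨N, hN', e1, e2⟩ := G2OddWeights.of_not_rep hS hqo hR
  have hu : (h ^ n) ^ 1 = 1 := by
    have key : ∀ i, dd a b c i ≠ 1 → dd a b c i ≠ -1 →
        (φ (h ^ n)).1.1 *ᵥ Pi.single i 1 = Pi.single i 1 := fun i hi hi' => by
      simpa using hfix 0 i (by rw [pow_zero]; exact G2OddWeights.cnt_le_one hS hR hi hi')
    simp only [G2OddWeights.Rep, not_or] at hR
    obtain ⟨ha1, hb1, hc1, hab, hac, hbc⟩ := hR
    have w : ∀ x : K, x ≠ 1 → x ≠ -1 → x⁻¹ ≠ 1 ∧ x⁻¹ ≠ -1 := fun x h1 h1' =>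
      ⟨fun e => h1 (inv_eq_one.1 e), fun e => h1' (by rw [← inv_inv x, e, inv_neg, inv_one])⟩
    have wa : a ≠ -1 → (φ (h ^ n)).1.1 *ᵥ Pi.single 1 1 = Pi.single 1 1 ∧
        (φ (h ^ n)).1.1 *ᵥ Pi.single 4 1 = Pi.single 4 1 := fun e =>
      ⟨key 1 (by simp [dd, ha1]) (by simp [dd, e]), key 4 (by simp [dd, ha1]) (by simpa [dd] using (w a ha1 e).2)⟩
    have wb : b ≠ -1 → (φ (h ^ n)).1.1 *ᵥ Pi.single 2 1 = Pi.single 2 1 ∧
        (φ (h ^ n)).1.1 *ᵥ Pi.single 5 1 = Pi.single 5 1 := fun e =>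
      ⟨key 2 (by simp [dd, hb1]) (by simp [dd, e]), key 5 (by simp [dd, hb1]) (by simpa [dd] using (w b hb1 e).2)⟩
    have wc : c ≠ -1 → (φ (h ^ n)).1.1 *ᵥ Pi.single 3 1 = Pi.single 3 1 ∧
        (φ (h ^ n)).1.1 *ᵥ Pi.single 6 1 = Pi.single 6 1 := fun e =>
      ⟨key 3 (by simp [dd, hc1]) (by simp [dd, e]), key 6 (by simp [dd, hc1]) (by simpa [dd] using (w c hc1 e).2)⟩
    rw [pow_one]
    refine hφi ?_
    rw [map_one]
    refine eq_one_of_fix _ ?_
    by_cases ha : a = -1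
    · have hb : b ≠ -1 := fun e => hab (ha.trans e.symm)
      have hc : c ≠ -1 := fun e => hac (ha.trans e.symm)
      exact Or.inr (Or.inr ⟨(wb hb).1, (wb hb).2, (wc hc).1, (wc hc).2⟩)
    by_cases hb : b = -1
    · have hc : c ≠ -1 := fun e => hbc (hb.trans e.symm)
      exact Or.inr (Or.inl ⟨(wa ha).1, (wa ha).2, (wc hc).1, (wc hc).2⟩)
    exact Or.inl ⟨(wa ha).1, (wa ha).2, (wb hb).1, (wb hb).2⟩
  refine ⟨N, Or.inl (by rcases hN' with rfl | rfl | rfl <;> simp), ?_⟩
  simpa using hmul e1 e2 hu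

end CfsgLib.Lie.G2Odd
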